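import Cfsg.Agent.Lib.CFun.CoprimeQuad.Fixed

/-!
# Opposite pairs of square zero elements, their tori and flag groups
-/

set_option autoImplicit false
set_option linter.style.haveILetI false
set_option linter.unusedSectionVars false

namespace CfsgLib.EquivZJ

open Cfsg CfsgLib.QuadPair CfsgLib.CoprimeQuad
open scoped MatrixGroups

variable {k : Type*} [Field k] {M : Type*} [AddCommGroup M] [Module k M] [FiniteDimensional k M]

/-- The standing hypotheses on a finite linear group. -/
structure Ctx (p : ℕ) (H : Subgroup (LinearMap.GeneralLinearGroup k M)) : Prop where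
  setting : Setting p k
  core : Cfsg.pCore p ↥H = ⊥
  field : ∀ c : k, ∃ n : ℕ, (n : k) = c

variable {H : Subgroup (LinearMap.GeneralLinearGroup k M)} {p : ℕ}

theorem mem_oneAdd_of_family {x : M →ₗ[k] M} (hx : x * x = 0) (h : HasFamily H x) (c : k) :
    oneAdd (c • x) (smul_sq hx c) ∈ H := by
  obtain ⟨u, hu, eu⟩ := h c
  rwa [show oneAdd (c • x) (smul_sq hx c) = u from Units.ext (by rw [eu]; rfl)]

theorem mem_oneAdd_of_family' {x : M →ₗ[k] M} (hx : x * x = 0) (h : HasFamily H x) : oneAdd x hx ∈ H := by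
  obtain ⟨u, hu, eu⟩ := h 1
  rwa [show oneAdd x hx = u from Units.ext (by rw [eu, one_smul]; rfl)]

theorem hasFamily_smul {x : M →ₗ[k] M} (h : HasFamily H x) (s : k) : HasFamily H (s • x) := fun c => by
  obtain ⟨u, hu, eu⟩ := h (c * s)
  exact ⟨u, hu, by rw [eu, smul_smul]⟩

theorem hasFamily_of_smul {x : M →ₗ[k] M} {s : k} (hs : s ≠ 0) (h : HasFamily H (s • x)) : HasFamily H x := by
  have := hasFamily_smul h s⁻¹
  rwa [inv_smul_smul₀ hs] at this

theorem hasFamily_mono {K : Subgroup (LinearMap.GeneralLinearGroup k M)} (hle : H ≤ K) {x : M →ₗ[k] M}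
    (h : HasFamily H x) : HasFamily K x := fun c => by
  obtain ⟨u, hu, eu⟩ := h c
  exact ⟨u, hle hu, eu⟩

/-- Over a prime field the powers of a square zero element form its family. -/
theorem Ctx.fam {K : Subgroup (LinearMap.GeneralLinearGroup k M)} (C : Ctx p H)
    (u : LinearMap.GeneralLinearGroup k M) (hu : u ∈ K) (h : alpha u * alpha u = 0) : HasFamily K (alpha u) := by
  have key : ∀ n : ℕ, ((u ^ n : LinearMap.GeneralLinearGroup k M) : M →ₗ[k] M) = 1 + (n : k) • alpha u := by
    intro n
    induction n with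
    | zero => simp
    | succ n ih =>
      rw [pow_succ, Units.val_mul, ih, alpha_add_one u, add_mul, mul_add, one_mul, mul_add, mul_one,
        smul_mul_assoc, h, smul_zero, add_zero, Nat.cast_succ, add_smul, one_smul, one_mul]
      abel
  intro c
  obtain ⟨n, hn⟩ := C.field c
  exact ⟨u ^ n, pow_mem hu n, by rw [key, hn]⟩

theorem Ctx.quad {K : Subgroup (LinearMap.GeneralLinearGroup k M)} (C : Ctx p H)
    {u : LinearMap.GeneralLinearGroup k M} (hu : u ∈ K) (h : alpha u * alpha u = 0) (h0 : alpha u ≠ 0) :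
    u ∈ quadraticElements K := by
  refine ⟨hu, ⟨h, h0⟩, ?_⟩
  rintro x ⟨c, hc⟩
  obtain ⟨y, hy, ey⟩ := C.fam u hu h c
  rwa [show x = y from Units.ext (by rw [hc, ey]; rfl)]

theorem inv_val_sub {u : LinearMap.GeneralLinearGroup k M} (hu : alpha u * alpha u = 0) :
    ((u⁻¹ : LinearMap.GeneralLinearGroup k M) : M →ₗ[k] M) = 1 - alpha u := inv_val_of_sq u hu

theorem eq_of_alpha {u v : LinearMap.GeneralLinearGroup k M} (h : alpha u = alpha v) : u = v :=
  Units.ext (by rw [alpha_add_one u, alpha_add_one v, h])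

theorem alpha_conjEnd (g x : LinearMap.GeneralLinearGroup k M) :
    alpha (g * x * g⁻¹) = conjEnd g (alpha x) := alpha_conj g x

theorem conjEnd_smul (g : LinearMap.GeneralLinearGroup k M) (c : k) (x : M →ₗ[k] M) :
    conjEnd g (c • x) = c • conjEnd g x := by
  simp only [conjEnd, mul_smul_comm, smul_mul_assoc]

theorem conjEnd_add (g : LinearMap.GeneralLinearGroup k M) (x y : M →ₗ[k] M) :
    conjEnd g (x + y) = conjEnd g x + conjEnd g y := by
  simp only [conjEnd, mul_add, add_mul]

theorem conjEnd_sub (g : LinearMap.GeneralLinearGroup k M) (x y : M →ₗ[k] M) :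
    conjEnd g (x - y) = conjEnd g x - conjEnd g y := by
  simp only [conjEnd, mul_sub, sub_mul]

theorem conjEnd_zero (g : LinearMap.GeneralLinearGroup k M) : conjEnd g (0 : M →ₗ[k] M) = 0 := by
  simp [conjEnd]

theorem conjEnd_of_comm {g x : LinearMap.GeneralLinearGroup k M} (h : g * x = x * g) :
    conjEnd g (alpha x) = alpha x := by
  rw [← alpha_conjEnd, h, mul_inv_cancel_right]

theorem comm_of_conjEnd {g x : LinearMap.GeneralLinearGroup k M} (h : conjEnd g (alpha x) = alpha x) :
    g * x = x * g := by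
  rw [← alpha_conjEnd] at h
  exact mul_inv_eq_iff_eq_mul.1 (eq_of_alpha h)

theorem exists_torus_scalar (S : Setting p k) :
    ∃ c : k, c ≠ 0 ∧ c * c ≠ 1 ∧ c * c * c ≠ 1 ∧ c ^ (p - 1) = 1 := by
  haveI := S.char
  haveI : Fact p.Prime := ⟨S.prime⟩
  have h5 := S.five_le
  have hcast : ∀ n : ℕ, 0 < n → n < p → (n : k) ≠ 0 := fun n h0 hn h => by
    have := Nat.le_of_dvd h0 ((CharP.cast_eq_zero_iff k p n).1 h)
    omega
  have hfer : ∀ n : ℕ, (n : k) ≠ 0 → (n : k) ^ (p - 1) = 1 := by
    intro n hn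
    haveI : ExpChar k p := ExpChar.prime S.prime
    have h4 : (n : k) ^ (p - 1) * n = 1 * n := by
      rw [← pow_succ, Nat.sub_add_cancel S.prime.pos, one_mul, ← frobenius_def, map_natCast]
    exact mul_right_cancel₀ hn h4
  have e2 : ((2 : ℕ) : k) ≠ 0 := hcast 2 (by omega) (by omega)
  have e3 : ((3 : ℕ) : k) ≠ 0 := hcast 3 (by omega) (by omega)
  push_cast at e2 e3
  by_cases h8 : (2 : k) * 2 * 2 = 1
  · -- then `p = 7`
    have h7 : ((7 : ℕ) : k) = 0 := by push_cast; linear_combination h8
    have hp7 : p = 7 := (Nat.prime_dvd_prime_iff_eq S.prime (by norm_num)).1 ((CharP.cast_eq_zero_iff k p 7).1 h7)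
    refine ⟨3, e3, fun h => ?_, fun h => ?_, by exact_mod_cast hfer 3 (by exact_mod_cast e3)⟩
    · push_cast at h7
      exact one_ne_zero (show (1 : k) = 0 by linear_combination h - h7)
    · push_cast at h7
      exact mul_ne_zero e2 e2 (show (2 : k) * 2 = 0 by linear_combination (-2 : k) * h + (8 : k) * h7)
  · refine ⟨2, e2, fun h => ?_, h8, by exact_mod_cast hfer 2 (by exact_mod_cast e2)⟩
    exact e3 (by linear_combination h)

/-- An element opposite to `q` inside `H`. -/
structure Opp (H : Subgroup (LinearMap.GeneralLinearGroup k M)) (q v : LinearMap.GeneralLinearGroup k M) :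
    Prop where
  mem : v ∈ H
  sq : alpha v * alpha v = 0
  left : alpha q * alpha v * alpha q = alpha q
  right : alpha v * alpha q * alpha v = alpha v

variable {q v : LinearMap.GeneralLinearGroup k M}

theorem Opp.symm (h : Opp H q v) (hq : q ∈ H) (hq2 : alpha q * alpha q = 0) : Opp H v q :=
  ⟨hq, hq2, h.right, h.left⟩

theorem Opp.mono {K : Subgroup (LinearMap.GeneralLinearGroup k M)} (h : Opp H q v) (hle : H ≤ K) : Opp K q v :=
  ⟨hle h.mem, h.sq, h.left, h.right⟩

theorem Opp.conj (h : Opp H q v) {g : LinearMap.GeneralLinearGroup k M}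
    (hg : g ∈ Subgroup.normalizer (H : Set (LinearMap.GeneralLinearGroup k M))) :
    Opp H (g * q * g⁻¹) (g * v * g⁻¹) := by
  refine ⟨(Subgroup.mem_normalizer_iff.1 hg v).1 h.mem, ?_, ?_, ?_⟩ <;>
    simp only [alpha_conjEnd, ← conjEnd_mul_end, h.sq, h.left, h.right, conjEnd_zero]

theorem Opp.ne_zero (h : Opp H q v) (hq : alpha q ≠ 0) : alpha v ≠ 0 := fun e => hq (by
  rw [← h.left, e, mul_zero, zero_mul])

/-- The torus element of an opposite pair. -/
noncomputable def torus (hq : alpha q * alpha q = 0) (h : Opp H q v) (c : k) (hc : c ≠ 0) :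
    LinearMap.GeneralLinearGroup k M :=
  unitsHom hq h.sq h.left h.right (diagSL c hc)

theorem torus_val (hq : alpha q * alpha q = 0) (h : Opp H q v) (c : k) (hc : c ≠ 0) :
    (torus hq h c hc : M →ₗ[k] M) =
      1 + (c - 1) • (alpha q * alpha v) + (c⁻¹ - 1) • (alpha v * alpha q) := by
  rw [torus, unitsHom_diag_val]; module

theorem torus_congr (hq : alpha q * alpha q = 0) (h : Opp H q v) {c d : k} (hc : c ≠ 0) (hd : d ≠ 0) (e : c = d) :
    torus hq h c hc = torus hq h d hd := by subst e; rfl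

theorem torus_pow (hq : alpha q * alpha q = 0) (h : Opp H q v) (c : k) (hc : c ≠ 0) (n : ℕ) :
    torus hq h c hc ^ n = torus hq h (c ^ n) (pow_ne_zero n hc) := by
  rw [torus, torus, ← map_pow, diagSL_pow]

theorem torus_inv (hq : alpha q * alpha q = 0) (h : Opp H q v) (c : k) (hc : c ≠ 0) :
    (torus hq h c hc)⁻¹ = torus hq h c⁻¹ (inv_ne_zero hc) := by
  rw [torus, torus, ← map_inv, diagSL_inv]

theorem torus_one (hq : alpha q * alpha q = 0) (h : Opp H q v) (h1 : (1 : k) ≠ 0) : torus hq h 1 h1 = 1 := by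
  rw [torus, diagSL_one, map_one]

theorem torus_pow_eq_one (hq : alpha q * alpha q = 0) (h : Opp H q v) {c : k} (hc : c ≠ 0) {n : ℕ}
    (e : c ^ n = 1) : torus hq h c hc ^ n = 1 := by
  rw [torus_pow, torus_congr hq h _ one_ne_zero e, torus_one]

theorem Ctx.mem_units (C : Ctx p H) (hqH : q ∈ H) (hq : alpha q * alpha q = 0) (h : Opp H q v) (g : SL(2, k)) :
    unitsHom hq h.sq h.left h.right g ∈ H :=
  unitsHom_mem _ _ _ _ (fun t => mem_oneAdd_of_family hq (C.fam q hqH hq) t)
    (fun t => mem_oneAdd_of_family h.sq (C.fam v h.mem h.sq) t) g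

theorem Ctx.torus_mem (C : Ctx p H) (hqH : q ∈ H) (hq : alpha q * alpha q = 0) (h : Opp H q v) (c : k)
    (hc : c ≠ 0) : torus hq h c hc ∈ H :=
  C.mem_units hqH hq h _

theorem torus_hasChar (hq : alpha q * alpha q = 0) (h : Opp H q v) (c : k) (hc : c ≠ 0) :
    HasChar q (torus hq h c hc) c :=
  hasChar_units hq h.sq h.left h.right c hc

/-- An element commuting with the torus element commutes with both idempotents. -/
theorem comm_idem_of_comm_torus (hq : alpha q * alpha q = 0) (h : Opp H q v) {c : k} (hc : c ≠ 0)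
    (hc2 : c * c ≠ 1) {g : M →ₗ[k] M}
    (hg : g * (torus hq h c hc : M →ₗ[k] M) = (torus hq h c hc : M →ₗ[k] M) * g) :
    g * (alpha q * alpha v) = alpha q * alpha v * g ∧ g * (alpha v * alpha q) = alpha v * alpha q * g := by
  have T := orthoTriple_of_units hq h.sq h.left h.right
  set e := alpha q * alpha v with hedef
  set f := alpha v * alpha q with hfdef
  set t := (torus hq h c hc : M →ₗ[k] M) with ht
  have hc1 : c - 1 ≠ 0 := fun e => hc2 (by rw [sub_eq_zero.1 e, one_mul])
  have hci : c⁻¹ - 1 ≠ 0 := fun e => hc1 (by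
    rw [sub_eq_zero, inv_eq_one] at e
    rw [e, sub_self])
  have hcc : c - c⁻¹ ≠ 0 := fun e => hc2 (by
    rw [sub_eq_zero] at e
    nth_rewrite 1 [e]
    exact inv_mul_cancel₀ hc)
  have key : ∀ s : k, (t - 1) * (t - s • 1) = ((c - 1) * (c - s)) • e + ((c⁻¹ - 1) * (c⁻¹ - s)) • f := by
    intro s
    rw [ht, torus_val, ← hedef, ← hfdef]
    simp only [mul_add, add_mul, mul_sub, sub_mul, smul_mul_assoc, mul_smul_comm, mul_one,
      one_mul, smul_smul, T.pp, T.qq, T.pq, T.qp, smul_zero, add_zero, zero_add]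
    match_scalars <;> ring
  have hcomm : Commute g t := hg
  have hct : ∀ s : k, Commute g ((t - 1) * (t - s • 1)) := fun s =>
    (hcomm.sub_right (Commute.one_right _)).mul_right (hcomm.sub_right ((Commute.one_right _).smul_right s))
  constructor
  · have h5 := hct c⁻¹
    rw [key, sub_self, mul_zero, zero_smul, add_zero] at h5
    have h6 := h5.smul_right ((c - 1) * (c - c⁻¹))⁻¹
    rw [inv_smul_smul₀ (mul_ne_zero hc1 hcc)] at h6
    exact h6.eq
  · have h5 := hct c
    rw [key, sub_self, mul_zero, zero_smul, zero_add] at h5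
    have h6 := h5.smul_right ((c⁻¹ - 1) * (c⁻¹ - c))⁻¹
    rw [inv_smul_smul₀ (mul_ne_zero hci (fun e => hcc (by linear_combination -e)))] at h6
    exact h6.eq

theorem comm_torus_of_comm_idem (hq : alpha q * alpha q = 0) (h : Opp H q v) (c : k) (hc : c ≠ 0)
    {g : LinearMap.GeneralLinearGroup k M} (he : conjEnd g (alpha q * alpha v) = alpha q * alpha v)
    (hf : conjEnd g (alpha v * alpha q) = alpha v * alpha q) :
    g * torus hq h c hc = torus hq h c hc * g := by
  refine Units.ext ?_
  rw [Units.val_mul, Units.val_mul, torus_val]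
  exact (((Commute.one_right _).add_right ((show Commute _ _ from conjEnd_eq_iff.1 he).smul_right _)).add_right
    ((show Commute _ _ from conjEnd_eq_iff.1 hf).smul_right _)).eq

/-- Two opposites with the same idempotents are equal. -/
theorem opp_eq_of_idem {v' : LinearMap.GeneralLinearGroup k M} (h : Opp H q v) (h' : Opp H q v')
    (he : alpha q * alpha v = alpha q * alpha v') (hf : alpha v * alpha q = alpha v' * alpha q) : v = v' := by
  refine eq_of_alpha ?_
  rw [← h.right, hf, mul_assoc, he, ← mul_assoc, h'.right]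

/-! ### Characters on a flag -/

theorem HasChar.congr {g q' : LinearMap.GeneralLinearGroup k M} {c : k}
    (hr : LinearMap.range (alpha q') = LinearMap.range (alpha q))
    (hk : LinearMap.ker (alpha q') = LinearMap.ker (alpha q)) (h : HasChar q g c) : HasChar q' g c := by
  unfold HasChar
  rw [hr, hk]
  exact h

theorem HasChar.conj {g h : LinearMap.GeneralLinearGroup k M} {c : k} (hg : HasChar q g c) :
    HasChar (h * q * h⁻¹) (h * g * h⁻¹) c := by
  have e : ∀ z, ((h * g * h⁻¹ : LinearMap.GeneralLinearGroup k M) : M →ₗ[k] M) z =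
      (h : M →ₗ[k] M) ((g : M →ₗ[k] M) (((h⁻¹ : LinearMap.GeneralLinearGroup k M) : M →ₗ[k] M) z)) :=
    fun z => by rw [Units.val_mul, Units.val_mul]; rfl
  refine ⟨fun z hz => ?_, fun z hz => ?_, fun z => ?_⟩ <;> rw [e]
  · rw [range_alpha_conj] at hz
    obtain ⟨w, hw, rfl⟩ := hz
    rw [inv_apply_apply, hg.1 w hw, map_smul]
  · rw [mem_ker_alpha_conj] at hz
    rw [range_alpha_conj]
    exact ⟨_, hg.2.1 _ hz, by rw [map_sub, apply_inv_apply]⟩
  · rw [mem_ker_alpha_conj, map_sub, map_smul, inv_apply_apply]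
    exact hg.2.2 _

/-- `h` preserves the flag of `q`. -/
def FlagStable (q h : LinearMap.GeneralLinearGroup k M) : Prop :=
  LinearMap.range (alpha (h * q * h⁻¹)) = LinearMap.range (alpha q) ∧
    LinearMap.ker (alpha (h * q * h⁻¹)) = LinearMap.ker (alpha q)

theorem flagStable_of_comm {h : LinearMap.GeneralLinearGroup k M} (hc : h * q = q * h) : FlagStable q h := by
  unfold FlagStable
  rw [hc, mul_inv_cancel_right]
  exact ⟨rfl, rfl⟩

theorem flagStable_of_scalar {h : LinearMap.GeneralLinearGroup k M} {s : k} (hs : s ≠ 0)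
    (hc : conjEnd h (alpha q) = s • alpha q) : FlagStable q h := by
  unfold FlagStable
  rw [alpha_conjEnd, hc]
  exact ⟨LinearMap.range_smul _ _ hs, LinearMap.ker_smul _ _ hs⟩

theorem HasChar.conj_stable {g h : LinearMap.GeneralLinearGroup k M} {c : k} (hg : HasChar q g c)
    (hh : FlagStable q h) : HasChar q (h * g * h⁻¹) c :=
  HasChar.congr hh.1.symm hh.2.symm (HasChar.conj hg)

theorem HasChar.inv [Finite (LinearMap.GeneralLinearGroup k M)] (hq : alpha q * alpha q = 0)
    {g : LinearMap.GeneralLinearGroup k M} (hg : HasChar q g 1) : HasChar q g⁻¹ 1 := by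
  have e : g⁻¹ = g ^ (orderOf g - 1) := inv_eq_of_mul_eq_one_right (by
    rw [← pow_succ', Nat.sub_add_cancel (orderOf_pos g), pow_orderOf_eq_one])
  rw [e]
  simpa using hg.pow hq (orderOf g - 1)

/-- The elements of `H` trivial on the three layers of the flag of `q`. -/
def flagGroup (H : Subgroup (LinearMap.GeneralLinearGroup k M)) (q : LinearMap.GeneralLinearGroup k M) :
    Subgroup (LinearMap.GeneralLinearGroup k M) :=
  Subgroup.closure {g | g ∈ H ∧ HasChar q g 1}

theorem flagGroup_le : flagGroup H q ≤ H := (Subgroup.closure_le _).2 fun _ h => h.1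

theorem mem_flagGroup [Finite (LinearMap.GeneralLinearGroup k M)] (hq : alpha q * alpha q = 0)
    {g : LinearMap.GeneralLinearGroup k M} : g ∈ flagGroup H q ↔ g ∈ H ∧ HasChar q g 1 := by
  refine ⟨fun hg => ?_, fun h => Subgroup.subset_closure h⟩
  induction hg using Subgroup.closure_induction with
  | mem y hy => exact hy
  | one => exact ⟨one_mem H, HasChar.one⟩
  | mul a b _ _ ha hb => exact ⟨mul_mem ha.1 hb.1, by simpa using ha.2.mul hq hb.2⟩
  | inv a _ ha => exact ⟨inv_mem ha.1, HasChar.inv hq ha.2⟩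

theorem flagGroup_congr {q' : LinearMap.GeneralLinearGroup k M}
    (hr : LinearMap.range (alpha q') = LinearMap.range (alpha q))
    (hk : LinearMap.ker (alpha q') = LinearMap.ker (alpha q)) : flagGroup H q' = flagGroup H q := by
  unfold flagGroup HasChar
  rw [hr, hk]

theorem conj_mem_flagGroup {h g : LinearMap.GeneralLinearGroup k M}
    (hh : h ∈ Subgroup.normalizer (H : Set (LinearMap.GeneralLinearGroup k M))) (hg : g ∈ flagGroup H q) :
    h * g * h⁻¹ ∈ flagGroup H (h * q * h⁻¹) := by
  have hle : flagGroup H q ≤ (flagGroup H (h * q * h⁻¹)).comap (MulAut.conj h).toMonoidHom :=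
    (Subgroup.closure_le _).2 fun y hy => Subgroup.subset_closure
      ⟨(Subgroup.mem_normalizer_iff.1 hh y).1 hy.1, HasChar.conj hy.2⟩
  exact hle hg

theorem le_normalizer_flagGroup {A : Subgroup (LinearMap.GeneralLinearGroup k M)}
    (hA : A ≤ Subgroup.normalizer (H : Set (LinearMap.GeneralLinearGroup k M)))
    (hflag : ∀ a ∈ A, FlagStable q a) :
    A ≤ Subgroup.normalizer (flagGroup H q : Set (LinearMap.GeneralLinearGroup k M)) := by
  intro a ha
  have key : ∀ a ∈ A, ∀ g ∈ flagGroup H q, a * g * a⁻¹ ∈ flagGroup H q := fun a ha g hg => by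
    have := conj_mem_flagGroup (hA ha) hg
    rwa [flagGroup_congr (hflag a ha).1 (hflag a ha).2] at this
  rw [Subgroup.mem_normalizer_iff]
  refine fun g => ⟨key a ha g, fun hg => ?_⟩
  have := key a⁻¹ (inv_mem ha) _ hg
  simpa [mul_assoc] using this

theorem flagGroup_isPGroup [Finite (LinearMap.GeneralLinearGroup k M)] (S : Setting p k)
    (hq : alpha q * alpha q = 0) : IsPGroup p (flagGroup H q) := by
  haveI : Fact p.Prime := ⟨S.prime⟩
  haveI := S.char
  refine fun g => ⟨1, Subtype.ext ?_⟩
  rw [SubgroupClass.coe_pow, pow_one,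
    pow_char_eq_one_of_cube (by have := S.five_le; omega) ((mem_flagGroup hq).1 g.2).2.cube]
  rfl

/-- An element of the flag group commutes with `q`. -/
theorem conjEnd_flag {u : LinearMap.GeneralLinearGroup k M} (hu : HasChar q u 1) :
    conjEnd u (alpha q) = alpha q := by
  have hua : (u : M →ₗ[k] M) * alpha q = alpha q := LinearMap.ext fun m => by
    rw [Module.End.mul_apply, hu.1 _ ⟨m, rfl⟩, one_smul]
  have hau : alpha q * (u : M →ₗ[k] M) = alpha q := LinearMap.ext fun m => by
    have := LinearMap.mem_ker.1 (hu.2.2 m)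
    rw [inv_one, one_smul, map_sub, sub_eq_zero] at this
    exact this
  exact conjEnd_eq_iff.2 (hua.trans hau.symm)

/-- An element of the flag group fixing both idempotents is trivial. -/
theorem eq_one_of_flag_comm (hq : alpha q * alpha q = 0) (h : Opp H q v)
    {g : LinearMap.GeneralLinearGroup k M} (hg : HasChar q g 1)
    (he : conjEnd g (alpha q * alpha v) = alpha q * alpha v)
    (hf : conjEnd g (alpha v * alpha q) = alpha v * alpha q) : g = 1 := by
  have T := orthoTriple_of_units hq h.sq h.left h.right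
  set e := alpha q * alpha v with hedef
  set f := alpha v * alpha q with hfdef
  have ce : (g : M →ₗ[k] M) * e = e * (g : M →ₗ[k] M) := conjEnd_eq_iff.1 he
  have cf : (g : M →ₗ[k] M) * f = f * (g : M →ₗ[k] M) := conjEnd_eq_iff.1 hf
  refine eq_one_of_alpha (LinearMap.ext fun m => ?_)
  rw [LinearMap.zero_apply]
  set x := alpha g
  have hxe : x * e = e * x := by simp only [x, CfsgLib.QuadPair.alpha, sub_mul, mul_sub, ce, one_mul, mul_one]
  have hxf : x * f = f * x := by simp only [x, CfsgLib.QuadPair.alpha, sub_mul, mul_sub, cf, one_mul, mul_one]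
  have h1 : ∀ z, x z ∈ LinearMap.ker (alpha q) := fun z => by
    have := hg.2.2 z
    rwa [inv_one, one_smul] at this
  have h2 : ∀ z ∈ LinearMap.ker (alpha q), x z ∈ LinearMap.range (alpha q) := fun z hz => hg.2.1 z hz
  have xe : x * e = 0 := LinearMap.ext fun z => by
    show (g : M →ₗ[k] M) (e z) - e z = 0
    rw [hedef, Module.End.mul_apply, hg.1 _ ⟨_, rfl⟩, one_smul, sub_self]
  have fx : f * x = 0 := LinearMap.ext fun z => by
    rw [Module.End.mul_apply, hfdef, Module.End.mul_apply, LinearMap.mem_ker.1 (h1 z), map_zero, LinearMap.zero_apply]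
  set r := 1 - e - f
  have hrk : ∀ z, r z ∈ LinearMap.ker (alpha q) := fun z => by
    rw [LinearMap.mem_ker, ← Module.End.mul_apply]
    have : alpha q * r = 0 := by
      simp only [r, hedef, hfdef, mul_sub, mul_one, ← mul_assoc, hq, zero_mul, sub_zero, h.left, sub_self]
    rw [this, LinearMap.zero_apply]
  have hrx : ∀ z, r (x (r z)) = 0 := fun z => by
    obtain ⟨y, hy⟩ := h2 _ (hrk z)
    rw [← hy, ← Module.End.mul_apply]
    have : r * alpha q = 0 := by
      simp only [r, hedef, hfdef, sub_mul, one_mul, mul_assoc, hq, mul_zero, sub_zero]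
      rw [← mul_assoc (alpha q), h.left, sub_self]
    rw [this, LinearMap.zero_apply]
  have xr : x * r = r * x := by simp only [r, mul_sub, sub_mul, mul_one, one_mul, hxe, hxf]
  have xx : x = x * e + x * f + x * r := by simp only [r, mul_sub, mul_one]; abel
  have xrr : x * r = r * x * r := by rw [← xr, mul_assoc, show r * r = r from T.rr]
  rw [xx, LinearMap.add_apply, LinearMap.add_apply, xe, hxf, fx, xrr]
  simp [Module.End.mul_apply, hrx]

/-! ### The swap -/

theorem swap_val (hq : alpha q * alpha q = 0) (h : Opp H q v) :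
    ((q * v⁻¹ * q : LinearMap.GeneralLinearGroup k M) : M →ₗ[k] M) =
      1 - alpha q * alpha v - alpha v * alpha q + alpha q - alpha v := by
  rw [Units.val_mul, Units.val_mul, inv_val_sub h.sq, alpha_add_one q]
  simp only [add_mul, mul_add, mul_sub, sub_mul, one_mul, mul_one, hq, h.left]
  abel

theorem swap_inv_val (hq : alpha q * alpha q = 0) (h : Opp H q v) :
    (((q * v⁻¹ * q)⁻¹ : LinearMap.GeneralLinearGroup k M) : M →ₗ[k] M) =
      1 - alpha q * alpha v - alpha v * alpha q - alpha q + alpha v := by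
  rw [mul_inv_rev, mul_inv_rev, inv_inv, Units.val_mul, Units.val_mul, inv_val_sub hq, alpha_add_one v]
  simp only [add_mul, mul_add, mul_sub, sub_mul, one_mul, mul_one, hq, h.left, ← mul_assoc]
  abel

theorem swap_conj (hq : alpha q * alpha q = 0) (h : Opp H q v) :
    q * v⁻¹ * q * q * (q * v⁻¹ * q)⁻¹ = v⁻¹ := by
  have hb := braid hq h.sq h.left h.right
  rw [mul_inv_eq_iff_eq_mul]
  calc q * v⁻¹ * q * q = v⁻¹ * q * v⁻¹ * q := by rw [hb]
    _ = v⁻¹ * (q * v⁻¹ * q) := by group

end CfsgLib.EquivZJ
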