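import Cfsg.Agent.Lib.CFun.KSeq

/-!
# A characteristic sequence built from stable class two subgroups and abelian subgroups

Compatible with injective homomorphisms.
-/

set_option autoImplicit false

open Subgroup
open scoped commutatorElement

namespace CfsgLib.EquivZJ

open CfsgLib.CFun (cen cen_map)

variable {G : Type*} [Group G]

/-- Every element of `X` acting quadratically on the two layers of `T` acts trivially on the top one. -/
def Stable (T X : Subgroup G) : Prop :=
  ∀ y ∈ X, (∀ t ∈ T, ⁅⁅t, y⁆, y⁆ ∈ cen T) → (∀ z ∈ cen T, ⁅⁅z, y⁆, y⁆ = 1) → ∀ t ∈ T, ⁅t, y⁆ ∈ cen T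

/-- The subgroups of `S` used by the sequence relative to `X`. -/
def Eligible (S X T : Subgroup G) : Prop :=
  T ≤ S ∧ X ≤ normalizer (T : Set G) ∧ ⁅T, T⁆ ≤ centralizer (T : Set G) ∧ Stable T X

/-- The subgroup generated by the eligible subgroups. -/
def kSup (S X : Subgroup G) : Subgroup G := ⨆ (T) (_ : Eligible S X T), T

/-- The subgroup generated by the abelian subgroups of `S` normalized by `K`. -/
def oSup (S K : Subgroup G) : Subgroup G :=
  ⨆ (A : Subgroup G) (_ : A ≤ S ∧ A ≤ centralizer (A : Set G) ∧ K ≤ normalizer (A : Set G)), A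

/-- The sequence. -/
def kSeq (S : Subgroup G) : ℕ → Subgroup G
  | 0 => kSup S S
  | n + 1 => kSup S (oSup S (kSeq S n))

theorem kSup_le {S X : Subgroup G} : kSup S X ≤ S := iSup₂_le fun _ h => h.1

theorem oSup_le {S K : Subgroup G} : oSup S K ≤ S := iSup₂_le fun _ h => h.1

theorem kSeq_le (S : Subgroup G) : ∀ n, kSeq S n ≤ S
  | 0 => kSup_le
  | _ + 1 => kSup_le

theorem le_kSup {S X T : Subgroup G} (h : Eligible S X T) : T ≤ kSup S X := le_iSup₂_of_le T h le_rfl

theorem Eligible.mono {S X S' X' T : Subgroup G} (h : Eligible S X T) (hT : T ≤ S') (hX : X' ≤ X) :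
    Eligible S' X' T :=
  ⟨hT, hX.trans h.2.1, h.2.2.1, fun y hy => h.2.2.2 y (hX hy)⟩

/-- Comparison, when the eligible subgroups of the first pair lie in the second group. -/
theorem kSup_mono {S X S' X' : Subgroup G} (hS : ∀ T, Eligible S X T → T ≤ S') (hX : X' ≤ X) :
    kSup S X ≤ kSup S' X' :=
  iSup₂_le fun T h => le_kSup (h.mono (hS T h) hX)

theorem oSup_mono {S K S' K' : Subgroup G}
    (hS : ∀ A : Subgroup G, A ≤ S → A ≤ centralizer (A : Set G) → K ≤ normalizer (A : Set G) → A ≤ S')
    (hK : K' ≤ K) : oSup S K ≤ oSup S' K' :=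
  iSup₂_le fun A h => le_iSup₂_of_le A ⟨hS A h.1 h.2.1 h.2.2, h.2.1, hK.trans h.2.2⟩ le_rfl

section Map

variable {G' : Type*} [Group G'] {f : G →* G'} (hf : Function.Injective f)
include hf

theorem le_normalizer_map_iff' {X T : Subgroup G} :
    X.map f ≤ normalizer ((T.map f : Subgroup G') : Set G') ↔ X ≤ normalizer (T : Set G) := by
  rw [le_normalizer_iff_commutator_le_right, le_normalizer_iff_commutator_le_right, ← map_commutator,
    map_le_map_iff_of_injective hf]

theorem le_centralizer_map_iff {X T : Subgroup G} :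
    X.map f ≤ centralizer ((T.map f : Subgroup G') : Set G') ↔ X ≤ centralizer (T : Set G) := by
  rw [← commutator_eq_bot_iff_le_centralizer, ← commutator_eq_bot_iff_le_centralizer, ← map_commutator,
    map_eq_bot_iff_of_injective _ hf]

theorem stable_map_iff {X T : Subgroup G} : Stable (T.map f) (X.map f) ↔ Stable T X := by
  have hc : ∀ z, f z ∈ cen (T.map f) ↔ z ∈ cen T := fun z => by
    rw [← cen_map f hf T, mem_map_iff_mem hf]
  constructor
  · intro h y hy h1 h2 t ht
    rw [← hc, map_commutatorElement]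
    refine h (f y) (mem_map_of_mem f hy) ?_ ?_ _ (mem_map_of_mem f ht)
    · rintro _ ⟨t, ht, rfl⟩
      rw [← map_commutatorElement, ← map_commutatorElement, hc]
      exact h1 t ht
    · intro z hz
      rw [← cen_map f hf T] at hz
      obtain ⟨z, hz, rfl⟩ := hz
      rw [← map_commutatorElement, ← map_commutatorElement, h2 z hz, map_one]
  · rintro h _ ⟨y, hy, rfl⟩ h1 h2 _ ⟨t, ht, rfl⟩
    rw [← map_commutatorElement, hc]
    refine h y hy (fun t ht => ?_) (fun z hz => hf ?_) t ht
    · rw [← hc, map_commutatorElement, map_commutatorElement]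
      exact h1 _ (mem_map_of_mem f ht)
    · rw [map_commutatorElement, map_commutatorElement, map_one]
      exact h2 _ ((hc z).2 hz)

theorem eligible_map_iff {S X T : Subgroup G} : Eligible (S.map f) (X.map f) (T.map f) ↔ Eligible S X T := by
  unfold Eligible
  rw [map_le_map_iff_of_injective hf, le_normalizer_map_iff' hf, ← map_commutator, le_centralizer_map_iff hf,
    stable_map_iff hf]

theorem kSup_map (S X : Subgroup G) : (kSup S X).map f = kSup (S.map f) (X.map f) := by
  refine le_antisymm ?_ (iSup₂_le fun T hT => ?_)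
  · simp only [kSup, Subgroup.map_iSup]
    exact iSup₂_le fun T hT => le_iSup₂_of_le (T.map f) ((eligible_map_iff hf).2 hT) le_rfl
  · have e : (T.comap f).map f = T := map_comap_eq_self (hT.1.trans (map_le_range f S))
    rw [← e] at hT ⊢
    exact map_mono (le_kSup ((eligible_map_iff hf).1 hT))

theorem oSup_map (S K : Subgroup G) : (oSup S K).map f = oSup (S.map f) (K.map f) := by
  refine le_antisymm ?_ (iSup₂_le fun A hA => ?_)
  · simp only [oSup, Subgroup.map_iSup]
    exact iSup₂_le fun A hA => le_iSup₂_of_le (A.map f) ⟨map_mono hA.1, (le_centralizer_map_iff hf).2 hA.2.1,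
      (le_normalizer_map_iff' hf).2 hA.2.2⟩ le_rfl
  · have e : (A.comap f).map f = A := map_comap_eq_self (hA.1.trans (map_le_range f S))
    rw [← e] at hA ⊢
    exact map_mono (le_iSup₂_of_le (A.comap f) ⟨(map_le_map_iff_of_injective hf).1 hA.1,
      (le_centralizer_map_iff hf).1 hA.2.1, (le_normalizer_map_iff' hf).1 hA.2.2⟩ le_rfl)

theorem kSeq_map (S : Subgroup G) : ∀ n, (kSeq S n).map f = kSeq (S.map f) n
  | 0 => kSup_map hf S S
  | n + 1 => by
    show (kSup S (oSup S (kSeq S n))).map f = kSup (S.map f) (oSup (S.map f) (kSeq (S.map f) n))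
    rw [kSup_map hf, oSup_map hf, kSeq_map S n]

end Map

/-- The sequence of the whole group gives characteristic subgroups. -/
theorem kSeq_top_characteristic (n : ℕ) : (kSeq (⊤ : Subgroup G) n).Characteristic := by
  refine characteristic_iff_map_eq.2 fun φ => ?_
  rw [kSeq_map φ.injective, Subgroup.map_top_of_surjective _ φ.surjective]

end CfsgLib.EquivZJ
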