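import Cfsg.Agent.Lib.Coprime.Action
import Cfsg.Agent.Lib.Coprime.Core

/-!
# Elements lying in every invariant Sylow subgroup
-/

set_option autoImplicit false
set_option linter.style.haveILetI false

open Subgroup

namespace CfsgLib.EquivZJ

open CfsgLib.Coprime (IsSylowIn isSylowIn_map)

variable {G : Type*} [Group G] [Finite G] {p : ℕ} [Fact p.Prime]

theorem exists_sylowIn_ge {U K : Subgroup G} (hUK : U ≤ K) (hU : IsPGroup p U) :
    ∃ P, IsSylowIn p P K ∧ U ≤ P := by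
  obtain ⟨Q, hQ⟩ := (hU.comap_subtype : IsPGroup p (U.subgroupOf K)).exists_le_sylow
  exact ⟨_, isSylowIn_map Q,
    le_trans (le_of_eq (map_subgroupOf_eq_of_le hUK).symm) (map_mono hQ)⟩

theorem card_le_sylowIn {U K P : Subgroup G} (hP : IsSylowIn p P K) (hUK : U ≤ K) (hU : IsPGroup p U) :
    Nat.card U ≤ Nat.card P := by
  obtain ⟨Q, hQ, hUQ⟩ := exists_sylowIn_ge hUK hU
  rw [hP.2, ← hQ.2]
  exact Nat.le_of_dvd Nat.card_pos (card_dvd_of_le hUQ)

theorem eq_sylowIn_of_ge {U K P : Subgroup G} (hP : IsSylowIn p P K) (hUK : U ≤ K) (hU : IsPGroup p U)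
    (hPU : P ≤ U) : U = P :=
  (eq_of_le_of_card_ge hPU (card_le_sylowIn hP hUK hU)).symm

theorem isSylowIn_of_card_ge {U K P : Subgroup G} (hP : IsSylowIn p P K) (hUK : U ≤ K) (hU : IsPGroup p U)
    (hPU : Nat.card P ≤ Nat.card U) : IsSylowIn p U K :=
  ⟨hUK, by rw [← hP.2]; exact le_antisymm (card_le_sylowIn hP hUK hU) hPU⟩

/-- A normal `p`-subgroup lies in every Sylow subgroup. -/
theorem normal_le_sylowIn {U K P : Subgroup G} (hP : IsSylowIn p P K) (hUK : U ≤ K) (hU : IsPGroup p U)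
    (hn : K ≤ normalizer (U : Set G)) : U ≤ P := by
  obtain ⟨Q, hQ, hUQ⟩ := exists_sylowIn_ge hUK hU
  obtain ⟨g, hg, rfl⟩ := hQ.exists_conj hP
  refine le_trans (le_of_eq ?_) (map_mono hUQ)
  exact (CfsgLib.Coprime.conjBy_eq_self_iff.2 (hn hg)).symm

theorem isSylowIn_inf_normal {S K N : Subgroup G} (hS : IsSylowIn p S K) (hNK : N ≤ K)
    (hn : K ≤ normalizer (N : Set G)) : IsSylowIn p (S ⊓ N) N := by
  have hSp : IsPGroup p ↥(S ⊓ N) := hS.isPGroup.to_inf_left
  obtain ⟨T, hT, hST⟩ := exists_sylowIn_ge (inf_le_right : S ⊓ N ≤ N) hSp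
  obtain ⟨Q, hQ, hTQ⟩ := exists_sylowIn_ge (hT.1.trans hNK) hT.isPGroup
  obtain ⟨g, hg, hgS⟩ := hQ.exists_conj hS
  refine isSylowIn_of_card_ge hT inf_le_right hSp ?_
  rw [← CfsgLib.Coprime.card_conjBy g T]
  refine Nat.le_of_dvd Nat.card_pos (card_dvd_of_le (le_inf (hgS ▸ map_mono hTQ) ?_))
  exact le_trans (map_mono hT.1) (le_of_eq (CfsgLib.Coprime.conjBy_eq_self_iff.2 (hn hg)))

/-- `a` lies in every `A`-invariant Sylow `p`-subgroup of `G`. -/
def InAll (p : ℕ) (K A : Subgroup G) (a : G) : Prop :=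
  a ∈ K ∧ ∀ S : Subgroup G, IsSylowIn p S K → A ≤ normalizer (S : Set G) → a ∈ S

theorem InAll.restrict {K A L : Subgroup G} {a : G} (h : InAll p K A a) (hLK : L ≤ K)
    (hAK : A ≤ normalizer (K : Set G)) (hcop : (Nat.card A).Coprime (Nat.card K))
    (hsolv : Group.IsSolvable A) (haL : a ∈ L) : InAll p L A a := by
  refine ⟨haL, fun T hT hTA => ?_⟩
  obtain ⟨S, hS, hTS, hSA⟩ :=
    CfsgLib.Coprime.le_invariant_sylow hAK hcop (Or.inl hsolv) (hT.1.trans hLK) hT.isPGroup hTA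
  have e : S ⊓ L = T := eq_sylowIn_of_ge hT inf_le_right hS.isPGroup.to_inf_left (le_inf hTS hT.1)
  rw [← e]
  exact ⟨h.2 S hS hSA, haL⟩

theorem InAll.map {G' : Type*} [Group G'] [Finite G'] (f : G →* G') {K A : Subgroup G} {a : G}
    (h : InAll p K A a) (hAK : A ≤ normalizer (K : Set G)) (hcop : (Nat.card A).Coprime (Nat.card K))
    (hsolv : Group.IsSolvable A) : InAll p (K.map f) (A.map f) (f a) := by
  refine ⟨mem_map_of_mem f h.1, fun S' hS' hA' => ?_⟩
  set L := K ⊓ S'.comap f with hL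
  have hLmap : L.map f = S' := le_antisymm (by rintro _ ⟨x, hx, rfl⟩; exact hx.2) (by
    intro y hy
    obtain ⟨x, hx, rfl⟩ := hS'.1 hy
    exact ⟨x, ⟨hx, hy⟩, rfl⟩)
  have hLA : A ≤ normalizer (L : Set G) := by
    intro x hx
    rw [mem_normalizer_iff]
    intro y
    simp only [hL, mem_inf, mem_comap, map_mul, map_inv]
    exact and_congr (mem_normalizer_iff.1 (hAK hx) y) (mem_normalizer_iff.1 (hA' (mem_map_of_mem f hx)) (f y))
  have hLK : L ≤ K := inf_le_left
  obtain ⟨T, hT, hTA⟩ := CfsgLib.Coprime.exists_invariant_sylow hLA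
    (hcop.coprime_dvd_right (card_dvd_of_le hLK)) (Or.inl hsolv) p
  have hidx : ¬ p ∣ L.relIndex K := by
    have e : L.relIndex K = S'.relIndex (K.map f) := by
      rw [hL, inf_relIndex_left, relIndex_comap]
    rw [e]
    haveI : Fact p.Prime := inferInstance
    intro hd
    have h1 := Nat.card_pos (α := ↥(K.map f))
    have h2 : Nat.card S' * S'.relIndex (K.map f) = Nat.card ↥(K.map f) := by
      rw [relIndex, ← Nat.card_congr (subgroupOfEquivOfLe hS'.1).toEquiv, card_mul_index]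
    obtain ⟨m, hm⟩ := hd
    refine Nat.pow_succ_factorization_not_dvd h1.ne' (Fact.out : p.Prime) ⟨m, ?_⟩
    rw [hS'.2, hm] at h2
    rw [pow_succ, mul_assoc]
    exact h2.symm
  have hTK : IsSylowIn p T K := by
    refine ⟨hT.1.trans hLK, ?_⟩
    rw [hT.2]
    congr 1
    have h2 : Nat.card L * L.relIndex K = Nat.card K := by
      rw [relIndex, ← Nat.card_congr (subgroupOfEquivOfLe hLK).toEquiv, card_mul_index]
    have h0 : L.relIndex K ≠ 0 := fun e => by rw [e, mul_zero] at h2; exact Nat.card_pos.ne h2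
    rw [← h2, Nat.factorization_mul Nat.card_pos.ne' h0, Finsupp.add_apply,
      Nat.factorization_eq_zero_of_not_dvd hidx, add_zero]
  rw [← hLmap]
  exact mem_map_of_mem f (hT.1 (h.2 T hTK hTA))

end CfsgLib.EquivZJ
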