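import Cfsg.Agent.Lib.CFun.EquivZJ.Basic
import Cfsg.Agent.Lib.CFun.CoprimeQuad.Classes
import Cfsg.Agent.Lib.CFun.EquivZJ.Sylow
import Cfsg.Agent.Lib.Coprime.Core

/-!
# The subnormal subgroup generated by one class of root subgroups
-/

set_option autoImplicit false
set_option linter.style.haveILetI false
set_option linter.unusedSectionVars false

namespace CfsgLib.EquivZJ

open Cfsg CfsgLib.QuadPair CfsgLib.CoprimeQuad
open scoped MatrixGroups

/-- A subgroup normalized by `L` inherits the triviality of the `p`-core from `L`. -/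
theorem pCore_eq_bot_of_normal {G : Type*} [Group G] [Finite G] {p : ℕ} [Fact p.Prime] {K L : Subgroup G}
    (hKL : K ≤ L) (hn : L ≤ Subgroup.normalizer (K : Set G)) (hL : Cfsg.pCore p ↥L = ⊥) :
    Cfsg.pCore p ↥K = ⊥ := by
  haveI : (K.subgroupOf L).Normal := (Subgroup.normal_subgroupOf_iff_le_normalizer hKL).2 hn
  have h := CfsgLib.Coprime.pCore_map_subtype_eq p (K.subgroupOf L)
  have h1 : Cfsg.pCore p ↥(K.subgroupOf L) = ⊥ :=
    (Subgroup.map_eq_bot_iff_of_injective _ (K.subgroupOf L).subtype_injective).1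
      (by rw [h, hL]; simp)
  rw [← CfsgLib.Coprime.map_pCore_equiv (Subgroup.subgroupOfEquivOfLe hKL) p, h1, Subgroup.map_bot]

variable {k : Type*} [Field k] {M : Type*} [AddCommGroup M] [Module k M] [FiniteDimensional k M]
variable {H K : Subgroup (LinearMap.GeneralLinearGroup k M)} {p : ℕ}
variable {σ τ : LinearMap.GeneralLinearGroup k M}

theorem Ctx.sub (C : Ctx p H) (h : Cfsg.pCore p ↥K = ⊥) : Ctx p K := ⟨C.setting, h, C.field⟩

/-- Membership in a root subgroup over a prime field. -/
theorem mem_root_iff (C : Ctx p H) (hσ : σ ∈ minimalQuadraticElements K) {u : LinearMap.GeneralLinearGroup k M} :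
    u ∈ sameActionSubgroup K σ ↔ u ∈ K ∧ LinearMap.range (alpha u) ≤ LinearMap.range (alpha σ) ∧
      LinearMap.ker (alpha σ) ≤ LinearMap.ker (alpha u) := by
  rw [mem_sameAction_iff hσ]
  constructor
  · intro h
    refine ⟨?_, h.1, h.2.1⟩
    obtain ⟨w, hw, ew⟩ := h.2.2 1
    rwa [show u = w from Units.ext (by rw [ew, one_smul, alpha_add_one u])]
  · rintro ⟨hu, hr, hk⟩
    exact ⟨hr, hk, C.fam u hu (mul_eq_zero_of_ker (sq_of_min hσ) hk hr)⟩

theorem minimal_sub (C : Ctx p H) (hK : K ≤ H) (hσ : σ ∈ minimalQuadraticElements H) (hσK : σ ∈ K) :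
    σ ∈ minimalQuadraticElements K :=
  ⟨C.quad hσK (sq_of_min hσ) (alpha_ne_zero hσ),
    fun t ht => hσ.2 t (C.quad (hK ht.1) ht.2.1.1 ht.2.1.2)⟩

theorem minimal_of_sub (C : Ctx p H) (hK : K ≤ H) (hσ : σ ∈ minimalQuadraticElements H) (hσK : σ ∈ K)
    (hτ : τ ∈ minimalQuadraticElements K) : τ ∈ minimalQuadraticElements H :=
  ⟨C.quad (hK hτ.1.1) hτ.1.2.1.1 hτ.1.2.1.2,
    fun t ht => le_trans (hτ.2 σ (minimal_sub C hK hσ hσK).1) (hσ.2 t ht)⟩

theorem root_sub (C : Ctx p H) (hK : K ≤ H) (hσ : σ ∈ minimalQuadraticElements H) (hσK : σ ∈ K) :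
    sameActionSubgroup K σ = sameActionSubgroup H σ ⊓ K := by
  ext u
  rw [Subgroup.mem_inf, mem_root_iff C hσ, mem_root_iff C (minimal_sub C hK hσ hσK)]
  exact ⟨fun h => ⟨⟨hK h.1, h.2⟩, h.1⟩, fun h => ⟨h.2, h.1.2⟩⟩

/-- The descending chain of normal closures of `E`. -/
def level (H E : Subgroup (LinearMap.GeneralLinearGroup k M)) : ℕ → Subgroup (LinearMap.GeneralLinearGroup k M)
  | 0 => H
  | n + 1 => ⨆ g ∈ level H E n, conjBy E g

/-- The limit of the chain. -/
def comp (H E : Subgroup (LinearMap.GeneralLinearGroup k M)) : Subgroup (LinearMap.GeneralLinearGroup k M) :=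
  ⨅ n, level H E n

variable {E : Subgroup (LinearMap.GeneralLinearGroup k M)}

theorem le_level_succ (h : E ≤ H) : ∀ n, E ≤ level H E n ∧ level H E (n + 1) ≤ level H E n := by
  have step : ∀ n, E ≤ level H E n → E ≤ level H E (n + 1) ∧ level H E (n + 1) ≤ level H E n := fun n hn =>
    ⟨le_iSup₂_of_le 1 (one_mem _) (le_of_eq (conjBy_one E).symm), iSup₂_le fun g hg => by
      rintro _ ⟨x, hx, rfl⟩
      exact mul_mem (mul_mem hg (hn hx)) (inv_mem hg)⟩
  have all : ∀ n, E ≤ level H E n := by
    intro n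
    induction n with
    | zero => exact h
    | succ n ih => exact (step n ih).1
  exact fun n => ⟨all n, (step n (all n)).2⟩

theorem level_antitone (h : E ≤ H) : Antitone (level H E) := antitone_nat_of_succ_le fun n => (le_level_succ h n).2

theorem level_le_normalizer (n : ℕ) :
    level H E n ≤ Subgroup.normalizer (level H E (n + 1) : Set (LinearMap.GeneralLinearGroup k M)) := by
  intro g hg
  have key : ∀ g ∈ level H E n, ∀ x ∈ level H E (n + 1), g * x * g⁻¹ ∈ level H E (n + 1) := by
    intro g hg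
    have hle : level H E (n + 1) ≤ (level H E (n + 1)).comap (MulAut.conj g).toMonoidHom :=
      iSup₂_le fun y hy x hx => by
        refine (le_iSup₂_of_le (g * y) (mul_mem hg hy) le_rfl : _ ≤ level H E (n + 1)) ?_
        rw [← conjBy_conjBy]
        exact ⟨x, hx, rfl⟩
    exact fun x hx => hle hx
  rw [Subgroup.mem_normalizer_iff]
  refine fun x => ⟨key g hg x, fun hx => ?_⟩
  have := key g⁻¹ (inv_mem hg) _ hx
  simpa [mul_assoc] using this

theorem exists_stable_level [Finite (LinearMap.GeneralLinearGroup k M)] (h : E ≤ H) :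
    ∃ n, comp H E = level H E n ∧ level H E (n + 1) = level H E n := by
  obtain ⟨_, ⟨n, rfl⟩, hmin⟩ := (Set.toFinite (Set.range (level H E))).exists_minimal ⟨_, 0, rfl⟩
  have hge : ∀ m, n ≤ m → level H E m = level H E n := fun m hm =>
    le_antisymm (level_antitone h hm) (hmin ⟨m, rfl⟩ (level_antitone h hm))
  refine ⟨n, le_antisymm (iInf_le _ n) (le_iInf fun m => ?_), hge _ (Nat.le_succ n)⟩
  rcases le_total m n with hm | hm
  · exact level_antitone h hm
  · exact (hge m hm).ge

theorem le_comp (h : E ≤ H) : E ≤ comp H E := le_iInf fun n => (le_level_succ h n).1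

theorem comp_le (E : Subgroup (LinearMap.GeneralLinearGroup k M)) : comp H E ≤ H := iInf_le _ 0

theorem comp_eq_iSup [Finite (LinearMap.GeneralLinearGroup k M)] (h : E ≤ H) :
    comp H E = ⨆ g ∈ comp H E, conjBy E g := by
  obtain ⟨n, hn, hs⟩ := exists_stable_level h
  rw [hn]
  exact hs.symm

theorem level_core [Finite (LinearMap.GeneralLinearGroup k M)] (C : Ctx p H) (h : E ≤ H) :
    ∀ n, Ctx p (level H E n)
  | 0 => C
  | n + 1 => by
    haveI : Fact p.Prime := ⟨C.setting.prime⟩
    exact C.sub (pCore_eq_bot_of_normal (le_level_succ h n).2 (level_le_normalizer n) (level_core C h n).core)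

theorem comp_ctx [Finite (LinearMap.GeneralLinearGroup k M)] (C : Ctx p H) (h : E ≤ H) : Ctx p (comp H E) := by
  obtain ⟨n, hn, -⟩ := exists_stable_level h
  rw [hn]
  exact level_core C h n

theorem conjBy_level {g : LinearMap.GeneralLinearGroup k M}
    (hg : g ∈ Subgroup.normalizer (H : Set (LinearMap.GeneralLinearGroup k M))) :
    ∀ n, level H (conjBy E g) n = conjBy (level H E n) g
  | 0 => (Subgroup.mem_normalizer_iff_map_conj_eq.1 hg).symm
  | n + 1 => by
    show (⨆ y ∈ level H (conjBy E g) n, conjBy (conjBy E g) y) =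
      (⨆ y ∈ level H E n, conjBy E y).map (MulAut.conj g).toMonoidHom
    simp only [Subgroup.map_iSup]
    rw [conjBy_level hg n]
    refine le_antisymm (iSup₂_le ?_) (iSup₂_le fun y hy => ?_)
    · rintro _ ⟨y, hy, rfl⟩
      refine le_iSup₂_of_le y hy (le_of_eq ?_)
      show conjBy (conjBy E g) (g * y * g⁻¹) = conjBy (conjBy E y) g
      rw [conjBy_conjBy, conjBy_conjBy, inv_mul_cancel_right]
    · refine le_iSup₂_of_le (g * y * g⁻¹) ⟨y, hy, rfl⟩ (le_of_eq ?_)
      show conjBy (conjBy E y) g = conjBy (conjBy E g) (g * y * g⁻¹)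
      rw [conjBy_conjBy, conjBy_conjBy, inv_mul_cancel_right]

theorem comp_conj {g : LinearMap.GeneralLinearGroup k M}
    (hg : g ∈ Subgroup.normalizer (H : Set (LinearMap.GeneralLinearGroup k M))) :
    comp H (conjBy E g) = conjBy (comp H E) g := by
  show (⨅ n, level H (conjBy E g) n) = (⨅ n, level H E n).map (MulAut.conj g).toMonoidHom
  rw [Subgroup.map_iInf _ (MulAut.conj g).injective]
  exact iInf_congr (conjBy_level hg)

variable [Finite k]

/-- A root in a level is conjugate to `σ` by an element of the level above. -/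
theorem root_conj_level (C : Ctx p H) (hσ : σ ∈ minimalQuadraticElements H) (hτ : τ ∈ minimalQuadraticElements H)
    (n : ℕ) (hτn : τ ∈ level H (sameActionSubgroup H σ) (n + 1)) :
    ∃ g ∈ level H (sameActionSubgroup H σ) n,
      sameActionSubgroup H τ = conjBy (sameActionSubgroup H σ) g := by
  classical
  haveI := finite_gl (k := k) (M := M)
  haveI : Fact p.Prime := ⟨C.setting.prime⟩
  haveI := C.setting.char
  have hEH := sameAction_le hσ
  set E := sameActionSubgroup H σ
  set L := level H E n with hLdef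
  set L' := level H E (n + 1) with hL'def
  have hLH : L ≤ H := level_antitone hEH (Nat.zero_le n)
  have hEL : E ≤ L := (le_level_succ hEH n).1
  have hσL : σ ∈ L := hEL (self_mem_sameAction hσ)
  have hτL : τ ∈ L := (le_level_succ hEH n).2 hτn
  have hσ' := minimal_sub C hLH hσ hσL
  have hτ' := minimal_sub C hLH hτ hτL
  have hCL := level_core C hEH n
  have hE : sameActionSubgroup L σ = E := by rw [root_sub C hLH hσ hσL]; exact inf_eq_left.2 hEL
  by_cases hsc : SameClass L (sameActionSubgroup L σ) (sameActionSubgroup L τ)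
  · obtain ⟨g, hg, he⟩ := hsc
    refine ⟨g, hg, ?_⟩
    rw [hE] at he
    have hm : τ ∈ sameActionSubgroup H (g * σ * g⁻¹) := by
      rw [← conjBy_sameAction (hLH hg), ← he]
      exact self_mem_sameAction hτ'
    rw [conjBy_sameAction (hLH hg)]
    exact (sameAction_eq_of_mem (conj_mem_minimal (hLH hg) hσ) hm (ne_one_of_min hτ)).2
  · exfalso
    have hcen : L' ≤ Subgroup.centralizer {τ} := iSup₂_le fun g hg x hx => by
      rw [Subgroup.mem_centralizer_singleton_iff]
      have hxL : x ∈ sameActionSubgroup L (g * σ * g⁻¹) := by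
        rw [← conjBy_sameAction hg, hE]; exact hx
      exact commute_of_not_sameClass hCL.setting hCL.core (conj_mem_minimal hg hσ') hτ'
        (fun h => hsc (SameClass.trans ⟨g, hg, (conjBy_sameAction hg).symm⟩ h)) hxL (self_mem_sameAction hτ')
    set Z := Subgroup.zpowers (⟨τ, hτn⟩ : ↥L') with hZ
    haveI : Z.Normal := ⟨fun z hz x => by
      have hc : Commute x (⟨τ, hτn⟩ : ↥L') := Subtype.ext (Subgroup.mem_centralizer_singleton_iff.1 (hcen x.2))
      obtain ⟨j, rfl⟩ := Subgroup.mem_zpowers_iff.1 hz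
      rw [(hc.zpow_right j).eq, mul_inv_cancel_right]
      exact zpow_mem (Subgroup.mem_zpowers _) j⟩
    have hτp : τ ^ p = 1 := pow_char_eq_one_of_cube (by have := C.setting.five_le; omega)
      (by rw [sq_of_min hτ, zero_mul])
    have hZp : IsPGroup p Z := IsPGroup.of_card (n := 1) (by
      rw [pow_one, hZ, Nat.card_zpowers, orderOf_eq_prime (Subtype.ext (by rw [SubgroupClass.coe_pow]; exact hτp))
        (fun h => ne_one_of_min hτ (congrArg Subtype.val h))])
    have h0 := CfsgLib.Coprime.le_pCore hZp (Subgroup.mem_zpowers (⟨τ, hτn⟩ : ↥L'))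
    rw [(level_core C hEH (n + 1)).core, Subgroup.mem_bot] at h0
    exact ne_one_of_min hτ (congrArg Subtype.val h0)

/-- All roots of a component are conjugate inside it. -/
theorem root_conj_comp (C : Ctx p H) (hσ : σ ∈ minimalQuadraticElements H) (hτ : τ ∈ minimalQuadraticElements H)
    (hτc : τ ∈ comp H (sameActionSubgroup H σ)) :
    ∃ g ∈ comp H (sameActionSubgroup H σ), sameActionSubgroup H τ = conjBy (sameActionSubgroup H σ) g := by
  haveI := finite_gl (k := k) (M := M)
  obtain ⟨n, hn, hs⟩ := exists_stable_level (sameAction_le hσ)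
  rw [hn] at hτc ⊢
  exact root_conj_level C hσ hτ n (by rwa [hs])

theorem root_le_comp (C : Ctx p H) (hσ : σ ∈ minimalQuadraticElements H) (hτ : τ ∈ minimalQuadraticElements H)
    (hτc : τ ∈ comp H (sameActionSubgroup H σ)) :
    sameActionSubgroup H τ ≤ comp H (sameActionSubgroup H σ) := by
  obtain ⟨g, hg, e⟩ := root_conj_comp C hσ hτ hτc
  rw [e]
  rintro _ ⟨x, hx, rfl⟩
  exact mul_mem (mul_mem hg (le_comp (sameAction_le hσ) hx)) (inv_mem hg)

/-- A component is determined by each of its roots. -/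
theorem comp_root (C : Ctx p H) (hσ : σ ∈ minimalQuadraticElements H) (hτ : τ ∈ minimalQuadraticElements H)
    (hτc : τ ∈ comp H (sameActionSubgroup H σ)) :
    comp H (sameActionSubgroup H τ) = comp H (sameActionSubgroup H σ) := by
  obtain ⟨g, hg, e⟩ := root_conj_comp C hσ hτ hτc
  rw [e, comp_conj (Subgroup.le_normalizer (comp_le _ hg))]
  exact Subgroup.mem_normalizer_iff_map_conj_eq.1 (Subgroup.le_normalizer hg)

theorem comp_conj_root (C : Ctx p H) {g : LinearMap.GeneralLinearGroup k M}
    (hg : g ∈ Subgroup.normalizer (H : Set (LinearMap.GeneralLinearGroup k M))) :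
    conjBy (comp H (sameActionSubgroup H σ)) g = comp H (sameActionSubgroup H (g * σ * g⁻¹)) := by
  rw [← comp_conj hg, conjBy_sameAction' hg]

/-- Two components are equal or commute elementwise. -/
theorem comp_eq_or_commute (C : Ctx p H) (hσ : σ ∈ minimalQuadraticElements H)
    (hτ : τ ∈ minimalQuadraticElements H) :
    comp H (sameActionSubgroup H σ) = comp H (sameActionSubgroup H τ) ∨
      ∀ x ∈ comp H (sameActionSubgroup H σ), ∀ y ∈ comp H (sameActionSubgroup H τ), x * y = y * x := by
  classical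
  haveI := finite_gl (k := k) (M := M)
  have hEH := sameAction_le hσ
  have hFH := sameAction_le hτ
  set E := sameActionSubgroup H σ
  set F := sameActionSubgroup H τ
  by_cases hall : ∀ n, level H E n = level H F n
  · exact Or.inl (iInf_congr hall)
  push Not at hall
  obtain ⟨n, hn, hne⟩ : ∃ n, level H E n = level H F n ∧ level H E (n + 1) ≠ level H F (n + 1) := by
    by_contra hcon
    push Not at hcon
    obtain ⟨m, hm⟩ := hall
    refine hm ?_
    induction m with
    | zero => rfl
    | succ m ih =>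
      by_cases h : level H E m = level H F m
      · exact hcon m h
      · exact absurd (ih h) h
  set L := level H E n with hLdef
  have hLH : L ≤ H := level_antitone hEH (Nat.zero_le n)
  have hEL : E ≤ L := (le_level_succ hEH n).1
  have hFL : F ≤ L := hn ▸ (le_level_succ hFH n).1
  have hσL : σ ∈ L := hEL (self_mem_sameAction hσ)
  have hτL : τ ∈ L := hFL (self_mem_sameAction hτ)
  have hσ' := minimal_sub C hLH hσ hσL
  have hτ' := minimal_sub C hLH hτ hτL
  have hE : sameActionSubgroup L σ = E := by rw [root_sub C hLH hσ hσL]; exact inf_eq_left.2 hEL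
  have hF : sameActionSubgroup L τ = F := by rw [root_sub C hLH hτ hτL]; exact inf_eq_left.2 hFL
  have hCL := level_core C hEH n
  have hnot : ¬ SameClass L E F := by
    rintro ⟨g, hg, e⟩
    refine hne (le_antisymm (iSup₂_le fun y hy => ?_) (iSup₂_le fun y hy => ?_))
    · refine le_iSup₂_of_le (y * g⁻¹) (by rw [← hn]; exact mul_mem hy (inv_mem hg)) (le_of_eq ?_)
      rw [e, conjBy_conjBy, inv_mul_cancel_right]
    · refine le_iSup₂_of_le (y * g) (mul_mem (show y ∈ L by rw [hn]; exact hy) hg) (le_of_eq ?_)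
      rw [e, conjBy_conjBy]
  refine Or.inr fun x hx y hy => ?_
  have hle : level H E (n + 1) ≤ Subgroup.centralizer
      (level H F (n + 1) : Set (LinearMap.GeneralLinearGroup k M)) := by
    refine iSup₂_le fun g hg => Subgroup.le_centralizer_iff.1 (iSup₂_le fun g' hg' => ?_)
    rw [← hn] at hg'
    intro w hw
    rw [Subgroup.mem_centralizer_iff]
    intro z hz
    have hz' : z ∈ sameActionSubgroup L (g * σ * g⁻¹) := by rw [← conjBy_sameAction hg, hE]; exact hz
    have hw' : w ∈ sameActionSubgroup L (g' * τ * g'⁻¹) := by rw [← conjBy_sameAction hg', hF]; exact hw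
    refine commute_of_not_sameClass hCL.setting hCL.core (conj_mem_minimal hg hσ') (conj_mem_minimal hg' hτ')
      (fun hs => hnot ?_) hz' hw'
    rw [← hE, ← hF]
    exact (SameClass.trans ⟨g, hg, (conjBy_sameAction hg).symm⟩ hs).trans
      (SameClass.symm ⟨g', hg', (conjBy_sameAction hg').symm⟩)
  exact ((Subgroup.mem_centralizer_iff.1 (hle ((iInf_le _ (n + 1) : comp H E ≤ _) hx))) y
    ((iInf_le _ (n + 1) : comp H F ≤ _) hy)).symm

/-- The trace of a Sylow subgroup on a component is a Sylow subgroup of it. -/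
theorem isSylowIn_inf_comp [Fact p.Prime] {S : Subgroup (LinearMap.GeneralLinearGroup k M)}
    (hS : CfsgLib.Coprime.IsSylowIn p S H) (h : E ≤ H) :
    CfsgLib.Coprime.IsSylowIn p (S ⊓ comp H E) (comp H E) := by
  haveI := finite_gl (k := k) (M := M)
  have key : ∀ n, CfsgLib.Coprime.IsSylowIn p (S ⊓ level H E n) (level H E n) := by
    intro n
    induction n with
    | zero => show CfsgLib.Coprime.IsSylowIn p (S ⊓ H) H; rwa [inf_eq_left.2 hS.1]
    | succ n ih =>
      have := isSylowIn_inf_normal ih (le_level_succ h n).2 (level_le_normalizer n)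
      rwa [inf_assoc, inf_eq_right.2 (le_level_succ h n).2] at this
  obtain ⟨n, hn, -⟩ := exists_stable_level h
  rw [hn]
  exact key n

end CfsgLib.EquivZJ
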