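import Cfsg.Agent.Lib.CFun.EquivZJ.Operator
import Cfsg.Agent.Lib.CFun.EquivZJ.Levels

/-!
# A component is generated by the flag groups of two opposite root subgroups
-/

set_option autoImplicit false
set_option linter.style.haveILetI false
set_option linter.unusedSectionVars false

namespace CfsgLib.EquivZJ

open Cfsg CfsgLib.QuadPair CfsgLib.CoprimeQuad
open scoped MatrixGroups commutatorElement

variable {k : Type*} [Field k] {M : Type*} [AddCommGroup M] [Module k M] [FiniteDimensional k M] [Finite k]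
variable {H N : Subgroup (LinearMap.GeneralLinearGroup k M)} {p : ℕ}
variable {σ τ v x : LinearMap.GeneralLinearGroup k M}

/-- A group generated by one class of root subgroups. -/
structure Connected (p : ℕ) (N : Subgroup (LinearMap.GeneralLinearGroup k M))
    (σ : LinearMap.GeneralLinearGroup k M) : Prop where
  ctx : Ctx p N
  root : σ ∈ minimalQuadraticElements N
  single : ∀ τ ∈ minimalQuadraticElements N, ∃ g ∈ N,
    sameActionSubgroup N τ = conjBy (sameActionSubgroup N σ) g
  gen : N ≤ ⨆ g ∈ N, conjBy (sameActionSubgroup N σ) g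

theorem Connected.change (K : Connected p N σ) (hτ : τ ∈ minimalQuadraticElements N) : Connected p N τ := by
  obtain ⟨g, hg, e⟩ := K.single τ hτ
  refine ⟨K.ctx, hτ, fun ρ hρ => ?_, le_trans K.gen (iSup₂_le fun y hy => ?_)⟩
  · obtain ⟨g', hg', e'⟩ := K.single ρ hρ
    exact ⟨g' * g⁻¹, mul_mem hg' (inv_mem hg), by rw [e, e', conjBy_conjBy, inv_mul_cancel_right]⟩
  · refine le_iSup₂_of_le (y * g⁻¹) (mul_mem hy (inv_mem hg)) (le_of_eq ?_)
    rw [e, conjBy_conjBy, inv_mul_cancel_right]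

theorem root_comp_eq (C : Ctx p H) (hσ : σ ∈ minimalQuadraticElements H)
    (hτ : τ ∈ minimalQuadraticElements H) (hτc : τ ∈ comp H (sameActionSubgroup H σ)) :
    sameActionSubgroup (comp H (sameActionSubgroup H σ)) τ = sameActionSubgroup H τ := by
  rw [root_sub C (comp_le _) hτ hτc]
  exact inf_eq_left.2 (root_le_comp C hσ hτ hτc)

theorem connected_comp (C : Ctx p H) (hσ : σ ∈ minimalQuadraticElements H) :
    Connected p (comp H (sameActionSubgroup H σ)) σ := by
  haveI := finite_gl (k := k) (M := M)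
  have hEH := sameAction_le hσ
  have hσc := le_comp hEH (self_mem_sameAction hσ)
  have hE := root_comp_eq C hσ hσ hσc
  refine ⟨comp_ctx C hEH, minimal_sub C (comp_le _) hσ hσc, fun τ hτ => ?_, ?_⟩
  · have hτH := minimal_of_sub C (comp_le _) hσ hσc hτ
    rw [hE, root_comp_eq C hσ hτH hτ.1.1]
    exact root_conj_comp C hσ hτH hτ.1.1
  · rw [hE]
    exact (comp_eq_iSup hEH).le

theorem Opp.minimal (C : Ctx p N) (hσ : σ ∈ minimalQuadraticElements N) (h : Opp N σ v) :
    v ∈ minimalQuadraticElements N := by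
  refine ⟨C.quad h.mem h.sq (h.ne_zero (alpha_ne_zero hσ)), fun t ht => le_trans ?_ (hσ.2 t ht)⟩
  show Module.finrank k (LinearMap.range (alpha v)) ≤ Module.finrank k (LinearMap.range (alpha σ))
  refine le_trans (Submodule.finrank_mono ?_) (Submodule.finrank_map_le (alpha v) _)
  rintro _ ⟨m, rfl⟩
  exact ⟨alpha σ (alpha v m), ⟨_, rfl⟩, LinearMap.congr_fun h.right m⟩

theorem exists_root_opp (C : Ctx p N) (hσ : σ ∈ minimalQuadraticElements N) :
    ∃ v, Opp N σ v := by
  obtain ⟨v, hv, e1, e2⟩ := exists_opposite_of_core C.setting C.core hσ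
  exact ⟨v, hv.1.1, sq_of_min hv, e1, e2⟩

theorem root_le_flag (C : Ctx p N) (hσ : σ ∈ minimalQuadraticElements N) :
    sameActionSubgroup N σ ≤ flagGroup N σ := by
  intro u hu
  haveI := finite_gl (k := k) (M := M)
  obtain ⟨huN, hr, hk⟩ := (mem_root_iff C hσ).1 hu
  refine (mem_flagGroup (sq_of_min hσ)).2 ⟨huN, fun z hz => ?_, fun z hz => ?_, fun z => ?_⟩
  · have h0 : alpha u z = 0 := LinearMap.mem_ker.1 (hk (range_le_ker (sq_of_min hσ) hz))
    rw [alpha_add_one u, LinearMap.add_apply, h0, add_zero, one_smul]; rfl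
  · show alpha u z ∈ _
    exact hr ⟨z, rfl⟩
  · rw [inv_one, one_smul]
    show alpha u z ∈ _
    exact range_le_ker (sq_of_min hσ) (hr ⟨z, rfl⟩)

theorem flag_conj_root (hσ : σ ∈ minimalQuadraticElements N) {u : LinearMap.GeneralLinearGroup k M}
    (hu : u ∈ flagGroup N σ) : conjBy (sameActionSubgroup N σ) u = sameActionSubgroup N σ := by
  haveI := finite_gl (k := k) (M := M)
  rw [conjBy_sameAction (flagGroup_le hu), comm_of_conjEnd (conjEnd_flag ((mem_flagGroup (sq_of_min hσ)).1 hu).2),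
    mul_inv_cancel_right]

/-- A member of a root subgroup has an opposite in the opposite root subgroup. -/
theorem exists_opp_mem (C : Ctx p N) (hσ : σ ∈ minimalQuadraticElements N) (h : Opp N σ v)
    (hx : x ∈ sameActionSubgroup N σ) (hx1 : x ≠ 1) : ∃ y ∈ sameActionSubgroup N v, Opp N x y := by
  have hv := h.minimal C hσ
  have fr := isFrame_of_opposite C.setting.two_ne C.setting.card_ne hσ hv h.left h.right
  have hxa := (mem_sameAction_iff hσ).1 hx
  obtain ⟨y, hy, e1, e2⟩ := fr.invR _ hxa fun h0 => hx1 (eq_one_of_alpha h0)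
  have hyE := oneAdd_mem_sameAction hv hy
  refine ⟨_, hyE, sameAction_le hv hyE, alpha_mul_sameAction hv hyE hyE, ?_, ?_⟩ <;> rw [alpha_oneAdd]
  · rw [e1, (fr.left_R hxa).1]
  · rw [e2, (fr.symm.left_R hy).1]

/-- Every opposite of a member of a root subgroup lies in a conjugate of the opposite root subgroup. -/
theorem root_of_opp (C : Ctx p N) (hσ : σ ∈ minimalQuadraticElements N) (h : Opp N σ v)
    (hx : x ∈ sameActionSubgroup N σ) (hx1 : x ≠ 1) {v1 : LinearMap.GeneralLinearGroup k M} (h1 : Opp N x v1) :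
    ∃ u ∈ flagGroup N σ, sameActionSubgroup N v1 = conjBy (sameActionSubgroup N v) u := by
  obtain ⟨y, hy, hxy⟩ := exists_opp_mem C hσ h hx hx1
  have hx' := (sameAction_eq_of_mem hσ hx hx1).1
  obtain ⟨u, hu, rfl⟩ := exists_conj_opp C hx'.1.1 (sq_of_min hx') (alpha_ne_zero hx') hxy h1
  have hc := mem_class_of_actSpace hσ ((mem_sameAction_iff hσ).1 hx) (alpha_ne_zero hx')
  rw [flagGroup_congr hc.2.2 hc.2.1] at hu
  refine ⟨u, hu, ?_⟩
  rw [← conjBy_sameAction (flagGroup_le hu), (sameAction_eq_of_mem (h.minimal C hσ) hy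
    (ne_one_of_min (hxy.minimal C hx'))).2]

/-- The flag group is generated by `E` and the conjugates of `F`. -/
theorem flag_le_of_conjugates (C : Ctx p N) (hσ : σ ∈ minimalQuadraticElements N) (h : Opp N σ v)
    {Γ : Subgroup (LinearMap.GeneralLinearGroup k M)} (hE : sameActionSubgroup N σ ≤ Γ)
    (hF : ∀ u ∈ flagGroup N σ, conjBy (sameActionSubgroup N v) u ≤ Γ) : flagGroup N σ ≤ Γ := by
  haveI := finite_gl (k := k) (M := M)
  haveI : Fact p.Prime := ⟨C.setting.prime⟩
  have hsq := sq_of_min hσ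
  have hv := h.minimal C hσ
  obtain ⟨c, hc, hc2, -, hcp⟩ := exists_torus_scalar C.setting
  set t := torus hsq h c hc with htdef
  set U := flagGroup N σ
  set A := Subgroup.zpowers t
  have htN : t ∈ N := C.torus_mem hσ.1.1 hsq h c hc
  have hAU : A ≤ Subgroup.normalizer (U : Set (LinearMap.GeneralLinearGroup k M)) :=
    le_normalizer_flagGroup ((Subgroup.zpowers_le.2 htN).trans Subgroup.le_normalizer) fun a ha => by
      obtain ⟨n, rfl⟩ := (mem_powers_iff_mem_zpowers).2 ha
      exact HasChar.flagStable (pow_ne_zero n hc) ((torus_hasChar hsq h c hc).pow hsq n)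
  have hcop : (Nat.card A).Coprime (Nat.card U) := by
    obtain ⟨r, hr⟩ := IsPGroup.iff_card.1 (flagGroup_isPGroup (H := N) C.setting hsq)
    rw [hr, Nat.card_zpowers]
    refine Nat.Coprime.pow_right r (Nat.Coprime.coprime_dvd_left
      (orderOf_dvd_of_pow_eq_one (torus_pow_eq_one hsq h hc hcp)) ?_)
    exact ((Nat.coprime_self_sub_right C.setting.prime.pos).2 (Nat.coprime_one_right p)).symm
  have hfix : U ⊓ Subgroup.centralizer (A : Set (LinearMap.GeneralLinearGroup k M)) = ⊥ := by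
    rw [Subgroup.eq_bot_iff_forall]
    intro g hg
    have hcg := congrArg Units.val (Subgroup.mem_centralizer_iff.1 hg.2 t (Subgroup.mem_zpowers t))
    rw [Units.val_mul, Units.val_mul] at hcg
    obtain ⟨h1, h2⟩ := comm_idem_of_comm_torus hsq h hc hc2 hcg.symm
    exact eq_one_of_flag_comm hsq h ((mem_flagGroup hsq).1 hg.1).2 (conjEnd_eq_iff.2 h1) (conjEnd_eq_iff.2 h2)
  have hgen := CfsgLib.Coprime.commutator_sup_centralizer hAU hcop
    (Or.inl (CfsgLib.Coprime.isSolvable_of_isMulCommutative inferInstance))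
  rw [hfix, sup_bot_eq] at hgen
  rw [← hgen, Subgroup.commutator_le]
  intro u hu a ha
  set P := sameActionSubgroup N σ ⊔ sameActionSubgroup N v
  have htP : t ∈ P := unitsHom_mem _ _ _ _
    (fun s => Subgroup.mem_sup_left ((mem_sameAction_iff hσ).2
      (by rw [alpha_oneAdd]; exact Submodule.smul_mem _ _ (alpha_mem_actSpace hσ))))
    (fun s => Subgroup.mem_sup_right ((mem_sameAction_iff hv).2
      (by rw [alpha_oneAdd]; exact Submodule.smul_mem _ _ (alpha_mem_actSpace hv)))) _
  have haP : a ∈ P := Subgroup.zpowers_le.2 htP ha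
  have hPΓ : P ≤ Γ := sup_le hE (by simpa [conjBy_one] using hF 1 (one_mem _))
  have hconj : conjBy P u ≤ Γ := by
    show P.map _ ≤ Γ
    rw [Subgroup.map_sup]
    exact sup_le (le_trans (le_of_eq (flag_conj_root hσ hu)) hE) (hF u hu)
  rw [commutatorElement_def]
  exact mul_mem (hconj ⟨a, haP, rfl⟩) (inv_mem (hPΓ haP))

/-- Roots send `E` into any group containing the flag group of `σ` and all its opposites. -/
theorem conj_root_mem (C : Ctx p N) (hσ : σ ∈ minimalQuadraticElements N)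
    {Γ : Subgroup (LinearMap.GeneralLinearGroup k M)} (hU : flagGroup N σ ≤ Γ)
    (hopp : ∀ v1, Opp N σ v1 → sameActionSubgroup N v1 ≤ Γ)
    {y : LinearMap.GeneralLinearGroup k M} (hy : y ∈ minimalQuadraticElements N)
    (hx : x ∈ sameActionSubgroup N σ) : y * x * y⁻¹ ∈ Γ := by
  haveI := finite_gl (k := k) (M := M)
  have hxΓ : x ∈ Γ := hU (root_le_flag C hσ hx)
  have h2 := C.setting.two_ne
  have h3 := C.setting.card_ne
  rcases root_pair_cases h2 h3 hσ hy with hc | ⟨hn, -⟩ | ⟨f, hf⟩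
  · rw [Subgroup.commutator_eq_bot_iff_le_centralizer] at hc
    rw [Subgroup.mem_centralizer_iff.1 (hc hx) y (self_mem_sameAction hy), mul_inv_cancel_right]
    exact hxΓ
  · have hn' := (hn.of_class h2 h3 hσ hy hx (self_mem_sameAction hy)).symm
    have hxsq := alpha_mul_sameAction hσ hx hx
    have hz : alpha ⁅y, x⁆ = bracket (alpha y) (alpha x) := commutatorElement_val (sq_of_min hy) hxsq hn'
    have hxN := sameAction_le hσ hx
    have e : y * x * y⁻¹ = ⁅y, x⁆ * x := by rw [commutatorElement_def]; group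
    rw [e]
    refine mul_mem ?_ hxΓ
    by_cases hx1 : x = 1
    · rw [hx1, commutatorElement_one_right]; exact one_mem _
    have hc := mem_class_of_actSpace hσ ((mem_sameAction_iff hσ).1 hx) fun h0 => hx1 (eq_one_of_alpha h0)
    obtain ⟨hb1, hb2⟩ := bracket_right hxsq hn'
    have hzx : alpha ⁅y, x⁆ * alpha x = 0 := by rw [hz]; exact hb2
    have hxz : alpha x * alpha ⁅y, x⁆ = 0 := by rw [hz]; exact hb1
    refine hU ((mem_flagGroup (sq_of_min hσ)).2 ⟨?_, fun z hzr => ?_, fun z hzk => ?_, fun z => ?_⟩)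
    · rw [commutatorElement_def]
      exact mul_mem (mul_mem (mul_mem hy.1.1 hxN) (inv_mem hy.1.1)) (inv_mem hxN)
    · rw [← show LinearMap.range (alpha x) = LinearMap.range (alpha σ) from hc.2.2] at hzr
      obtain ⟨w, rfl⟩ := hzr
      rw [alpha_add_one ⁅y, x⁆, LinearMap.add_apply, ← Module.End.mul_apply (alpha ⁅y, x⁆), hzx, one_smul]
      simp
    · rw [← show LinearMap.ker (alpha x) = LinearMap.ker (alpha σ) from hc.2.1] at hzk
      rw [← show LinearMap.range (alpha x) = LinearMap.range (alpha σ) from hc.2.2]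
      refine ⟨-(alpha y z), ?_⟩
      show _ = alpha ⁅y, x⁆ z
      rw [hz, bracket, LinearMap.sub_apply, Module.End.mul_apply, Module.End.mul_apply, LinearMap.mem_ker.1 hzk,
        map_zero, zero_sub, map_neg]
    · rw [inv_one, one_smul, ← show LinearMap.ker (alpha x) = LinearMap.ker (alpha σ) from hc.2.1]
      show alpha x (alpha ⁅y, x⁆ z) = 0
      rw [← Module.End.mul_apply, hxz, LinearMap.zero_apply]
  · obtain ⟨v1, hv1, e1, e2, hv11⟩ := hf.exists_opposite h2 h3 hσ hy
    have hyΓ : y ∈ Γ := hopp v1 ⟨sameAction_le hy hv1, alpha_mul_sameAction hy hv1 hv1, e1, e2⟩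
      ((sameAction_eq_of_mem hy hv1 hv11).2 ▸ self_mem_sameAction hy)
    exact mul_mem (mul_mem hyΓ hxΓ) (inv_mem hyΓ)

/-- **Generation.** -/
theorem Connected.le_flags (K : Connected p N σ) (h : Opp N σ v) :
    N ≤ flagGroup N σ ⊔ flagGroup N v := by
  haveI := finite_gl (k := k) (M := M)
  have C := K.ctx
  have hσ := K.root
  have hv := h.minimal C hσ
  have h' : Opp N v σ := h.symm hσ.1.1 (sq_of_min hσ)
  set Γ := flagGroup N σ ⊔ flagGroup N v with hΓ
  have key : ∀ {σ v : LinearMap.GeneralLinearGroup k M}, σ ∈ minimalQuadraticElements N → Opp N σ v →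
      flagGroup N σ ≤ Γ → flagGroup N v ≤ Γ →
      ∀ y ∈ minimalQuadraticElements N, ∀ x ∈ sameActionSubgroup N σ, y * x * y⁻¹ ∈ Γ := by
    intro σ v hσ h hσΓ hvΓ y hy x hx
    refine conj_root_mem C hσ hσΓ (fun v1 h1 => ?_) hy hx
    obtain ⟨u, hu, e⟩ := root_of_opp C hσ h (self_mem_sameAction hσ) (ne_one_of_min hσ) h1
    rw [e]
    rintro _ ⟨z, hz, rfl⟩
    exact mul_mem (mul_mem (hσΓ hu) (hvΓ (root_le_flag C (h.minimal C hσ) hz))) (inv_mem (hσΓ hu))
  have hconjΓ : ∀ {σ v : LinearMap.GeneralLinearGroup k M}, σ ∈ minimalQuadraticElements N → Opp N σ v →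
      flagGroup N σ ≤ Γ → flagGroup N v ≤ Γ →
      ∀ y ∈ minimalQuadraticElements N, ∀ x ∈ flagGroup N σ, y * x * y⁻¹ ∈ Γ := by
    intro σ v hσ h hσΓ hvΓ y hy x hx
    refine flag_le_of_conjugates (Γ := Γ.comap (MulAut.conj y).toMonoidHom) C hσ h
      (fun z hz => key hσ h hσΓ hvΓ y hy z hz) (fun u hu => ?_) hx
    rintro _ ⟨z, hz, rfl⟩
    have hy' : u⁻¹ * y * u ∈ minimalQuadraticElements N := by
      simpa using conj_mem_minimal (inv_mem (flagGroup_le hu)) hy
    have := key (h.minimal C hσ) (h.symm hσ.1.1 (sq_of_min hσ)) hvΓ hσΓ _ hy' z hz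
    show y * (u * z * u⁻¹) * y⁻¹ ∈ Γ
    rw [show y * (u * z * u⁻¹) * y⁻¹ = u * (u⁻¹ * y * u * z * (u⁻¹ * y * u)⁻¹) * u⁻¹ by group]
    exact mul_mem (mul_mem (hσΓ hu) this) (inv_mem (hσΓ hu))
  have hnorm : ∀ y ∈ minimalQuadraticElements N, ∀ x ∈ Γ, y * x * y⁻¹ ∈ Γ := by
    intro y hy x hx
    have hle : Γ ≤ Γ.comap (MulAut.conj y).toMonoidHom :=
      sup_le (fun z hz => hconjΓ hσ h le_sup_left le_sup_right y hy z hz)
        (fun z hz => hconjΓ hv h' le_sup_right le_sup_left y hy z hz)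
    exact hle hx
  have hN : N ≤ Subgroup.normalizer (Γ : Set (LinearMap.GeneralLinearGroup k M)) := by
    refine le_trans K.gen (iSup₂_le fun g hg x hx => ?_)
    by_cases hx1 : x = 1
    · rw [hx1]; exact one_mem _
    rw [conjBy_sameAction hg] at hx
    have hx' := (sameAction_eq_of_mem (conj_mem_minimal hg hσ) hx hx1).1
    rw [Subgroup.mem_normalizer_iff_map_conj_eq]
    exact Subgroup.eq_of_le_of_card_ge (by rintro _ ⟨z, hz, rfl⟩; exact hnorm x hx' z hz)
      (Subgroup.card_map_of_injective (MulAut.conj x).injective).ge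
  refine le_trans K.gen (iSup₂_le fun g hg => ?_)
  rintro _ ⟨z, hz, rfl⟩
  exact (Subgroup.mem_normalizer_iff.1 (hN hg) z).1 (Subgroup.mem_sup_left (root_le_flag C hσ hz) : z ∈ Γ)

/-- An element of order `p` centralizing both flag groups is trivial. -/
theorem Connected.eq_one_of_central (K : Connected p N σ) (h : Opp N σ v)
    {d : LinearMap.GeneralLinearGroup k M} (hd : d ∈ N) (hdp : d ^ p = 1)
    (h1 : ∀ u ∈ flagGroup N σ, u * d = d * u) (h2 : ∀ u ∈ flagGroup N v, u * d = d * u) : d = 1 := by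
  haveI := finite_gl (k := k) (M := M)
  haveI : Fact p.Prime := ⟨K.ctx.setting.prime⟩
  have hc : N ≤ Subgroup.centralizer {d} := (K.le_flags h).trans
    (sup_le (fun u hu => Subgroup.mem_centralizer_singleton_iff.2 (h1 u hu))
      (fun u hu => Subgroup.mem_centralizer_singleton_iff.2 (h2 u hu)))
  by_contra hne
  set Z := Subgroup.zpowers (⟨d, hd⟩ : ↥N) with hZ
  haveI : Z.Normal := ⟨fun z hz x => by
    have hcd : Commute x (⟨d, hd⟩ : ↥N) := Subtype.ext (Subgroup.mem_centralizer_singleton_iff.1 (hc x.2))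
    obtain ⟨j, rfl⟩ := Subgroup.mem_zpowers_iff.1 hz
    rw [(hcd.zpow_right j).eq, mul_inv_cancel_right]
    exact zpow_mem (Subgroup.mem_zpowers _) j⟩
  have hZp : IsPGroup p Z := IsPGroup.of_card (n := 1) (by
    rw [pow_one, hZ, Nat.card_zpowers, orderOf_eq_prime (Subtype.ext (by rw [SubgroupClass.coe_pow]; exact hdp))
      (fun h => hne (congrArg Subtype.val h))])
  have h0 := CfsgLib.Coprime.le_pCore hZp (Subgroup.mem_zpowers (⟨d, hd⟩ : ↥N))
  rw [K.ctx.core, Subgroup.mem_bot] at h0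
  exact hne (congrArg Subtype.val h0)

end CfsgLib.EquivZJ
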