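import Cfsg.Agent.Lib.CFun.EquivZJ.Operator
import Cfsg.Agent.Lib.CFun.EquivZJ.Levels
import Cfsg.Agent.Lib.QuadPair.Split

/-!
# Quadratic elements annihilated by all roots commute with them
-/

set_option autoImplicit false
set_option linter.style.haveILetI false
set_option linter.unusedSectionVars false

namespace CfsgLib.EquivZJ

open Cfsg hiding alpha
open CfsgLib.QuadPair CfsgLib.CoprimeQuad
open scoped MatrixGroups

variable {k : Type*} [Field k] {M : Type*} [AddCommGroup M] [Module k M] [FiniteDimensional k M]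
variable {G : Subgroup (LinearMap.GeneralLinearGroup k M)}

/-- A conjugation invariant family of pairwise unipotent subgroups is trivial. -/
theorem trivial_of_unipotent_core [Finite k] {p : ℕ} (C : Ctx p G)
    {W : Set (Subgroup (LinearMap.GeneralLinearGroup k M))} (hWG : ∀ A ∈ W, A ≤ G)
    (hWW : ∀ A ∈ W, ∀ B ∈ W, IsUnipotentOn (A ⊔ B)) (hWconj : ∀ A ∈ W, ∀ g ∈ G, conjBy A g ∈ W)
    {A : Subgroup (LinearMap.GeneralLinearGroup k M)} (hA : A ∈ W) {u : LinearMap.GeneralLinearGroup k M}
    (hu : u ∈ A) : alpha u = 0 := by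
  haveI : Fact p.Prime := ⟨C.setting.prime⟩
  haveI := C.setting.char
  obtain ⟨n, hn⟩ := (unipotent_iff _).1 (baer hWG hWW hWconj)
  set U := ⨆ A ∈ W, A with hUdef
  have hUG : U ≤ G := iSup₂_le hWG
  haveI : (U.subgroupOf G).Normal := ⟨fun y hy g => by
    have hle : U ≤ U.comap (MulAut.conj (g : LinearMap.GeneralLinearGroup k M)).toMonoidHom :=
      iSup₂_le fun B hB z hz => (le_iSup₂_of_le (conjBy B g) (hWconj B hB g g.2) le_rfl : _ ≤ U) ⟨z, hz, rfl⟩
    exact hle hy⟩
  have hp : IsPGroup p (U.subgroupOf G) := fun y => ⟨n, Subtype.ext (Subtype.ext (by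
    rw [SubgroupClass.coe_pow, SubgroupClass.coe_pow]
    refine pow_eq_one_of_alpha_pow (pow_eq_zero_of_le (Nat.lt_pow_self C.setting.prime.one_lt).le ?_)
    have h0 := hn (List.replicate n ((y : ↥G) : LinearMap.GeneralLinearGroup k M))
      (fun g hg => by rw [List.eq_of_mem_replicate hg]; exact y.2) List.length_replicate
    rwa [List.map_replicate, List.prod_replicate] at h0))⟩
  have huU : u ∈ U := (le_iSup₂_of_le A hA le_rfl : A ≤ U) hu
  have h0 := CfsgLib.Coprime.le_pCore hp (show (⟨u, hUG huU⟩ : ↥G) ∈ U.subgroupOf G from huU)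
  rw [C.core, Subgroup.mem_bot] at h0
  rw [show u = 1 from congrArg Subtype.val h0, alpha_one]

/-- A quadratic element annihilated by all minimal ones commutes with all of them. -/
theorem inert_commute_of_core [Finite k] {p : ℕ} (C : Ctx p G) {q : LinearMap.GeneralLinearGroup k M}
    (hq : q ∈ quadraticElements G)
    (hin : ∀ d ∈ minimalQuadraticElements G, alpha q * alpha d * alpha q = 0)
    {σ : LinearMap.GeneralLinearGroup k M} (hσ : σ ∈ minimalQuadraticElements G) :
    alpha q * alpha σ = alpha σ * alpha q := by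
  have h2 : (2 : k) ≠ 0 := C.setting.two_ne
  have h3 := C.setting.card_ne
  set L := Submodule.span k (alpha '' minimalQuadraticElements G) with hL
  let N : Set (LinearMap.GeneralLinearGroup k M) := {u | u ∈ quadraticElements G ∧ alpha u ∈ L ∧
    ∀ d ∈ minimalQuadraticElements G, alpha u * alpha d * alpha u = 0}
  have hspan : ∀ {γ : M →ₗ[k] M}, (∀ d ∈ minimalQuadraticElements G, γ * alpha d * γ = 0) →
      ∀ X ∈ L, γ * X * γ = 0 := by
    intro γ h X hX
    induction hX using Submodule.span_induction with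
    | mem z hz => obtain ⟨d, hd, rfl⟩ := hz; exact h d hd
    | zero => simp
    | add z w _ _ hz hw => rw [mul_add, add_mul, hz, hw, add_zero]
    | smul c z _ hz => rw [mul_smul_comm, smul_mul_assoc, hz, smul_zero]
  have hinconj : ∀ {u g : LinearMap.GeneralLinearGroup k M}, g ∈ G →
      (∀ d ∈ minimalQuadraticElements G, alpha u * alpha d * alpha u = 0) →
      ∀ d ∈ minimalQuadraticElements G, alpha (g * u * g⁻¹) * alpha d * alpha (g * u * g⁻¹) = 0 := by
    intro u g hg h d hd
    have h1 := h _ (conj_mem_minimal (inv_mem hg) hd)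
    rw [alpha_conj, inv_inv] at h1
    rw [alpha_conj]
    calc _ = (g : M →ₗ[k] M) * (alpha u * (((g⁻¹ : LinearMap.GeneralLinearGroup k M) : M →ₗ[k] M) * alpha d *
          (g : M →ₗ[k] M)) * alpha u) * ((g⁻¹ : LinearMap.GeneralLinearGroup k M) : M →ₗ[k] M) := by
            simp only [mul_assoc]
      _ = 0 := by rw [h1, mul_zero, zero_mul]
  have hN : ∀ u ∈ N, False := by
    intro u hu
    refine hu.1.2.1.2 ?_
    refine trivial_of_unipotent_core C (W := (fun u => Subgroup.closure (scalarFamily u)) '' N) ?_ ?_ ?_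
      ⟨u, hu, rfl⟩ (Subgroup.subset_closure (self_mem_scalarFamily u))
    · rintro _ ⟨w, hw, rfl⟩
      exact (Subgroup.closure_le _).2 hw.1.2.2
    · rintro _ ⟨w, hw, rfl⟩ _ ⟨w', hw', rfl⟩
      simp only [← Subgroup.closure_union]
      exact unipotent_of_triple_zero hw.1.2.1.1 hw'.1.2.1.1 (hspan hw.2.2 _ hw'.2.1) (hspan hw'.2.2 _ hw.2.1)
    · rintro _ ⟨w, hw, rfl⟩ g hg
      refine ⟨g * w * g⁻¹, ⟨conj_mem_quadratic hg hw.1, ?_, hinconj hg hw.2.2⟩, ?_⟩
      · rw [alpha_conj]
        have hmap : L ≤ L.comap ((LinearMap.mulRight k ((g⁻¹ : LinearMap.GeneralLinearGroup k M) : M →ₗ[k] M)).comp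
            (LinearMap.mulLeft k (g : M →ₗ[k] M))) := by
          refine Submodule.span_le.2 ?_
          rintro _ ⟨d, hd, rfl⟩
          refine Submodule.subset_span ⟨_, conj_mem_minimal hg hd, ?_⟩
          rw [alpha_conj]; rfl
        exact hmap hw.2.1
      · simp only [conjBy, MonoidHom.map_closure]
        congr 1
        ext y
        constructor
        · rintro ⟨c, hc⟩
          refine ⟨g⁻¹ * y * g, ⟨c, ?_⟩, by simp [mul_assoc]⟩
          rw [Units.val_mul, Units.val_mul, hc]
          show _ * (1 + c • alpha (g * w * g⁻¹)) * _ = 1 + c • alpha w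
          rw [alpha_conj, mul_add, add_mul, mul_one, Units.inv_mul, mul_smul_comm, smul_mul_assoc]
          congr 2
          simp only [← mul_assoc, Units.inv_mul, one_mul]
          rw [mul_assoc, Units.inv_mul, mul_one]
        · rintro ⟨z, ⟨c, hc⟩, rfl⟩
          refine ⟨c, ?_⟩
          show (g : M →ₗ[k] M) * (z : M →ₗ[k] M) * ((g⁻¹ : LinearMap.GeneralLinearGroup k M) : M →ₗ[k] M) =
            1 + c • alpha (g * w * g⁻¹)
          rw [hc, alpha_conj, mul_add, add_mul, mul_one, Units.mul_inv, mul_smul_comm, smul_mul_assoc]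
          rfl
  set γ := alpha q with hγdef
  have hγ : γ * γ = 0 := hq.2.1.1
  set a := alpha σ with hadef
  have ha : a * a = 0 := sq_of_min hσ
  have hgag : γ * a * γ = 0 := hin σ hσ
  set D := γ * a - a * γ with hD
  set τ := q * σ * q⁻¹ with hτdef
  have hτ : τ ∈ minimalQuadraticElements G := conj_mem_minimal hq.1 hσ
  have hατ : alpha τ = a + D := by
    rw [hτdef, ← oneAdd_alpha (show alpha q * alpha q = 0 from hγ), ← oneAdd_alpha (show alpha σ * alpha σ = 0 from ha),
      alpha_oneAdd_conj, ← hγdef, ← hadef, hgag, sub_zero]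
  have hgag' : γ * (a * γ) = 0 := by rw [← mul_assoc]; exact hgag
  have haga : a * γ * a = 0 := by
    by_contra hne
    have hn : IsNilPair a (alpha τ) := by
      rw [hατ]
      constructor
      · simp only [hD, mul_add, add_mul, mul_sub, sub_mul, ← mul_assoc, ha, zero_mul, zero_add]
        rw [mul_assoc (a * γ), ha, mul_zero, sub_zero]
      · have hDa0 : D * a = -(a * γ * a) := by rw [hD, sub_mul, mul_assoc γ a a, ha, mul_zero, zero_sub]
        have haD0 : a * D = a * γ * a := by rw [hD, mul_sub, ← mul_assoc, ← mul_assoc, ha, zero_mul, sub_zero]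
        rw [add_mul a D a, ha, zero_add, hDa0, neg_mul, mul_add, mul_assoc (a * γ) a a, ha, mul_zero, zero_add,
          mul_assoc (a * γ) a D, haD0, show a * γ * (a * γ * a) = a * (γ * a * γ) * a by noncomm_ring, hgag]
        simp
    have hb : bracket a (alpha τ) = (2 : k) • (a * γ * a) := by
      rw [hατ, bracket, hD]
      simp only [mul_add, add_mul, mul_sub, sub_mul, ← mul_assoc, ha, zero_mul, zero_add]
      rw [mul_assoc γ a a, ha, mul_zero, two_smul]
      abel
    have hb0 : bracket a (alpha τ) ≠ 0 := by rw [hb]; exact smul_ne_zero h2 hne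
    have Dd := commData hσ hτ hn hb0
    set ε := commElt σ τ
    have heps : alpha ε = (2 : k) • (a * γ * a) := by rw [Dd.eq, hb]
    have hact : alpha ε ∈ actSpace G σ (sq_of_min hσ) := by
      refine ⟨?_, ?_, fun t => (alpha_mem_actSpace Dd.mem).2.2 t⟩
      · rintro _ ⟨m, rfl⟩
        exact ⟨(2 : k) • γ (a m), by rw [heps, map_smul]; rfl⟩
      · intro m hm
        rw [LinearMap.mem_ker] at hm ⊢
        rw [heps, LinearMap.smul_apply, Module.End.mul_apply, show a m = 0 from hm, map_zero, smul_zero]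
    have hcl := mem_class_of_actSpace hσ hact (alpha_ne_zero Dd.mem)
    have hk : LinearMap.ker (alpha ε) = LinearMap.ker a := hcl.2.1
    have hr : LinearMap.range (alpha ε) = LinearMap.range a := hcl.2.2
    have hετ := bracket_right (sq_of_min hτ) hn
    rw [← Dd.eq] at hετ
    refine hb0 ?_
    have l1 : alpha τ * a = 0 := LinearMap.ext fun m => by
      obtain ⟨w, hw⟩ := hr ▸ LinearMap.mem_range_self a m
      rw [Module.End.mul_apply, ← hw, ← Module.End.mul_apply, hετ.1]; simp
    have l2 : a * alpha τ = 0 := LinearMap.ext fun m => by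
      rw [Module.End.mul_apply, LinearMap.zero_apply]
      refine LinearMap.mem_ker.1 (hk ▸ ?_)
      rw [LinearMap.mem_ker, ← Module.End.mul_apply, hετ.2, LinearMap.zero_apply]
    rw [bracket, l1, l2, sub_zero]
  have haga' : a * (γ * a) = 0 := by rw [← mul_assoc]; exact haga
  have haD : a * D = 0 := by rw [hD, mul_sub, haga', ← mul_assoc, ha, zero_mul, sub_zero]
  have hDa : D * a = 0 := by rw [hD, sub_mul, mul_assoc γ, ha, mul_zero, haga, sub_zero]
  have hDD : D * D = 0 := by
    rw [show D * D = D * (γ * a) - D * (a * γ) by rw [← mul_sub], ← mul_assoc D a γ, hDa, zero_mul, sub_zero, hD,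
      sub_mul, mul_assoc γ a (γ * a), haga', mul_zero, mul_assoc a γ (γ * a), ← mul_assoc γ γ a, hγ, zero_mul,
      mul_zero, sub_zero]
  by_contra hne
  have hD0 : D ≠ 0 := fun e => hne (sub_eq_zero.1 e)
  refine hN (oneAdd D hDD) ⟨quadratic_of_family hDD hD0 fun t => ?_, ?_, fun d hd => ?_⟩
  · have h1 := mul_mem (family_mem hτ.1 t) (inv_mem (family_mem hσ.1 t))
    convert h1 using 1
    rw [oneAdd_inv_neg (show alpha σ * alpha σ = 0 from ha)]
    refine Units.ext ?_
    rw [Units.val_mul, oneAdd_val, oneAdd_val, oneAdd_val, hατ, ← hadef]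
    simp only [add_mul, mul_add, one_mul, mul_one, smul_add, smul_mul_assoc, mul_smul_comm, ha, hDa, smul_zero, add_zero]
    module
  · rw [alpha_oneAdd]
    have : D = alpha τ - alpha σ := by rw [hατ, ← hadef]; abel
    rw [this]
    exact sub_mem (Submodule.subset_span ⟨τ, hτ, rfl⟩) (Submodule.subset_span ⟨σ, hσ, rfl⟩)
  · rw [alpha_oneAdd]
    have key : ∀ s : k, (γ - s • D) * alpha d * (γ - s • D) = 0 := by
      intro s
      have h1 := hinconj (family_mem hσ.1 s) hin d hd
      have e : alpha (oneAdd (s • a) (smul_sq ha s) * q * (oneAdd (s • a) (smul_sq ha s))⁻¹) = γ - s • D := by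
        rw [← oneAdd_alpha (show alpha q * alpha q = 0 from hγ), alpha_oneAdd_conj, ← hγdef, hD]
        simp only [smul_mul_assoc, mul_smul_comm, smul_smul, haga, smul_zero, sub_zero]
        module
      rw [e] at h1
      exact h1
    have k1 := key 1
    have k2 := key (-1)
    have k3 := hin d hd
    simp only [one_smul, neg_smul, sub_neg_eq_add, add_mul, mul_add, sub_mul, mul_sub, ← hγdef] at k1 k2 k3
    have : (2 : k) • (D * alpha d * D) = 0 := by linear_combination (norm := module) k1 + k2 - (2 : k) • k3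
    exact (smul_eq_zero.1 this).resolve_left h2


end CfsgLib.EquivZJ
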