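import Cfsg.Agent.Lib.CFun.EquivZJ.Rigid
import Cfsg.Agent.Lib.CFun.CoprimeQuad.Reduce
import Cfsg.Agent.Lib.CFun.Series

/-!
# Quadratic elements of all invariant Sylow subgroups on chief factors
-/

set_option autoImplicit false
set_option linter.style.haveILetI false
set_option linter.unusedSectionVars false

namespace CfsgLib.EquivZJ

open Cfsg hiding alpha
open CfsgLib.QuadPair CfsgLib.CoprimeQuad
open CfsgLib.Coprime (IsSylowIn)
open scoped MatrixGroups commutatorElement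

universe u v

variable {p : ℕ} [Fact p.Prime]

theorem InAll.subgroupOf {G : Type*} [Group G] [Finite G] {K A T : Subgroup G} {a : G} (h : InAll p K A a)
    (hK : K ≤ T) (hA : A ≤ T) (haT : a ∈ T) : InAll p (K.subgroupOf T) (A.subgroupOf T) ⟨a, haT⟩ := by
  refine ⟨h.1, fun S hS hSA => ?_⟩
  have hmap : (K.subgroupOf T).map T.subtype = K := Subgroup.map_subgroupOf_eq_of_le hK
  have hS' : IsSylowIn p (S.map T.subtype) K := by
    refine ⟨hmap ▸ Subgroup.map_mono hS.1, ?_⟩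
    rw [Subgroup.card_map_of_injective T.subtype_injective, hS.2,
      ← Subgroup.card_map_of_injective (K := K.subgroupOf T) T.subtype_injective, hmap]
  have hinv : A ≤ Subgroup.normalizer ((S.map T.subtype : Subgroup G) : Set G) := fun x hx =>
    Subgroup.le_normalizer_map T.subtype ⟨⟨x, hA hx⟩, hSA hx, rfl⟩
  obtain ⟨y, hy, e⟩ := h.2 _ hS' hinv
  rwa [show y = ⟨a, haT⟩ from Subtype.ext e] at hy

/-- The linear theorem. -/
theorem mem_pCore_aux (hp5 : 5 ≤ p) : ∀ (m n : ℕ) (M : Type v) [AddCommGroup M] [Module (ZMod p) M] [Finite M],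
    Nat.card M = m → ∀ H A : Subgroup (LinearMap.GeneralLinearGroup (ZMod p) M), Nat.card H = n →
    A ≤ Subgroup.normalizer (H : Set (LinearMap.GeneralLinearGroup (ZMod p) M)) →
    (Nat.card A).Coprime (Nat.card H) → Group.IsSolvable A →
    ∀ q, InAll p H A q → alpha q * alpha q = 0 → q ∈ (Cfsg.pCore p ↥H).map H.subtype := by
  intro m
  induction m using Nat.strong_induction_on with
  | _ m ihm =>
  intro n
  induction n using Nat.strong_induction_on with
  | _ n ihn =>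
  intro M _ _ _ hM H A hn hA hcop hsolv q hq hsq
  classical
  haveI : Module.Finite (ZMod p) M := Module.Finite.of_finite
  haveI := finite_gl (k := ZMod p) (M := M)
  have hqH : q ∈ H := hq.1
  by_cases hq0 : alpha q = 0
  · rw [eq_one_of_alpha hq0]; exact one_mem _
  by_cases hO : Cfsg.pCore p ↥H = ⊥
  · exfalso
    refine rigid (k := ZMod p) ⟨⟨Fact.out, hp5, inferInstance⟩, hO, fun c => ⟨c.val, ZMod.natCast_zmod_val c⟩⟩
      hA hcop hsolv hq hsq hq0 fun L hL hne hAL hqL => ?_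
    exact ihn (Nat.card L) (hn ▸ lt_of_le_of_ne (Subgroup.card_le_of_le hL)
      fun e => hne (Subgroup.eq_of_le_of_card_ge hL e.ge)) M hM L A rfl hAL
      (hcop.coprime_dvd_right (Subgroup.card_dvd_of_le hL)) hsolv q (hq.restrict hL hA hcop hsolv hqL) hsq
  set O := (Cfsg.pCore p ↥H).map H.subtype with hOdef
  have hOp : IsPGroup p O := (CfsgLib.Coprime.pCore_isPGroup p).map _
  have hO1 : O ≠ ⊥ := fun e => hO ((Subgroup.map_eq_bot_iff_of_injective _ H.subtype_injective).1 e)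
  set T := H ⊔ A with hT
  have hTH : T ≤ Subgroup.normalizer (H : Set (LinearMap.GeneralLinearGroup (ZMod p) M)) :=
    sup_le Subgroup.le_normalizer hA
  set W := fixedMod ((O : Subgroup _) : Set (LinearMap.GeneralLinearGroup (ZMod p) M)) ⊥ with hW
  have hfix : ∀ w, w ∈ W ↔ ∀ u ∈ O, alpha u w = 0 := fun w => by
    rw [hW, mem_fixedMod]
    exact ⟨fun h u hu => (Submodule.mem_bot _).1 (h u hu), fun h u hu => (Submodule.mem_bot _).2 (h u hu)⟩
  have hinv : ∀ g : ↥T, ∀ w ∈ W, (T.subtype g : M →ₗ[ZMod p] M) w ∈ W := by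
    intro g w hw
    rw [hfix] at hw ⊢
    intro u hu
    have h1 := hw _ (conj_mem_pCore (hTH (T.inv_mem g.2)) hu)
    rw [inv_inv] at h1
    have e : alpha u * ((g : LinearMap.GeneralLinearGroup (ZMod p) M) : M →ₗ[ZMod p] M) =
        ((g : LinearMap.GeneralLinearGroup (ZMod p) M) : M →ₗ[ZMod p] M) *
          alpha ((g : LinearMap.GeneralLinearGroup (ZMod p) M)⁻¹ * u * (g : LinearMap.GeneralLinearGroup (ZMod p) M)) := by
      simp only [CfsgLib.QuadPair.alpha, sub_mul, mul_sub, one_mul, mul_one, Units.val_mul, ← mul_assoc,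
        Units.mul_inv]
    show alpha u ((T.subtype g : M →ₗ[ZMod p] M) w) = 0
    rw [Subgroup.coe_subtype, ← Module.End.mul_apply, e, Module.End.mul_apply, h1, map_zero]
  obtain ⟨u₀, hu₀, hu₁⟩ := O.ne_bot_iff_exists_ne_one.1 hO1 |> fun ⟨⟨u, hu⟩, h⟩ =>
    (⟨u, hu, fun e => h (Subtype.ext e)⟩ : ∃ u ∈ O, u ≠ 1)
  obtain ⟨m₀, hm₀⟩ : ∃ m, m ∉ W := by
    by_contra h
    push Not at h
    exact hu₁ (eq_one_of_alpha (LinearMap.ext fun x => (hfix x).1 (h x) u₀ hu₀))
  obtain ⟨w₀, hw₀, hw₀0⟩ : ∃ w ∈ W, w ≠ 0 := by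
    haveI : Nontrivial M := ⟨⟨m₀, 0, fun h => hm₀ (h ▸ zero_mem W)⟩⟩
    have hpM : p ∣ Nat.card M := by
      rw [Module.natCard_eq_pow_finrank (K := ZMod p), Nat.card_zmod]
      exact dvd_pow_self p (Module.finrank_pos (R := ZMod p) (M := M)).ne'
    have h0 : (0 : M) ∈ MulAction.fixedPoints O M := fun u =>
      map_zero ((u : LinearMap.GeneralLinearGroup (ZMod p) M) : M →ₗ[ZMod p] M)
    obtain ⟨w, hw, hne⟩ := hOp.exists_fixed_point_of_prime_dvd_card_of_fixed_point M hpM h0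
    refine ⟨w, (hfix w).2 fun u hu => ?_, hne.symm⟩
    have h5 : (u : M →ₗ[ZMod p] M) w = w := hw ⟨u, hu⟩
    show (u : M →ₗ[ZMod p] M) w - w = 0
    rw [h5, sub_self]
  haveI : Finite (M ⧸ W) := Finite.of_surjective W.mkQ W.mkQ_surjective
  have hcard : Nat.card M = Nat.card (M ⧸ W) * Nat.card W := by
    rw [mul_comm]; exact Submodule.card_eq_card_quotient_mul_card W
  have hW1 : 1 < Nat.card W := by
    haveI : Nontrivial W := ⟨⟨⟨w₀, hw₀⟩, 0, fun h => hw₀0 (congrArg Subtype.val h)⟩⟩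
    exact Finite.one_lt_card
  have hQ1 : 1 < Nat.card (M ⧸ W) := by
    haveI : Nontrivial (M ⧸ W) :=
      ⟨⟨Submodule.Quotient.mk m₀, 0, fun h => hm₀ ((Submodule.Quotient.mk_eq_zero W).1 h)⟩⟩
    exact Finite.one_lt_card
  have hqT : q ∈ T := Subgroup.mem_sup_left hqH
  set H' := H.subgroupOf T with hH'
  set A' := A.subgroupOf T with hA'
  set q' : ↥T := ⟨q, hqT⟩
  haveI hH'n : H'.Normal := (Subgroup.normal_subgroupOf_iff_le_normalizer le_sup_left).2 hTH
  have hA'n : A' ≤ Subgroup.normalizer (H' : Set ↥T) := by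
    rw [Subgroup.normalizer_eq_top]; exact le_top
  have hcardA : Nat.card A' = Nat.card A := Nat.card_congr (Subgroup.subgroupOfEquivOfLe le_sup_right).toEquiv
  have hcardH : Nat.card H' = Nat.card H := Nat.card_congr (Subgroup.subgroupOfEquivOfLe le_sup_left).toEquiv
  haveI := hsolv
  haveI hsolvA' : Group.IsSolvable A' :=
    Group.isSolvable_of_surjective (f := (Subgroup.subgroupOfEquivOfLe (le_sup_right : A ≤ T)).symm.toMonoidHom)
      (Subgroup.subgroupOfEquivOfLe (le_sup_right : A ≤ T)).symm.surjective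
  have hcop' : (Nat.card A').Coprime (Nat.card H') := by rwa [hcardA, hcardH]
  have hq' : InAll p H' A' q' := hq.subgroupOf le_sup_left le_sup_right hqT
  -- a representation on a smaller space
  have step : ∀ (V : Type v) [AddCommGroup V] [Module (ZMod p) V] [Finite V]
      (ρ : ↥T →* LinearMap.GeneralLinearGroup (ZMod p) V), Nat.card V < m →
      alpha (ρ q') * alpha (ρ q') = 0 →
      ∃ N : Subgroup ↥T, N.Normal ∧ N ≤ H' ∧ q' ∈ N ∧ ∀ x ∈ N, ∃ j, ρ x ^ p ^ j = 1 := by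
    intro V _ _ _ ρ hV hVsq
    haveI : Module.Finite (ZMod p) V := Module.Finite.of_finite
    haveI := finite_gl (k := ZMod p) (M := V)
    haveI : Group.IsSolvable ↥(A'.map ρ) :=
      Group.isSolvable_of_surjective (ρ.subgroupMap_surjective A')
    have hn' : ∀ g, ρ g ∈ Subgroup.normalizer ((H'.map ρ : Subgroup _) : Set (LinearMap.GeneralLinearGroup (ZMod p) V)) :=
      fun g => Subgroup.le_normalizer_map ρ ⟨g, by rw [Subgroup.normalizer_eq_top]; exact Subgroup.mem_top g, rfl⟩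
    have h1 := ihm (Nat.card V) hV _ V rfl (H'.map ρ) (A'.map ρ) rfl
      (by rintro _ ⟨x, -, rfl⟩; exact hn' x)
      ((hcop'.coprime_dvd_left (Subgroup.card_map_dvd A' ρ)).coprime_dvd_right (Subgroup.card_map_dvd H' ρ))
      inferInstance (ρ q') (hq'.map ρ hA'n hcop' hsolvA') hVsq
    set O' := (Cfsg.pCore p ↥(H'.map ρ)).map (H'.map ρ).subtype
    refine ⟨H' ⊓ O'.comap ρ, ⟨fun x hx g => ⟨hH'n.conj_mem x hx.1 g, ?_⟩⟩, inf_le_left, ⟨hq'.1, h1⟩,
      fun x hx => ?_⟩
    · show ρ (g * x * g⁻¹) ∈ O'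
      rw [map_mul, map_mul, map_inv]
      exact conj_mem_pCore (hn' g) hx.2
    · obtain ⟨j, hj⟩ := ((CfsgLib.Coprime.pCore_isPGroup p).map (H'.map ρ).subtype) ⟨ρ x, hx.2⟩
      exact ⟨j, by simpa using congrArg Subtype.val hj⟩
  obtain ⟨N1, hN1n, hN1H, hqN1, hN1p⟩ := step W (subRep T.subtype W hinv)
    (by rw [← hM, hcard]; exact lt_mul_of_one_lt_left (by omega) hQ1)
    (LinearMap.ext fun w => Subtype.ext (by
      rw [Module.End.mul_apply, subRep_alpha, subRep_alpha, ← Module.End.mul_apply]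
      show (alpha q * alpha q) w = _
      rw [hsq]; rfl))
  obtain ⟨N2, hN2n, -, hqN2, hN2p⟩ := step (M ⧸ W) (quotRep T.subtype W hinv)
    (by rw [← hM, hcard]; exact lt_mul_of_one_lt_right (by omega) hW1)
    (Submodule.linearMap_qext _ (LinearMap.ext fun x => by
      show alpha (quotRep T.subtype W hinv q') (alpha (quotRep T.subtype W hinv q') (Submodule.Quotient.mk x)) = _
      rw [quotRep_alpha, quotRep_alpha, ← Module.End.mul_apply]
      show Submodule.Quotient.mk ((alpha q * alpha q) x) = _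
      rw [hsq]
      rfl))
  haveI := hN1n
  haveI := hN2n
  set N := N1 ⊓ N2
  have hNp : IsPGroup p (N.map T.subtype) := by
    rintro ⟨_, x, hx, rfl⟩
    obtain ⟨i, hi⟩ := hN1p x hx.1
    obtain ⟨j, hj⟩ := hN2p x hx.2
    set y := x ^ p ^ (i + j) with hy
    have hi' : subRep T.subtype W hinv y = 1 := by
      rw [hy, map_pow, pow_add, pow_mul, hi, one_pow]
    have hj' : quotRep T.subtype W hinv y = 1 := by
      rw [hy, map_pow, add_comm, pow_add, pow_mul, hj, one_pow]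
    have hyW : ∀ z, alpha (T.subtype y) z ∈ W := fun z => (Submodule.Quotient.mk_eq_zero W).1 (by
      rw [← quotRep_alpha T.subtype W hinv, hj', alpha_one, LinearMap.zero_apply])
    have hyw : ∀ w ∈ W, alpha (T.subtype y) w = 0 := fun w hw => by
      rw [← subRep_alpha T.subtype W hinv y ⟨w, hw⟩, hi', alpha_one]; rfl
    have h2 : alpha (T.subtype y) * alpha (T.subtype y) = 0 := LinearMap.ext fun z => by
      rw [Module.End.mul_apply, hyw _ (hyW z), LinearMap.zero_apply]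
    refine ⟨i + j + 1, Subtype.ext ?_⟩
    rw [SubgroupClass.coe_pow, pow_succ p (i + j), pow_mul]
    show (T.subtype x ^ p ^ (i + j)) ^ p = 1
    rw [← map_pow, ← hy]
    exact pow_char_eq_one_of_cube (by omega) (by rw [h2, zero_mul])
  have hNH : N.map T.subtype ≤ H := by
    rintro _ ⟨x, hx, rfl⟩; exact hN1H hx.1
  haveI : ((N.map T.subtype).subgroupOf H).Normal := by
    refine (Subgroup.normal_subgroupOf_iff_le_normalizer hNH).2 fun h hh => ?_
    exact Subgroup.le_normalizer_map T.subtype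
      ⟨⟨h, Subgroup.mem_sup_left hh⟩, by rw [Subgroup.normalizer_eq_top]; exact Subgroup.mem_top _, rfl⟩
  have := CfsgLib.Coprime.le_pCore (N := (N.map T.subtype).subgroupOf H) (hNp.comap_subtype)
    (show (⟨q, hqH⟩ : ↥H) ∈ (N.map T.subtype).subgroupOf H from ⟨q', ⟨hqN1, hqN2⟩, rfl⟩)
  exact ⟨_, this, rfl⟩

variable {Γ : Type u} [Group Γ] [Finite Γ]

/-- The linear theorem for an action on an elementary abelian group. -/
theorem exists_normal_of_quadratic_aut (hp5 : 5 ≤ p) {G A : Subgroup Γ} [G.Normal]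
    (hcop : (Nat.card A).Coprime (Nat.card G)) (hsolv : Group.IsSolvable A) {a : Γ} (ha : InAll p G A a)
    {V : Type u} [CommGroup V] [Finite V] (hVp : ∀ v : V, v ^ p = 1) (θ : Γ →* MulAut V)
    (h : ∀ v, θ a (θ a v * v⁻¹) * (θ a v * v⁻¹)⁻¹ = 1) :
    ∃ N : Subgroup Γ, N.Normal ∧ a ∈ N ∧ IsPGroup p (N.map θ) := by
  have hVadd : ∀ v : Additive V, p • v = 0 := fun v => congrArg Additive.ofMul (hVp (Additive.toMul v))
  haveI : Module (ZMod p) (Additive V) := AddCommGroup.zmodModule hVadd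
  haveI : Module.Finite (ZMod p) (Additive V) := Module.Finite.of_finite
  haveI := finite_gl (k := ZMod p) (M := Additive V)
  let ρ : Γ →* LinearMap.GeneralLinearGroup (ZMod p) (Additive V) := (autGL (p := p)).comp θ
  have hsq : alpha (ρ a) * alpha (ρ a) = 0 := autGL_sq h
  haveI := hsolv
  haveI : Group.IsSolvable ↥(A.map ρ) :=
    Group.isSolvable_of_surjective (ρ.subgroupMap_surjective A)
  have hAn : A ≤ Subgroup.normalizer (G : Set Γ) := by rw [Subgroup.normalizer_eq_top]; exact le_top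
  have hρn : ∀ g, ρ g ∈ Subgroup.normalizer ((G.map ρ : Subgroup _) :
      Set (LinearMap.GeneralLinearGroup (ZMod p) (Additive V))) := fun g =>
    Subgroup.le_normalizer_map ρ ⟨g, by rw [Subgroup.normalizer_eq_top]; exact Subgroup.mem_top g, rfl⟩
  have h1 := mem_pCore_aux hp5 _ _ (Additive V) rfl (G.map ρ) (A.map ρ) rfl
    (by rintro _ ⟨x, -, rfl⟩; exact hρn x)
    ((hcop.coprime_dvd_left (Subgroup.card_map_dvd A ρ)).coprime_dvd_right (Subgroup.card_map_dvd G ρ))
    inferInstance (ρ a) (ha.map ρ hAn hcop hsolv) hsq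
  set O := (Cfsg.pCore p ↥(G.map ρ)).map (G.map ρ).subtype with hO
  refine ⟨G ⊓ O.comap ρ, ⟨fun x hx g => ⟨Subgroup.Normal.conj_mem inferInstance x hx.1 g, ?_⟩⟩, ⟨ha.1, h1⟩, ?_⟩
  · show ρ (g * x * g⁻¹) ∈ O
    rw [map_mul, map_mul, map_inv]
    exact conj_mem_pCore (hρn g) hx.2
  · rintro ⟨_, x, hx, rfl⟩
    obtain ⟨j, hj⟩ := ((CfsgLib.Coprime.pCore_isPGroup p).map (G.map ρ).subtype) ⟨ρ x, hx.2⟩
    refine ⟨j, Subtype.ext ?_⟩
    rw [SubgroupClass.coe_pow]
    refine eq_one_of_autGL (p := p) ?_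
    rw [map_pow]
    simpa [ρ] using congrArg Subtype.val hj

/-- **Quadratic elements of all invariant Sylow subgroups act trivially on chief factors.** -/
theorem commutator_mem_of_quadratic (hp5 : 5 ≤ p) {G A : Subgroup Γ} [G.Normal]
    (hcop : (Nat.card A).Coprime (Nat.card G)) (hsolv : Group.IsSolvable A) {a : Γ} (ha : InAll p G A a)
    {U V : Subgroup Γ} (hch : Cfsg.IsChiefFactor U V) (hU : IsPGroup p U)
    (hq : ∀ u ∈ U, ⁅a, ⁅a, u⁆⁆ ∈ V) : ∀ u ∈ U, ⁅a, u⁆ ∈ V := by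
  classical
  haveI := hch.2.1
  haveI := hch.2.2.1
  set π := QuotientGroup.mk' V with hπ
  have hπs := QuotientGroup.mk'_surjective V
  set Ū := U.map π with hŪ
  haveI hUn : Ū.Normal := Subgroup.Normal.map inferInstance π hπs
  have hŪp : IsPGroup p Ū := hU.map π
  have hmin : ∀ F : Subgroup (Γ ⧸ V), F.Normal → F ≤ Ū → F ≠ ⊥ → F = Ū := by
    intro F hF hFU hF1
    haveI := hF
    have hVF : V ≤ U ⊓ F.comap π := le_inf hch.1.le fun x hx => by
      rw [Subgroup.mem_comap, show π x = 1 from (QuotientGroup.eq_one_iff x).2 hx]; exact one_mem F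
    rcases hch.2.2.2 (U ⊓ F.comap π) inferInstance hVF inf_le_left with h | h
    · exfalso
      refine hF1 ((Subgroup.eq_bot_iff_forall _).2 fun z hz => ?_)
      obtain ⟨x, hx, rfl⟩ := hFU hz
      exact (QuotientGroup.eq_one_iff x).2 (h.le (Subgroup.mem_inf.2 ⟨hx, hz⟩))
    · refine le_antisymm hFU ?_
      rintro _ ⟨x, hx, rfl⟩
      exact (h.symm.le hx).2
  have hŪ1 : Ū ≠ ⊥ := fun e => hch.1.not_ge fun x hx => (QuotientGroup.eq_one_iff x).1
    ((Subgroup.mem_bot).1 (e ▸ ⟨x, hx, rfl⟩ : π x ∈ (⊥ : Subgroup (Γ ⧸ V))))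
  have hab : ∀ x ∈ Ū, ∀ y ∈ Ū, x * y = y * x := by
    haveI : (CfsgLib.CFun.cen Ū).Normal := Subgroup.normal_inf_normal _ _
    haveI : Nontrivial Ū := (Subgroup.nontrivial_iff_ne_bot _).2 hŪ1
    have hc1 : CfsgLib.CFun.cen Ū ≠ ⊥ := by
      obtain ⟨⟨z, hz⟩, hz1⟩ := (Subgroup.ne_bot_iff_exists_ne_one).1 (bot_lt_iff_ne_bot.1 hŪp.bot_lt_center)
      refine fun e => hz1 (Subtype.ext (Subtype.ext ((Subgroup.mem_bot).1 (e ▸ ⟨z.2, ?_⟩))))
      exact Subgroup.mem_centralizer_iff.2 fun y hy =>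
        congrArg Subtype.val (Subgroup.mem_center_iff.1 hz ⟨y, hy⟩)
    have := hmin _ inferInstance inf_le_left hc1
    intro x hx y hy
    exact (CfsgLib.CFun.commute_of_mem_cen (this.symm.le hx) hy).eq
  letI : CommGroup Ū := { (inferInstance : Group Ū) with mul_comm := fun x y => Subtype.ext (hab _ x.2 _ y.2) }
  have hVp : ∀ v : Ū, v ^ p = 1 := by
    let Ω : Subgroup (Γ ⧸ V) :=
      { carrier := {x | x ∈ Ū ∧ x ^ p = 1}
        one_mem' := ⟨one_mem Ū, one_pow p⟩
        mul_mem' := fun {x y} hx hy => ⟨mul_mem hx.1 hy.1, by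
          rw [(show Commute x y from hab x hx.1 y hy.1).mul_pow, hx.2, hy.2, one_mul]⟩
        inv_mem' := fun {x} hx => ⟨inv_mem hx.1, by rw [inv_pow, hx.2, inv_one]⟩ }
    have hΩn : Ω.Normal := ⟨fun x hx g => ⟨hUn.conj_mem x hx.1 g, by rw [conj_pow, hx.2, mul_one, mul_inv_cancel]⟩⟩
    obtain ⟨⟨x, hx⟩, hx1⟩ : ∃ z : Ū, orderOf z = p := by
      refine exists_prime_orderOf_dvd_card' p ?_
      obtain ⟨r, hr⟩ := IsPGroup.iff_card.1 hŪp
      rcases r with _ | r
      · rw [pow_zero] at hr; exact absurd ((Subgroup.card_eq_one).1 hr) hŪ1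
      · rw [hr]; exact dvd_pow_self p (Nat.succ_ne_zero r)
    have hxp : x ^ p = 1 := by
      have := pow_orderOf_eq_one (⟨x, hx⟩ : Ū)
      rw [hx1] at this
      exact congrArg Subtype.val this
    have hΩ := hmin Ω hΩn (fun z hz => hz.1) fun e => (Fact.out : p.Prime).ne_one (by
      rw [← hx1, orderOf_eq_one_iff]
      exact Subtype.ext ((Subgroup.mem_bot).1 (e ▸ (show x ∈ Ω from ⟨hx, hxp⟩))))
    intro v
    exact Subtype.ext (hΩ.symm.le v.2).2
  let θ : Γ →* MulAut Ū := (MulAut.conjNormal (H := Ū)).comp π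
  obtain ⟨N, hNn, haN, hNp⟩ := exists_normal_of_quadratic_aut hp5 hcop hsolv ha hVp θ (fun v => Subtype.ext (by
    obtain ⟨_, u, hu, rfl⟩ := v
    show (π a * (π a * π u * (π a)⁻¹ * (π u)⁻¹) * (π a)⁻¹) * (π a * π u * (π a)⁻¹ * (π u)⁻¹)⁻¹ = 1
    rw [← commutatorElement_def]
    show ⁅π a, ⁅π a, π u⁆⁆ = 1
    rw [← map_commutatorElement, ← map_commutatorElement]
    exact (QuotientGroup.eq_one_iff _).2 (hq u hu)))
  haveI := hNn
  haveI : (N.map π).Normal := Subgroup.Normal.map inferInstance π hπs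
  set F := Ū ⊓ Subgroup.centralizer ((N.map π : Subgroup (Γ ⧸ V)) : Set (Γ ⧸ V)) with hF
  have hF1 : F ≠ ⊥ := by
    haveI : Nontrivial Ū := (Subgroup.nontrivial_iff_ne_bot _).2 hŪ1
    have hpU : p ∣ Nat.card Ū := by
      obtain ⟨r, hr⟩ := IsPGroup.iff_card.1 hŪp
      rcases r with _ | r
      · rw [pow_zero] at hr; exact absurd ((Subgroup.card_eq_one).1 hr) hŪ1
      · rw [hr]; exact dvd_pow_self p (Nat.succ_ne_zero r)
    obtain ⟨w, hw, hne⟩ := hNp.exists_fixed_point_of_prime_dvd_card_of_fixed_point ↥Ū hpU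
      (a := 1) (fun u => map_one (u : MulAut Ū))
    refine fun e => hne (Subtype.ext ((Subgroup.mem_bot).1 (e ▸ ⟨w.2, ?_⟩))).symm
    refine Subgroup.mem_centralizer_iff.2 ?_
    rintro _ ⟨x, hx, rfl⟩
    have h5 : π x * (w : Γ ⧸ V) * (π x)⁻¹ = w := congrArg Subtype.val (hw ⟨θ x, x, hx, rfl⟩)
    exact mul_inv_eq_iff_eq_mul.1 h5
  have hFU := hmin F inferInstance inf_le_left hF1
  intro u hu
  have h5 := (hFU.symm.le ⟨u, hu, rfl⟩ : π u ∈ F).2
  have h6 := Subgroup.mem_centralizer_iff.1 h5 (π a) ⟨a, haN, rfl⟩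
  refine (QuotientGroup.eq_one_iff _).1 ?_
  show π ⁅a, u⁆ = 1
  rw [map_commutatorElement, commutatorElement_eq_one_iff_mul_comm]
  exact h6

/-- An element quadratic on every chief factor inside `Y` centralizes all of them. -/
theorem mem_trivSeries_of_quadratic (hp5 : 5 ≤ p) {G A : Subgroup Γ} [G.Normal]
    (hcop : (Nat.card A).Coprime (Nat.card G)) (hsolv : Group.IsSolvable A) {a : Γ} (ha : InAll p G A a)
    {Y : Subgroup Γ} (hY : IsPGroup p Y)
    (hq : ∀ U V : Subgroup Γ, Cfsg.IsChiefFactor U V → U ≤ Y → ∀ u ∈ U, ⁅a, ⁅a, u⁆⁆ ∈ V) :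
    a ∈ CfsgLib.CFun.trivSeries ⊥ Y :=
  fun U V h _ hUY => commutator_mem_of_quadratic hp5 hcop hsolv ha h (hY.to_le hUY) (hq U V h hUY)

end CfsgLib.EquivZJ
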