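import Cfsg.Agent.Lib.CFun.EquivZJ.Stable
import Cfsg.Agent.Lib.Coprime.Component

/-!
# A characteristic subgroup of the intersection of invariant Sylow subgroups, normal in the group
-/

set_option autoImplicit false
set_option linter.style.haveILetI false
set_option linter.unusedSectionVars false

open Subgroup
open scoped commutatorElement

namespace CfsgLib.EquivZJ

open CfsgLib.CFun (cen commute_of_mem_cen trivSeries)
open CfsgLib.Coprime (IsSylowIn)

universe u

section Functor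

variable {Γ : Type u} [Group Γ] [Finite Γ] {p : ℕ} [Fact p.Prime] {G A Q Y P S X K : Subgroup Γ}
variable (B : Base p G A Q Y)
include B

theorem kSup_le_Q (hS : ∀ s ∈ S, InAll p G A s) (hX : Y ≤ X) {T : Subgroup Γ} (hT : Eligible S X T) : T ≤ Q :=
  le_Q_of_stable B (fun t ht => hS t (hT.1 ht)) (hX.trans hT.2.1) hT.2.2.1 fun y hy => hT.2.2.2 y (hX hy)

theorem Y_eligible (hS : ∀ s ∈ S, InAll p G A s) (hYS : Y ≤ S) (hXS : X ≤ S) : Eligible S X Y := by
  haveI := B.normG
  haveI := B.normY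
  haveI := B.cen_normal
  refine ⟨hYS, by rw [normalizer_eq_top]; exact le_top, B.classTwo.trans inf_le_right, fun y hy h1 h2 t ht => ?_⟩
  have hyQ : y ∈ Q := by
    refine B.mem_Q (hS y (hXS hy)).1 (mem_trivSeries_of_quadratic B.five B.cop B.solv (hS y (hXS hy)) B.pY
      fun U V h hU u hu => ?_)
    haveI := h.2.1
    haveI := h.2.2.1
    rcases h.2.2.2 ((U ⊓ cen Y) ⊔ V) inferInstance le_sup_right (sup_le inf_le_left h.1.le) with e | e
    · have hc : ⁅⁅u, y⁆, y⁆ ∈ U ⊓ cen Y := by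
        have hm : ∀ w ∈ U, ⁅w, y⁆ ∈ U := fun w hw => by
          rw [commutatorElement_def, mul_assoc w, mul_assoc w]
          exact mul_mem hw (h.2.1.conj_mem _ (inv_mem hw) y)
        exact mem_inf.2 ⟨hm _ (hm u hu), h1 u (hU hu)⟩
      have hcV : ⁅⁅u, y⁆, y⁆ ∈ V := e.le (mem_sup_left hc)
      rw [show ⁅y, ⁅y, u⁆⁆ = ⁅u, y⁆⁻¹ * ⁅⁅u, y⁆, y⁆ * ⁅u, y⁆⁻¹⁻¹ by simp only [commutatorElement_def]; group]
      exact h.2.2.1.conj_mem _ hcV _
    · have hu' : u ∈ (U ⊓ cen Y) ⊔ V := e.symm.le hu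
      obtain ⟨z, hz, v, hv, rfl⟩ := mem_sup_of_normal_right.1 hu'
      have hz1 : ⁅y, ⁅y, z⁆⁆ = 1 := by
        rw [show ⁅y, ⁅y, z⁆⁆ = ⁅z, y⁆⁻¹ * ⁅⁅z, y⁆, y⁆ * ⁅z, y⁆⁻¹⁻¹ by simp only [commutatorElement_def]; group,
          h2 z hz.2, mul_one, mul_inv_cancel]
      refine (QuotientGroup.eq_one_iff _).1 (show QuotientGroup.mk' V ⁅y, ⁅y, z * v⁆⁆ = 1 from ?_)
      simp only [map_commutatorElement, map_mul, show QuotientGroup.mk' V v = 1 from (QuotientGroup.eq_one_iff v).2 hv,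
        mul_one]
      rw [← map_commutatorElement, ← map_commutatorElement, hz1, map_one]
  rw [← commutatorElement_inv]
  exact inv_mem (B.commY (commutator_mem_commutator hyQ ht))

theorem oSup_le_Q (hS : ∀ s ∈ S, InAll p G A s) (hK : Y ≤ K) : oSup S K ≤ Q := by
  haveI := B.normG
  refine iSup₂_le fun A' hA' a ha => B.mem_Q (hS a (hA'.1 ha)).1
    (mem_trivSeries_of_quadratic B.five B.cop B.solv (hS a (hA'.1 ha)) B.pY fun U V h hU u hu => ?_)
  have h1 : ⁅a, u⁆ ∈ A' := by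
    rw [commutatorElement_def, mul_assoc a u, mul_assoc]
    exact mul_mem ha ((mem_normalizer_iff.1 (hA'.2.2 (hK (hU hu))) _).1 (inv_mem ha))
  rw [show ⁅a, ⁅a, u⁆⁆ = 1 from commutatorElement_eq_one_iff_mul_comm.2 (mem_centralizer_iff.1 (hA'.2.1 h1) a ha)]
  exact one_mem V

theorem Y_le_oSup (hYS : Y ≤ S) (hKQ : K ≤ Q) : Y ≤ oSup S K := by
  intro y hy
  haveI := B.cen_normal
  set D := cen Y ⊔ zpowers y with hD
  have hDY : D ≤ Y := sup_le inf_le_left (zpowers_le.2 hy)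
  have hab : D ≤ centralizer (D : Set Γ) := by
    rw [hD]
    refine sup_le ?_ ?_
    · exact inf_le_right.trans (centralizer_le hDY)
    · rw [zpowers_le, mem_centralizer_iff]
      intro d hd
      have hle : cen Y ⊔ zpowers y ≤ centralizer {y} := sup_le
        (fun z hz => mem_centralizer_singleton_iff.2 (commute_of_mem_cen hz hy).eq)
        (zpowers_le.2 (mem_centralizer_singleton_iff.2 rfl))
      exact mem_centralizer_singleton_iff.1 (hle hd)
  refine (le_iSup₂_of_le D ⟨hDY.trans hYS, hab, ?_⟩ le_rfl : D ≤ oSup S K) (mem_sup_right (mem_zpowers y))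
  refine le_normalizer_of_conj_mem fun g hg z hz => ?_
  rw [hD] at hz ⊢
  have hle : cen Y ⊔ zpowers y ≤ (cen Y ⊔ zpowers y).comap (MulAut.conj g).toMonoidHom := by
    refine sup_le (fun w hw => mem_sup_left (B.cen_normal.conj_mem w hw g)) (zpowers_le.2 ?_)
    show g * y * g⁻¹ ∈ cen Y ⊔ zpowers y
    rw [show g * y * g⁻¹ = ⁅g, y⁆ * y by rw [commutatorElement_def]; group]
    exact mul_mem (mem_sup_left (B.commY (commutator_mem_commutator (hKQ hg) hy)))
      (mem_sup_right (mem_zpowers y))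
  exact hle hz

theorem kSeq_bounds (hS : ∀ s ∈ S, InAll p G A s) (hQS : Q ≤ S) : ∀ n, Y ≤ kSeq S n ∧ kSeq S n ≤ Q := by
  have hYS := B.leQ.trans hQS
  intro n
  induction n with
  | zero => exact ⟨le_kSup (Y_eligible B hS hYS le_rfl), iSup₂_le fun T hT => kSup_le_Q B hS hYS hT⟩
  | succ n ih =>
    exact ⟨le_kSup (Y_eligible B hS hYS oSup_le),
      iSup₂_le fun T hT => kSup_le_Q B hS (Y_le_oSup B hYS ih.2) hT⟩

/-- Some term of the sequence of `P` is the same as that of the core, hence normal. -/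
theorem exists_kSeq_normal (hP : ∀ s ∈ P, InAll p G A s) (hQP : Q ≤ P) :
    ∃ n, Y ≤ kSeq P n ∧ (kSeq P n).Normal := by
  have hQ : ∀ s ∈ Q, InAll p G A s := fun s hs => hP s (hQP hs)
  have hYP := B.leQ.trans hQP
  have bP := kSeq_bounds B hP hQP
  have bQ := kSeq_bounds B hQ le_rfl
  have hb : ∀ i, kSeq P i ≤ kSeq Q i ∧ kSeq Q i ≤ kSeq P (i + 1) := by
    intro i
    induction i with
    | zero =>
      exact ⟨kSup_mono (fun T hT => kSup_le_Q B hP hYP hT) hQP,
        kSup_mono (fun T hT => hT.1.trans hQP) (oSup_le_Q B hP (bP 0).1)⟩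
    | succ i ih =>
      have h1 : oSup Q (kSeq Q i) ≤ oSup P (kSeq P i) := oSup_mono (fun A' h _ _ => h.trans hQP) ih.1
      have h2 : oSup P (kSeq P (i + 1)) ≤ oSup Q (kSeq Q i) :=
        oSup_mono (fun A' h h' h'' => (le_iSup₂_of_le A' ⟨h, h', h''⟩ le_rfl : A' ≤ oSup P _).trans
          (oSup_le_Q B hP (bP (i + 1)).1)) ih.2
      exact ⟨kSup_mono (fun T hT => kSup_le_Q B hP (Y_le_oSup B hYP (bP i).2) hT) h1,
        kSup_mono (fun T hT => hT.1.trans hQP) h2⟩
  have hmono : Monotone (kSeq P) := monotone_nat_of_le_succ fun i => (hb i).1.trans (hb i).2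
  obtain ⟨_, ⟨n, rfl⟩, hmax⟩ := (Set.toFinite (Set.range (kSeq P))).exists_maximal ⟨_, 0, rfl⟩
  have e : kSeq P (n + 1) = kSeq P n := le_antisymm (hmax ⟨n + 1, rfl⟩ (hmono (Nat.le_succ n))) (hmono (Nat.le_succ n))
  have e' : kSeq P n = kSeq Q n := le_antisymm (hb n).1 ((hb n).2.trans e.le)
  refine ⟨n, (bP n).1, ?_⟩
  rw [e']
  refine ⟨fun x hx g => ?_⟩
  haveI := B.normQ
  have h := kSeq_map (f := (MulAut.conj g).toMonoidHom) (MulAut.conj g).injective Q n
  rw [show Q.map (MulAut.conj g).toMonoidHom = Q from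
    mem_normalizer_iff_map_conj_eq.1 (by rw [normalizer_eq_top]; exact mem_top g)] at h
  rw [← h]
  exact ⟨x, hx, rfl⟩

end Functor

theorem exists_characteristic {X : Type u} [Group X] [Finite X] (G R : Subgroup X) (r : ℕ) [Fact r.Prime]
    (hR : IsPGroup r ↥R) (hcop : (Nat.card ↥G).Coprime r) (hnorm : R ≤ Subgroup.normalizer (G : Set X))
    (hG : G ≠ ⊥) (p : ℕ) [Fact p.Prime] (hp : 3 < p)
    (hF : Cfsg.generalizedFittingSubgroup ↥G = Cfsg.pCore p ↥G) (P : Subgroup X)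
    (hP : P = ⨅ S : {S : Sylow p ↥G // ∀ a ∈ R, ((S : Subgroup ↥G).map G.subtype).map (MulAut.conj a).toMonoidHom =
      (S : Subgroup ↥G).map G.subtype}, ((S : Sylow p ↥G) : Subgroup ↥G).map G.subtype) :
    ∃ C : Subgroup ↥P, C.Characteristic ∧ C ≠ ⊥ ∧
      G ≤ Subgroup.normalizer ((C.map P.subtype : Subgroup X) : Set X) := by
  classical
  have hp5 : 5 ≤ p := by
    have := (Fact.out : p.Prime)
    by_contra h
    have h4 : p = 4 := by omega
    rw [h4] at this
    norm_num at this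
  have hcopR : (Nat.card R).Coprime (Nat.card G) := by
    obtain ⟨j, hj⟩ := IsPGroup.iff_card.1 hR
    rw [hj]; exact hcop.symm.pow_left j
  have hsolvR : Group.IsSolvable R := CfsgLib.Coprime.isSolvable_of_isNilpotent hR.isNilpotent
  have hkey : ∀ S : Subgroup X, IsSylowIn p S G → R ≤ normalizer (S : Set X) → P ≤ S := by
    intro S hS hSR
    rw [hP]
    refine (iInf_le _ ⟨hS.toSylow, fun a ha => ?_⟩).trans (le_of_eq hS.map_toSylow)
    rw [hS.map_toSylow]
    exact mem_normalizer_iff_map_conj_eq.1 (hSR ha)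
  obtain ⟨S0, hS0, hS0R⟩ := CfsgLib.Coprime.exists_invariant_sylow hnorm hcopR (Or.inl hsolvR) p
  have hPG : P ≤ G := (hkey S0 hS0 hS0R).trans hS0.1
  -- the ambient group
  set Γ := G ⊔ R with hΓ
  set G' := G.subgroupOf Γ with hG'
  set A := R.subgroupOf Γ with hA
  haveI hG'n : G'.Normal := (normal_subgroupOf_iff_le_normalizer le_sup_left).2 (sup_le le_normalizer hnorm)
  set eG : ↥G' ≃* ↥G := subgroupOfEquivOfLe le_sup_left
  have hcardA : Nat.card A = Nat.card R := Nat.card_congr (subgroupOfEquivOfLe le_sup_right).toEquiv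
  haveI := hsolvR
  have hsolvA : Group.IsSolvable A := Group.isSolvable_of_surjective
    (f := (subgroupOfEquivOfLe (le_sup_right : R ≤ Γ)).symm.toMonoidHom)
    (subgroupOfEquivOfLe (le_sup_right : R ≤ Γ)).symm.surjective
  haveI := CfsgLib.Coprime.pCore_normal' (G := ↥Γ) p
  set Q := Cfsg.pCore p ↥Γ ⊓ G' with hQ
  haveI hQn : Q.Normal := normal_inf_normal _ _
  have hQp : IsPGroup p Q := (CfsgLib.Coprime.pCore_isPGroup p).to_le inf_le_left
  have hself : G' ⊓ centralizer (Q : Set ↥Γ) ≤ Q := by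
    intro x hx
    have hF' : Cfsg.generalizedFittingSubgroup ↥G' = Cfsg.pCore p ↥G' := by
      apply Subgroup.map_injective (f := eG.toMonoidHom) eG.injective
      rw [CfsgLib.Coprime.map_generalizedFitting_equiv, CfsgLib.Coprime.map_pCore_equiv, hF]
    have h1 : (⟨x, hx.1⟩ : ↥G') ∈ centralizer (Cfsg.generalizedFittingSubgroup ↥G' : Set ↥G') := by
      rw [hF', mem_centralizer_iff]
      intro z hz
      refine Subtype.ext (mem_centralizer_iff.1 hx.2 _ ?_)
      rw [SetLike.mem_coe, hQ, ← CfsgLib.Coprime.pCore_map_subtype_eq p G']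
      exact ⟨z, hz, rfl⟩
    have h2 := CfsgLib.Coprime.centralizer_generalizedFitting_le h1
    rw [hF'] at h2
    rw [hQ, ← CfsgLib.Coprime.pCore_map_subtype_eq p G']
    exact ⟨_, h2, rfl⟩
  obtain ⟨Y, hYQ, hYn, -, hYpow, hYcls, hYcomm, hYcent, hYauto⟩ := CfsgLib.CFun.exists_critical_in hQp
  have B : Base p G' A Q Y := ⟨hp5, hG'n, by
      rw [hcardA, Nat.card_congr eG.toEquiv]; exact hcopR, hsolvA, hQp, hQn, inf_le_right,
    fun N hN hNG hNp => le_inf (haveI := hN; CfsgLib.Coprime.le_pCore hNp) hNG, hself, hYQ, hYn, hYpow,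
    CfsgLib.CFun.commutator_le_cen_of_classTwo hYcls, hYcomm, hYauto⟩
  set P' := P.subgroupOf Γ with hP'
  have hmapG : G'.map Γ.subtype = G := map_subgroupOf_eq_of_le le_sup_left
  have hPall : ∀ a ∈ P', InAll p G' A a := by
    intro a ha
    refine ⟨hPG ha, fun S hS hSA => ?_⟩
    have hS' : IsSylowIn p (S.map Γ.subtype) G := by
      refine ⟨hmapG ▸ map_mono hS.1, ?_⟩
      rw [card_map_of_injective Γ.subtype_injective, hS.2, Nat.card_congr eG.toEquiv]
    have hinv : R ≤ normalizer ((S.map Γ.subtype : Subgroup X) : Set X) := fun x hx =>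
      le_normalizer_map Γ.subtype ⟨⟨x, mem_sup_right hx⟩, hSA hx, rfl⟩
    obtain ⟨y, hy, e⟩ := hkey _ hS' hinv ha
    rwa [show y = a from Subtype.ext e] at hy
  have hQP : Q ≤ P' := by
    have hle : Q.map Γ.subtype ≤ P := by
      rw [hP]
      refine le_iInf fun S => ?_
      refine normal_le_sylowIn (CfsgLib.Coprime.isSylowIn_map (S : Sylow p ↥G))
        (hmapG ▸ map_mono inf_le_right) (hQp.map _) fun g hg => ?_
      exact le_normalizer_map Γ.subtype ⟨⟨g, mem_sup_left hg⟩, by rw [normalizer_eq_top]; exact mem_top _, rfl⟩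
    exact fun x hx => hle ⟨x, hx, rfl⟩
  obtain ⟨n, hYn', hnormal⟩ := exists_kSeq_normal B hPall hQP
  have hmapC : (kSeq (⊤ : Subgroup ↥P) n).map P.subtype = (kSeq P' n).map Γ.subtype := by
    rw [kSeq_map P.subtype_injective, kSeq_map Γ.subtype_injective, ← MonoidHom.range_eq_map, range_subtype,
      hP', map_subgroupOf_eq_of_le (hPG.trans le_sup_left)]
  refine ⟨kSeq (⊤ : Subgroup ↥P) n, kSeq_top_characteristic n, fun e => ?_, fun g hg => ?_⟩
  · rw [e, Subgroup.map_bot, eq_comm, map_eq_bot_iff_of_injective _ Γ.subtype_injective] at hmapC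
    have hY0 : Y = ⊥ := le_bot_iff.1 (hmapC ▸ hYn')
    have hQ0 : Q = ⊥ := by
      refine le_bot_iff.1 (fun x hx => ?_)
      have hx' : x ∈ Q ⊓ centralizer (Y : Set ↥Γ) := ⟨hx, mem_centralizer_iff.2 fun z hz => by
        rw [mem_bot.1 (hY0.le hz), one_mul, mul_one]⟩
      rw [hYcent] at hx'
      exact hY0.le hx'.1
    refine hG (le_bot_iff.1 fun x hx => ?_)
    have h5 : (⟨x, mem_sup_left hx⟩ : ↥Γ) ∈ Q := hself ⟨hx, mem_centralizer_iff.2 fun z hz => by
      rw [mem_bot.1 (hQ0.le hz), one_mul, mul_one]⟩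
    exact mem_bot.2 (congrArg Subtype.val (mem_bot.1 (hQ0.le h5)))
  · rw [hmapC]
    exact le_normalizer_map Γ.subtype ⟨⟨g, mem_sup_left hg⟩, by
      haveI := hnormal
      rw [normalizer_eq_top]; exact mem_top _, rfl⟩

end CfsgLib.EquivZJ
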