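import Cfsg.Agent.Lib.CFun.EquivZJ.Basic

/-!
# Operators prime to `p` fix an opposite; opposites form one orbit of the flag group
-/

set_option autoImplicit false
set_option linter.style.haveILetI false
set_option linter.unusedSectionVars false

namespace CfsgLib.EquivZJ

open Cfsg CfsgLib.QuadPair CfsgLib.CoprimeQuad
open scoped MatrixGroups

variable {k : Type*} [Field k] {M : Type*} [AddCommGroup M] [Module k M] [FiniteDimensional k M] [Finite k]
variable {H : Subgroup (LinearMap.GeneralLinearGroup k M)} {p : ℕ} {q v : LinearMap.GeneralLinearGroup k M}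

theorem HasChar.conjEnd_eq {g : LinearMap.GeneralLinearGroup k M} {c : k} (hc : c ≠ 0) (hg : HasChar q g c) :
    conjEnd g (alpha q) = (c * c) • alpha q := by
  have h1 : alpha q * (g : M →ₗ[k] M) = c⁻¹ • alpha q := LinearMap.ext fun m => by
    have := LinearMap.mem_ker.1 (hg.2.2 m)
    rw [map_sub, map_smul, sub_eq_zero] at this
    exact this
  have h2 : alpha q * ((g⁻¹ : LinearMap.GeneralLinearGroup k M) : M →ₗ[k] M) = c • alpha q := by
    have h3 := congrArg (fun x => c • (x * ((g⁻¹ : LinearMap.GeneralLinearGroup k M) : M →ₗ[k] M))) h1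
    simp only [mul_assoc, Units.mul_inv, mul_one, smul_mul_assoc, smul_smul, mul_inv_cancel₀ hc, one_smul] at h3
    exact h3.symm
  have h4 : (g : M →ₗ[k] M) * alpha q = c • alpha q := LinearMap.ext fun m => by
    rw [Module.End.mul_apply, hg.1 _ ⟨m, rfl⟩, LinearMap.smul_apply]
  rw [conjEnd, mul_assoc, h2, mul_smul_comm, h4, smul_smul]

theorem HasChar.flagStable {g : LinearMap.GeneralLinearGroup k M} {c : k} (hc : c ≠ 0) (hg : HasChar q g c) :
    FlagStable q g :=
  flagStable_of_scalar (mul_ne_zero hc hc) (HasChar.conjEnd_eq hc hg)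

theorem torus_conj (hq : alpha q * alpha q = 0) (h : Opp H q v) (c : k) (hc : c ≠ 0)
    {u : LinearMap.GeneralLinearGroup k M} (hu : u * q * u⁻¹ = q) (h' : Opp H q (u * v * u⁻¹)) :
    u * torus hq h c hc * u⁻¹ = torus hq h' c hc := by
  refine Units.ext ?_
  rw [Units.val_mul, Units.val_mul, torus_val, torus_val, alpha_conjEnd]
  have e : conjEnd u (CfsgLib.QuadPair.alpha q) = CfsgLib.QuadPair.alpha q := by rw [← alpha_conjEnd, hu]
  conv_rhs => rw [← e, ← conjEnd_mul_end, ← conjEnd_mul_end]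
  simp only [conjEnd, mul_add, add_mul, mul_smul_comm, smul_mul_assoc, mul_one, Units.mul_inv]

/-- A coprime solvable group of operators stabilizing the flag fixes the idempotents of some opposite. -/
theorem exists_fixed_opp (C : Ctx p H) (hqH : q ∈ H) (hq : alpha q * alpha q = 0) (hq0 : alpha q ≠ 0)
    (h : Opp H q v) {A : Subgroup (LinearMap.GeneralLinearGroup k M)}
    (hA : A ≤ Subgroup.normalizer (H : Set (LinearMap.GeneralLinearGroup k M)))
    (hcop : (Nat.card A).Coprime p) (hsolv : Group.IsSolvable A) (hflag : ∀ a ∈ A, FlagStable q a) :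
    ∃ u ∈ flagGroup H q, Opp H q (u * v * u⁻¹) ∧
      ∀ a ∈ A, conjEnd a (alpha q * alpha (u * v * u⁻¹)) = alpha q * alpha (u * v * u⁻¹) ∧
        conjEnd a (alpha (u * v * u⁻¹) * alpha q) = alpha (u * v * u⁻¹) * alpha q := by
  classical
  haveI := finite_gl (k := k) (M := M)
  haveI : Fact p.Prime := ⟨C.setting.prime⟩
  haveI := C.setting.char
  set P := flagGroup H q with hPdef
  have hPG : IsPGroup p P := flagGroup_isPGroup C.setting hq
  have hPp : ∀ g ∈ P, g ^ p = 1 := fun g hg => pow_char_eq_one_of_cube (by have := C.setting.five_le; omega)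
    ((mem_flagGroup hq).1 hg).2.cube
  have hAP := le_normalizer_flagGroup hA hflag
  have hcopP : (Nat.card A).Coprime (Nat.card P) := by
    obtain ⟨r, hr⟩ := IsPGroup.iff_card.1 hPG
    rw [hr]; exact hcop.pow_right r
  obtain ⟨c, hc, hc2, -, hcp⟩ := exists_torus_scalar C.setting
  have hcpow : c ^ p = c := by
    conv_lhs => rw [← Nat.sub_add_cancel C.setting.prime.pos, pow_succ, hcp, one_mul]
  set t := torus hq h c hc with htdef
  have htH : t ∈ H := C.torus_mem hqH hq h c hc
  have htc : HasChar q t c := torus_hasChar hq h c hc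
  have hti : HasChar q t⁻¹ c⁻¹ := by rw [htdef, torus_inv]; exact torus_hasChar hq h _ _
  have hPchar : ∀ {x}, x ∈ P → HasChar q x 1 := fun hx => ((mem_flagGroup hq).1 hx).2
  have hPmem : ∀ {g}, g ∈ H → ∀ {s : k}, HasChar q g s → s = 1 → g ∈ P :=
    fun hg _ hs e => (mem_flagGroup hq).2 ⟨hg, e ▸ hs⟩
  have htnorm : t ∈ Subgroup.normalizer (P : Set (LinearMap.GeneralLinearGroup k M)) := by
    refine le_normalizer_flagGroup (A := Subgroup.zpowers t) ?_ ?_ (Subgroup.mem_zpowers t)
    · exact (Subgroup.zpowers_le.2 htH).trans Subgroup.le_normalizer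
    · intro a ha
      obtain ⟨n, rfl⟩ := (mem_powers_iff_mem_zpowers).2 ha
      exact HasChar.flagStable (pow_ne_zero n hc) (htc.pow hq n)
  obtain ⟨n, hn, hnfix⟩ := CfsgLib.Coprime.exists_fixed_in_coset hAP hcopP (Or.inl hsolv) htnorm
    (fun a ha => hPmem (mul_mem ((Subgroup.mem_normalizer_iff.1 (hA ha) t).1 htH) (inv_mem htH))
      ((HasChar.conj_stable htc (hflag a ha)).mul hq hti) (mul_inv_cancel₀ hc))
  set g := (t * n) ^ p with hgdef
  have hnH : n ∈ H := flagGroup_le hn
  have hgH : g ∈ H := pow_mem (mul_mem htH hnH) p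
  have hgc : HasChar q g c := by
    have := (htc.mul hq (hPchar hn)).pow hq p
    rwa [mul_one, hcpow] at this
  have hgord : g ^ (p - 1) = 1 := by
    have h5 : (t * n) ^ (p - 1) ∈ P := hPmem (pow_mem (mul_mem htH hnH) _)
      ((htc.mul hq (hPchar hn)).pow hq (p - 1)) (by rw [mul_one, hcp])
    rw [hgdef, ← pow_mul, mul_comm, pow_mul]
    exact hPp _ h5
  have hone : ∀ j : ℕ, c ^ j = 1 → t ^ j = 1 := fun j hj => torus_pow_eq_one hq h hc hj
  have hordeq : orderOf g = orderOf t := by
    rw [orderOf_eq_orderOf_iff]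
    intro j
    constructor
    · intro hj
      refine hone j ((hgc.pow hq j).unique hq0 ?_)
      rw [hj]; exact HasChar.one
    · intro hj
      have hcj : c ^ j = 1 := (htc.pow hq j).unique hq0 (by rw [hj]; exact HasChar.one)
      have h5 : g ^ j ∈ P := hPmem (pow_mem hgH j) (hgc.pow hq j) hcj
      refine orderOf_eq_one_iff.1 (Nat.eq_one_of_dvd_coprimes ?_ (orderOf_dvd_of_pow_eq_one (hPp _ h5))
        (orderOf_dvd_of_pow_eq_one (n := p - 1) ?_))
      · exact (Nat.coprime_self_sub_right C.setting.prime.pos).2 (Nat.coprime_one_right p)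
      · rw [← pow_mul, mul_comm, pow_mul, hgord, one_pow]
  have hgle : Subgroup.zpowers g ≤ Subgroup.zpowers t ⊔ P := by
    rw [Subgroup.zpowers_le]
    have h5 : t⁻¹ * g ∈ P := hPmem (mul_mem (inv_mem htH) hgH) (hti.mul hq hgc) (inv_mul_cancel₀ hc)
    have h6 := Subgroup.mul_mem_sup (Subgroup.mem_zpowers t) h5
    rwa [mul_inv_cancel_left] at h6
  have htcop : (Nat.card P).Coprime (Nat.card (Subgroup.zpowers t)) := by
    obtain ⟨r, hr⟩ := IsPGroup.iff_card.1 hPG
    rw [hr, Nat.card_zpowers]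
    refine Nat.Coprime.coprime_dvd_right (orderOf_dvd_of_pow_eq_one (hone _ hcp)) (Nat.Coprime.pow_left r ?_)
    exact (Nat.coprime_self_sub_right C.setting.prime.pos).2 (Nat.coprime_one_right p)
  obtain ⟨x, hx, hxg⟩ := CfsgLib.Coprime.sz_conj_in (Subgroup.zpowers_le.2 htnorm) htcop hgle
    (by rw [Nat.card_zpowers, Nat.card_zpowers, hordeq])
    (Or.inl (CfsgLib.Coprime.isSolvable_of_isMulCommutative inferInstance))
  have hxg' : x * g * x⁻¹ ∈ Subgroup.zpowers t :=
    hxg ▸ CfsgLib.Coprime.conj_mem_conjBy (Subgroup.mem_zpowers g)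
  obtain ⟨j, hj⟩ : ∃ j : ℕ, t ^ j = x * g * x⁻¹ := (mem_powers_iff_mem_zpowers).2 hxg'
  have hxc : HasChar q (x * g * x⁻¹) c := by
    simpa using ((hPchar hx).mul hq hgc).mul hq (hPchar (inv_mem hx))
  have hjc : c ^ j = c := (htc.pow hq j).unique hq0 (by rw [hj]; exact hxc)
  have htj : t ^ j = t := by rw [htdef, torus_pow]; exact torus_congr hq h _ _ hjc
  rw [htj] at hj
  set u := x⁻¹ with hudef
  have hu : u ∈ P := inv_mem hx
  have huq : u * q * u⁻¹ = q := by
    rw [comm_of_conjEnd (conjEnd_flag (hPchar hu)), mul_inv_cancel_right]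
  have hopp : Opp H q (u * v * u⁻¹) := by
    have := h.conj (Subgroup.le_normalizer (flagGroup_le hu))
    rwa [huq] at this
  have hgt : g = torus hq hopp c hc := by
    rw [← torus_conj hq h c hc huq hopp, ← htdef, hj, hudef]; group
  refine ⟨u, hu, hopp, fun a ha => ?_⟩
  have hga : a * g = g * a := Subgroup.mem_centralizer_iff.1 (pow_mem hnfix p) a ha
  rw [hgt] at hga
  have hga' := congrArg Units.val hga
  rw [Units.val_mul, Units.val_mul] at hga'
  obtain ⟨h1, h2⟩ := comm_idem_of_comm_torus hq hopp hc hc2 hga'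
  exact ⟨conjEnd_eq_iff.2 h1, conjEnd_eq_iff.2 h2⟩

/-- An operator scaling `q` and fixing the idempotents scales the opposite inversely. -/
theorem conjEnd_opp (h : Opp H q v) {a : LinearMap.GeneralLinearGroup k M} {s : k} (hs : s ≠ 0)
    (ha : conjEnd a (alpha q) = s • alpha q)
    (he : conjEnd a (alpha q * alpha v) = alpha q * alpha v)
    (hf : conjEnd a (alpha v * alpha q) = alpha v * alpha q) : conjEnd a (alpha v) = s⁻¹ • alpha v := by
  set x := conjEnd a (alpha v)
  have e1 : s • (alpha q * x) = alpha q * alpha v := by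
    conv_rhs => rw [← he, conjEnd_mul_end, ha, smul_mul_assoc]
  have e2 : s • (x * alpha q) = alpha v * alpha q := by
    conv_rhs => rw [← hf, conjEnd_mul_end, ha, mul_smul_comm]
  have e3 : x * alpha q * x * (1 : M →ₗ[k] M) = s⁻¹ • x := by
    have := congrArg (conjEnd a) h.right
    rw [conjEnd_mul_end, conjEnd_mul_end, ha] at this
    rw [mul_smul_comm, smul_mul_assoc] at this
    rw [mul_one]
    calc x * CfsgLib.QuadPair.alpha q * x = s⁻¹ • (s • (x * CfsgLib.QuadPair.alpha q * x)) := by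
          rw [smul_smul, inv_mul_cancel₀ hs, one_smul]
      _ = s⁻¹ • x := congrArg _ this
  rw [mul_one] at e3
  calc x = s • (x * alpha q * x) := by rw [e3, smul_smul, mul_inv_cancel₀ hs, one_smul]
    _ = alpha v * (alpha q * x) := by rw [← smul_mul_assoc, e2, mul_assoc]
    _ = s⁻¹ • (alpha v * (s • (alpha q * x))) := by rw [mul_smul_comm, smul_smul, inv_mul_cancel₀ hs, one_smul]
    _ = _ := by rw [e1, ← mul_assoc, h.right]

/-- **The opposites of `q` form one orbit of the flag group.** -/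
theorem exists_conj_opp (C : Ctx p H) (hqH : q ∈ H) (hq : alpha q * alpha q = 0) (hq0 : alpha q ≠ 0)
    (h : Opp H q v) {v1 : LinearMap.GeneralLinearGroup k M} (h1 : Opp H q v1) :
    ∃ u ∈ flagGroup H q, v1 = u * v * u⁻¹ := by
  haveI := finite_gl (k := k) (M := M)
  haveI : Fact p.Prime := ⟨C.setting.prime⟩
  obtain ⟨c, hc, hc2, -, hcp⟩ := exists_torus_scalar C.setting
  set t := torus hq h1 c hc with htdef
  have hcop : (Nat.card (Subgroup.zpowers t)).Coprime p := by
    rw [Nat.card_zpowers]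
    refine Nat.Coprime.coprime_dvd_left (orderOf_dvd_of_pow_eq_one (torus_pow_eq_one hq h1 hc hcp)) ?_
    exact ((Nat.coprime_self_sub_right C.setting.prime.pos).2 (Nat.coprime_one_right p)).symm
  obtain ⟨u, hu, hopp, hfix⟩ := exists_fixed_opp C hqH hq hq0 h
    (A := Subgroup.zpowers t) ((Subgroup.zpowers_le.2 (C.torus_mem hqH hq h1 c hc)).trans Subgroup.le_normalizer)
    hcop (CfsgLib.Coprime.isSolvable_of_isMulCommutative inferInstance) fun a ha => by
      obtain ⟨n, rfl⟩ := (mem_powers_iff_mem_zpowers).2 ha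
      exact HasChar.flagStable (pow_ne_zero n hc) ((torus_hasChar hq h1 c hc).pow hq n)
  obtain ⟨he, hf⟩ := hfix t (Subgroup.mem_zpowers t)
  set v' := u * v * u⁻¹
  refine ⟨u, hu, opp_eq_of_idem h1 hopp ?_ ?_⟩
  · have hc' := (comm_idem_of_comm_torus hq h1 hc hc2 (conjEnd_eq_iff.1 he).symm).1
    calc alpha q * alpha v1 = alpha q * alpha v' * alpha q * alpha v1 := by rw [hopp.left]
      _ = alpha q * alpha v1 * (alpha q * alpha v') := by rw [← hc', mul_assoc]
      _ = _ := by rw [← mul_assoc, h1.left]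
  · have hc' := (comm_idem_of_comm_torus hq h1 hc hc2 (conjEnd_eq_iff.1 hf).symm).2
    calc alpha v1 * alpha q = alpha v1 * (alpha q * alpha v' * alpha q) := by rw [hopp.left]
      _ = alpha v1 * alpha q * (alpha v' * alpha q) := by simp only [mul_assoc]
      _ = alpha v' * alpha q * (alpha v1 * alpha q) := hc'.symm
      _ = alpha v' * (alpha q * alpha v1 * alpha q) := by simp only [mul_assoc]
      _ = _ := by rw [h1.left]

end CfsgLib.EquivZJ
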