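import Cfsg.Agent.Lib.CFun.EquivZJ.Generation
import Cfsg.Agent.Lib.CFun.Tools

/-!
# A Sylow subgroup of a component normalizes exactly one root subgroup
-/

set_option autoImplicit false
set_option linter.style.haveILetI false
set_option linter.unusedSectionVars false

namespace CfsgLib.EquivZJ

open Cfsg CfsgLib.QuadPair CfsgLib.CoprimeQuad
open scoped MatrixGroups

variable {k : Type*} [Field k] {M : Type*} [AddCommGroup M] [Module k M] [FiniteDimensional k M] [Finite k]
variable {N : Subgroup (LinearMap.GeneralLinearGroup k M)} {p : ℕ}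
variable {σ τ v : LinearMap.GeneralLinearGroup k M}

/-- The bracket computation: an element and its opposite of opposite weights. -/
theorem bracket_eq_zero_of_weights {z s a : M →ₗ[k] M} (h6 : (6 : k) ≠ 0) (hz1 : z * s * z = z)
    (hz2 : s * z * s = s) (hs : s * s = 0) (hza : z * a = a * z)
    (hzy : z * (s * a - a * s) = (s * a - a * s) * z) : s * a - a * s = 0 := by
  set y := s * a - a * s with hy
  set h := z * s - s * z with hh
  set y2 := s * y - y * s with hy2
  have ha : h * a - a * h = 0 := by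
    have e : h * a - a * h = z * y - y * z - (s * (z * a - a * z) - (z * a - a * z) * s) := by
      simp only [hh, hy]; noncomm_ring
    rw [e, hza, hzy]; simp
  have hhs : h * s - s * h = -((2 : k) • s) := by
    have e : h * s - s * h = z * (s * s) + s * s * z - (2 : k) • (s * z * s) := by
      rw [two_smul]; simp only [hh]; noncomm_ring
    rw [e, hs, hz2]; simp
  have hhy : h * y - y * h = -((2 : k) • y) := by
    have e : h * y - y * h =
        (h * s - s * h) * a - a * (h * s - s * h) + s * (h * a - a * h) - (h * a - a * h) * s := by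
      simp only [hy]; noncomm_ring
    rw [e, hhs, ha, hy]
    simp only [neg_mul, mul_neg, smul_mul_assoc, mul_smul_comm, mul_zero, zero_mul]
    module
  have hzy2 : z * y2 - y2 * z = -((2 : k) • y) := by
    have e : z * y2 - y2 * z = h * y - y * h + s * (z * y - y * z) - (z * y - y * z) * s := by
      simp only [hy2, hh]; noncomm_ring
    rw [e, hhy, hzy]; simp
  have hhy2 : h * y2 - y2 * h = -((4 : k) • y2) := by
    have e : h * y2 - y2 * h =
        (h * s - s * h) * y + s * (h * y - y * h) - (h * y - y * h) * s - y * (h * s - s * h) := by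
      simp only [hy2]; noncomm_ring
    rw [e, hhs, hhy, hy2]
    simp only [neg_mul, mul_neg, smul_mul_assoc, mul_smul_comm]
    module
  have hsy2 : s * y2 - y2 * s = 0 := by
    have e : s * y2 - y2 * s = s * s * y + y * (s * s) - (2 : k) • (s * y * s) := by
      rw [two_smul]; simp only [hy2]; noncomm_ring
    have e' : s * y * s = s * s * a * s - s * a * (s * s) := by simp only [hy]; noncomm_ring
    rw [e, e', hs]; simp
  have hfin : (6 : k) • y2 = 0 := by
    have e : (h * y2 - y2 * h) + (s * (z * y2 - y2 * z) - (z * y2 - y2 * z) * s) =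
        z * (s * y2 - y2 * s) - (s * y2 - y2 * s) * z := by
      simp only [hh]; noncomm_ring
    rw [hhy2, hzy2, hsy2, mul_zero, zero_mul, sub_zero] at e
    simp only [mul_neg, neg_mul, mul_smul_comm, smul_mul_assoc] at e
    rw [hy2] at e ⊢
    linear_combination (norm := module) -e
  have h0 : y2 = 0 := (smul_eq_zero.1 hfin).resolve_left h6
  rw [h0, mul_zero, zero_mul, sub_zero, eq_comm, neg_eq_zero] at hzy2
  refine (smul_eq_zero.1 hzy2).resolve_left fun e2 => h6 ?_
  linear_combination (3 : k) * e2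

theorem Setting.six_ne (S : Setting p k) : (6 : k) ≠ 0 := fun h => by
  haveI := S.char
  have h' : ((6 : ℕ) : k) = 0 := by exact_mod_cast h
  have h1 := (CharP.cast_eq_zero_iff k p 6).1 h'
  have h5 := S.five_le
  have := Nat.le_of_dvd (by norm_num) h1
  interval_cases p
  · norm_num at h1
  · exact absurd S.prime (by norm_num)

/-- The torus scales along the grading. -/
theorem conjEnd_torus {q : LinearMap.GeneralLinearGroup k M} (hq : alpha q * alpha q = 0) (h : Opp N q v) (c : k)
    (hc : c ≠ 0) (x : M →ₗ[k] M) :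
    conjEnd (torus hq h c hc) x =
      (c • (alpha q * alpha v) + c⁻¹ • (alpha v * alpha q) + (1 - alpha q * alpha v - alpha v * alpha q)) * x *
      (c⁻¹ • (alpha q * alpha v) + c • (alpha v * alpha q) + (1 - alpha q * alpha v - alpha v * alpha q)) := by
  rw [conjEnd, torus_inv, torus_val, torus_val, inv_inv]
  congr 1
  · congr 1
    module
  · module

theorem conjEnd_pow_smul {g : LinearMap.GeneralLinearGroup k M} {x : M →ₗ[k] M} {c : k}
    (h : conjEnd g x = c • x) : ∀ n : ℕ, conjEnd (g ^ n) x = c ^ n • x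
  | 0 => by rw [pow_zero, pow_zero, conjEnd_one, one_smul]
  | n + 1 => by rw [pow_succ, conjEnd_mul, h, conjEnd_smul, conjEnd_pow_smul h n, smul_smul, pow_succ']

/-- A central element of weight one in the flag group cannot be quadratic of minimal rank. -/
theorem weight_one_absurd (C : Ctx p N) (hσ : σ ∈ minimalQuadraticElements N) (h : Opp N σ v)
    {ζ : LinearMap.GeneralLinearGroup k M} (hζ : ζ ∈ minimalQuadraticElements N)
    (hcomm : ∀ u ∈ flagGroup N σ, u * ζ = ζ * u)
    {c : k} (hc : c ≠ 0) (hc2 : c * c ≠ 1) (hc3 : c * c * c ≠ 1) (hcp : c ^ (p - 1) = 1)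
    (hscale : conjEnd (torus (sq_of_min hσ) h c hc) (alpha ζ) = c • alpha ζ) : False := by
  haveI := finite_gl (k := k) (M := M)
  haveI : Fact p.Prime := ⟨C.setting.prime⟩
  have hsq := sq_of_min hσ
  set t := torus hsq h c hc with htdef
  have htN : t ∈ N := C.torus_mem hσ.1.1 hsq h c hc
  have hcop : (Nat.card (Subgroup.zpowers t)).Coprime p := by
    rw [Nat.card_zpowers]
    refine Nat.Coprime.coprime_dvd_left (orderOf_dvd_of_pow_eq_one (torus_pow_eq_one hsq h hc hcp)) ?_
    exact ((Nat.coprime_self_sub_right C.setting.prime.pos).2 (Nat.coprime_one_right p)).symm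
  obtain ⟨v0, hv0⟩ := exists_root_opp C hζ
  obtain ⟨u, -, hopp, hfix⟩ := exists_fixed_opp C hζ.1.1 (sq_of_min hζ) (alpha_ne_zero hζ) hv0
    (A := Subgroup.zpowers t) ((Subgroup.zpowers_le.2 htN).trans Subgroup.le_normalizer) hcop
    (CfsgLib.Coprime.isSolvable_of_isMulCommutative inferInstance) fun a ha => by
      obtain ⟨n, rfl⟩ := (mem_powers_iff_mem_zpowers).2 ha
      exact flagStable_of_scalar (pow_ne_zero n hc) (conjEnd_pow_smul hscale n)
  obtain ⟨he', hf'⟩ := hfix t (Subgroup.mem_zpowers t)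
  set ω := u * v0 * u⁻¹
  have hts := conjEnd_opp hopp hc hscale he' hf'
  set z := alpha ζ
  set s := alpha ω with hsdef
  have T := orthoTriple_of_units hsq h.sq h.left h.right
  set a := alpha σ with hadef
  set b := alpha v with hbdef
  set e := a * b with hedef
  set f := b * a with hfdef
  set r := 1 - e - f with hrdef
  have a1 := T.pp; have a2 := T.qq; have a3 := T.rr; have a4 := T.pq; have a5 := T.qp
  have a6 := T.pr; have a7 := T.rp; have a8 := T.qr; have a9 := T.rq
  have hl : a * b * a = a := h.left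
  have hr' : b * a * b = b := h.right
  have hbb : b * b = 0 := h.sq
  rw [conjEnd_torus] at hts
  simp only [← hadef, ← hbdef, ← hedef, ← hfdef, ← hrdef] at hts
  have hcc : c - c⁻¹ ≠ 0 := fun e0 => hc2 (by
    rw [sub_eq_zero] at e0
    nth_rewrite 1 [e0]
    exact inv_mul_cancel₀ hc)
  have hc1 : c ≠ 1 := fun e0 => hc2 (by rw [e0, one_mul])
  have block : ∀ {i j : M →ₗ[k] M} {ci cj : k},
      i * (c • e + c⁻¹ • f + r) = ci • i → (c⁻¹ • e + c • f + r) * j = cj • j →
      ci * cj ≠ c⁻¹ → i * s * j = 0 := by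
    intro i j ci cj h1 h2 h3
    have h4 := congrArg (fun x => i * x * j) hts
    simp only [← mul_assoc, h1] at h4
    rw [mul_assoc (ci • i * s), h2] at h4
    simp only [smul_mul_assoc, mul_smul_comm, smul_smul] at h4
    have h5 : (cj * ci - c⁻¹) • (i * s * j) = 0 := by rw [sub_smul, h4, sub_self]
    exact (smul_eq_zero.1 h5).resolve_left (sub_ne_zero.2 (by rwa [mul_comm]))
  have le : e * (c • e + c⁻¹ • f + r) = c • e := by simp only [mul_add, mul_smul_comm, a1, a4, a6, smul_zero, add_zero]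
  have lf : f * (c • e + c⁻¹ • f + r) = c⁻¹ • f := by
    simp only [mul_add, mul_smul_comm, a2, a5, a8, smul_zero, add_zero, zero_add]
  have lr : r * (c • e + c⁻¹ • f + r) = (1 : k) • r := by
    simp only [mul_add, mul_smul_comm, a3, a7, a9, smul_zero, zero_add, one_smul]
  have re : (c⁻¹ • e + c • f + r) * e = c⁻¹ • e := by
    simp only [add_mul, smul_mul_assoc, a1, a5, a7, smul_zero, add_zero]
  have rf : (c⁻¹ • e + c • f + r) * f = c • f := by
    simp only [add_mul, smul_mul_assoc, a2, a4, a9, smul_zero, add_zero, zero_add]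
  have rr : (c⁻¹ • e + c • f + r) * r = (1 : k) • r := by
    simp only [add_mul, smul_mul_assoc, a3, a6, a8, smul_zero, zero_add, one_smul]
  have hci : c * c⁻¹ = 1 := mul_inv_cancel₀ hc
  have bee := block le re (fun h0 => hc1 (by rw [hci] at h0; rw [← inv_inv c, ← h0, inv_one]))
  have bef := block le rf (fun h0 => hc3 (by rw [h0, inv_mul_cancel₀ hc]))
  have ber := block le rr (fun h0 => hc2 (by rw [mul_one] at h0; nth_rewrite 1 [h0]; exact inv_mul_cancel₀ hc))
  have brf := block lr rf (fun h0 => hc2 (by rw [one_mul] at h0; nth_rewrite 1 [h0]; exact inv_mul_cancel₀ hc))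
  have brr := block lr rr (fun h0 => hc1 (by rw [one_mul] at h0; rw [← inv_inv c, ← h0, inv_one]))
  have bfe := block lf re (fun h0 => hc1 (by
    exact inv_eq_one.1 (mul_left_cancel₀ (inv_ne_zero hc) (h0.trans (mul_one _).symm))))
  have bff := block lf rf (fun h0 => hc1 (by rw [inv_mul_cancel₀ hc] at h0; rw [← inv_inv c, ← h0, inv_one]))
  have hsum : s = r * s * e + f * s * r := by
    calc s = (e + f + r) * s * (e + f + r) := by rw [T.sum, one_mul, mul_one]
      _ = _ := by simp only [add_mul, mul_add, bee, bef, ber, brf, brr, bfe, bff]; abel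
  have hsum' : s = r * (s * e) + f * (s * r) := by rw [← mul_assoc, ← mul_assoc]; exact hsum
  have ar : a * r = 0 := by
    simp only [hrdef, hedef, hfdef, mul_sub, mul_one, ← mul_assoc, hsq, zero_mul, sub_zero, hl, sub_self]
  have ra : r * a = 0 := by
    simp only [hrdef, hedef, hfdef, sub_mul, one_mul, mul_assoc, hsq, mul_zero, sub_zero]
    rw [← mul_assoc a, hl, sub_self]
  have ea : e * a = a := hl
  have af : a * f = a := by rw [hfdef, ← mul_assoc, hl]
  have br : b * r = 0 := by
    simp only [hrdef, hedef, hfdef, mul_sub, mul_one, ← mul_assoc, hbb, zero_mul, sub_zero, hr', sub_self]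
  have rb : r * b = 0 := by
    simp only [hrdef, hedef, hfdef, sub_mul, one_mul, mul_assoc, hbb, mul_zero, sub_zero]
    rw [← mul_assoc b, hr', sub_self]
  have eb : e * b = 0 := by rw [hedef, mul_assoc, hbb, mul_zero]
  have bf : b * f = 0 := by rw [hfdef, ← mul_assoc, hbb, zero_mul]
  -- the bracket as a member of the flag group
  have hZ : a * s - s * a = a * (s * r) - r * (s * a) := by
    conv_lhs => rw [hsum', mul_add, ← mul_assoc a r, ar, zero_mul, zero_add, ← mul_assoc a f, af, add_mul,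
      mul_assoc r, mul_assoc s e, ea, mul_assoc f, mul_assoc s r, ra, mul_zero, mul_zero, add_zero]
  set Z := a * s - s * a with hZdef
  set w := σ * v⁻¹ * σ with hwdef
  have hwN : w ∈ N := mul_mem (mul_mem hσ.1.1 (inv_mem h.mem)) hσ.1.1
  set g := w * ω * w⁻¹ with hgdef
  have hg : alpha g = Z := by
    rw [hgdef, alpha_conjEnd, conjEnd, hwdef, swap_val hsq h, swap_inv_val hsq h, ← hsdef, hsum', hZ]
    simp only [← hadef, ← hbdef, ← hedef, ← hfdef, ← hrdef]
    have hw1 : (r + a - b) * (r * (s * e) + f * (s * r)) = r * (s * e) + a * (s * r) := by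
      simp only [add_mul, sub_mul, mul_add, ← mul_assoc, a3, a9, ar, af, br, bf, zero_mul, add_zero, sub_zero]
      abel
    have e1 : (1 : M →ₗ[k] M) - e - f + a - b = r + a - b := by rw [hrdef]
    have e2 : (1 : M →ₗ[k] M) - e - f - a + b = r - a + b := by rw [hrdef]
    rw [← e1] at hw1
    rw [hw1]
    simp only [mul_add, mul_sub, add_mul, mul_assoc, a6, a3, ea, eb, ra, rb, mul_zero, zero_mul]
    abel
  have hrk : a * Z = 0 ∧ Z * a = 0 := by
    rw [hZ]
    refine ⟨?_, ?_⟩
    · rw [mul_sub, ← mul_assoc, hsq, zero_mul, ← mul_assoc, ar, zero_mul, sub_zero]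
    · rw [sub_mul, mul_assoc, mul_assoc s, ra, mul_zero, mul_zero, mul_assoc, mul_assoc s, hsq, mul_zero,
        mul_zero, sub_zero]
  have hgU : g ∈ flagGroup N σ := by
    refine (mem_flagGroup hsq).2 ⟨mul_mem (mul_mem hwN hopp.mem) (inv_mem hwN), fun m hm => ?_, fun m hm => ?_,
      fun m => ?_⟩
    · obtain ⟨y, rfl⟩ := hm
      rw [alpha_add_one g, LinearMap.add_apply, hg, ← hadef, one_smul, Module.End.one_apply,
        ← Module.End.mul_apply Z a y, hrk.2]
      simp
    · show alpha g m ∈ _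
      rw [hg, hZ, LinearMap.sub_apply, Module.End.mul_apply r, Module.End.mul_apply s,
        show a m = 0 from LinearMap.mem_ker.1 hm, map_zero, map_zero, sub_zero]
      exact ⟨_, rfl⟩
    · rw [inv_one, one_smul]
      show alpha g m ∈ LinearMap.ker a
      rw [LinearMap.mem_ker, hg, ← Module.End.mul_apply, hrk.1, LinearMap.zero_apply]
  have hzZ : z * Z = Z * z := by
    rw [← hg]; exact (sub_eq_zero.1 (bracket_of_comm (hcomm g hgU))).symm
  have hσU : σ ∈ flagGroup N σ := root_le_flag C hσ (self_mem_sameAction hσ)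
  have hza : z * a = a * z := (sub_eq_zero.1 (bracket_of_comm (hcomm σ hσU))).symm
  have hy := bracket_eq_zero_of_weights (Setting.six_ne C.setting) hopp.left hopp.right hopp.sq hza (by
    rw [show s * a - a * s = -Z by rw [hZdef]; abel, mul_neg, neg_mul, hzZ])
  have hZ0 : a * (s * r) - r * (s * a) = 0 := by
    rw [← hZ, hZdef, ← neg_sub, hy, neg_zero]
  have h1 : f * (s * r) = 0 := by
    have := congrArg (fun x => b * x) hZ0
    simpa only [mul_sub, ← mul_assoc, br, zero_mul, sub_zero, mul_zero] using this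
  have h2 : r * (s * e) = 0 := by
    have h3 : a * (s * r) = 0 := by rw [← af, mul_assoc, h1, mul_zero]
    rw [h3, zero_sub, neg_eq_zero] at hZ0
    rw [hedef, ← mul_assoc s, ← mul_assoc, hZ0, zero_mul]
  refine alpha_ne_zero hζ ?_
  have hs0 : s = 0 := by rw [hsum', h1, h2, add_zero]
  calc z = z * s * z := hopp.left.symm
    _ = 0 := by rw [hs0, mul_zero, zero_mul]

/-- **Uniqueness.** -/
theorem Connected.root_eq_of_flag_normalizes (K : Connected p N σ) (h : Opp N σ v)
    (hτ : τ ∈ minimalQuadraticElements N)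
    (hU : flagGroup N σ ≤ Subgroup.normalizer (sameActionSubgroup N τ : Set (LinearMap.GeneralLinearGroup k M))) :
    sameActionSubgroup N τ = sameActionSubgroup N σ := by
  haveI := finite_gl (k := k) (M := M)
  have C := K.ctx
  haveI : Fact p.Prime := ⟨C.setting.prime⟩
  haveI := C.setting.char
  have hσ := K.root
  have hsq := sq_of_min hσ
  have hp3 : 3 ≤ p := by have := C.setting.five_le; omega
  set U := flagGroup N σ with hUdef
  have hUp := flagGroup_isPGroup (H := N) C.setting hsq
  obtain ⟨x, hx, hx1, hxU⟩ : ∃ x ∈ sameActionSubgroup N τ, x ≠ 1 ∧ ∀ u ∈ U, u * x = x * u := by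
    set Eτ := sameActionSubgroup N τ
    let φ : ↥U →* MulAut ↥Eτ := (Subgroup.normalizerMonoidHom Eτ).comp (Subgroup.inclusion hU)
    letI : MulAction ↥U ↥Eτ := MulAction.compHom _ φ
    have hτp : τ ^ p = 1 := pow_char_eq_one_of_cube hp3 (by rw [sq_of_min hτ, zero_mul])
    have hdvd : p ∣ Nat.card Eτ := by
      have := Subgroup.orderOf_dvd_natCard Eτ (self_mem_sameAction hτ)
      rwa [orderOf_eq_prime hτp (ne_one_of_min hτ)] at this
    obtain ⟨x, hx, hne⟩ := hUp.exists_fixed_point_of_prime_dvd_card_of_fixed_point ↥Eτ hdvd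
      (a := 1) (fun u => map_one (φ u))
    refine ⟨x, x.2, fun e => hne (Subtype.ext e.symm), fun u hu => ?_⟩
    have := congrArg Subtype.val (hx ⟨u, hu⟩)
    exact mul_inv_eq_iff_eq_mul.1 this
  obtain ⟨hxmin, hEx⟩ := sameAction_eq_of_mem hτ hx hx1
  have hσU : σ ∈ U := root_le_flag C hσ (self_mem_sameAction hσ)
  have hxσ : x * σ * x⁻¹ = σ := by rw [← hxU σ hσU, mul_inv_cancel_right]
  have hxN : x ∈ N := hxmin.1.1
  obtain ⟨u, hu, hxv⟩ := exists_conj_opp C hσ.1.1 hsq (alpha_ne_zero hσ) h
    (v1 := x * v * x⁻¹) (by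
      have := h.conj (Subgroup.le_normalizer hxN)
      rwa [hxσ] at this)
  have huσ : u * σ * u⁻¹ = σ := by
    rw [comm_of_conjEnd (conjEnd_flag ((mem_flagGroup hsq).1 hu).2), mul_inv_cancel_right]
  set d := u⁻¹ * x with hddef
  have hdσ : d * σ * d⁻¹ = σ := by
    rw [show d * σ * d⁻¹ = u⁻¹ * (x * σ * x⁻¹) * u by rw [hddef]; group, hxσ]
    conv_lhs => rw [← huσ]
    group
  have hdv : d * v * d⁻¹ = v := by
    rw [show d * v * d⁻¹ = u⁻¹ * (x * v * x⁻¹) * u by rw [hddef]; group, hxv]; group
  obtain ⟨c, hc, hc2, hc3, hcp⟩ := exists_torus_scalar C.setting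
  set t := torus hsq h c hc with htdef
  have hdt : Commute d t := by
    have e := comm_torus_of_comm_idem hsq h c hc (g := d) ?_ ?_
    · exact e
    · rw [conjEnd_mul_end, ← alpha_conjEnd, ← alpha_conjEnd, hdσ, hdv]
    · rw [conjEnd_mul_end, ← alpha_conjEnd, ← alpha_conjEnd, hdσ, hdv]
  set A := Subgroup.zpowers t
  have htN : t ∈ N := C.torus_mem hσ.1.1 hsq h c hc
  have hAU : A ≤ Subgroup.normalizer (U : Set (LinearMap.GeneralLinearGroup k M)) :=
    le_normalizer_flagGroup ((Subgroup.zpowers_le.2 htN).trans Subgroup.le_normalizer) fun a ha => by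
      obtain ⟨n, rfl⟩ := (mem_powers_iff_mem_zpowers).2 ha
      exact HasChar.flagStable (pow_ne_zero n hc) ((torus_hasChar hsq h c hc).pow hsq n)
  -- `u` is central in the flag group
  set Z := U ⊓ Subgroup.centralizer (U : Set (LinearMap.GeneralLinearGroup k M))
  have huZ : u ∈ Z := by
    have hAZ : A ≤ Subgroup.normalizer (Z : Set (LinearMap.GeneralLinearGroup k M)) :=
      CfsgLib.CFun.le_normalizer_cen hAU
    have huw : ∀ w ∈ U, u * w * u⁻¹ = d⁻¹ * w * d := fun w hw => by
      have h1 := hxU _ (mul_mem (mul_mem hu hw) (inv_mem hu))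
      calc u * w * u⁻¹ = x⁻¹ * (x * (u * w * u⁻¹)) := by group
        _ = x⁻¹ * (u * w * u⁻¹ * x) := by rw [h1]
        _ = d⁻¹ * w * d := by rw [hddef]; group
    have hfix : ∀ a ∈ A, a * u * a⁻¹ * u⁻¹ ∈ Z := by
      intro a ha
      have haU : a * u * a⁻¹ ∈ U := (Subgroup.mem_normalizer_iff.1 (hAU ha) u).1 hu
      refine Subgroup.mem_inf.2 ⟨mul_mem haU (inv_mem hu), Subgroup.mem_centralizer_iff.2 fun w hw => ?_⟩
      set w' := u⁻¹ * w * u
      have hw' : w' ∈ U := mul_mem (mul_mem (inv_mem hu) hw) hu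
      have hda : Commute d a := by
        obtain ⟨i, rfl⟩ := Subgroup.mem_zpowers_iff.1 ha
        exact hdt.zpow_right i
      have h1 := huw (a⁻¹ * w' * a) (by
        have := (Subgroup.mem_normalizer_iff.1 (hAU (inv_mem ha)) w').1 hw'
        simpa using this)
      have h3 : a * u * a⁻¹ * w' * (a * u * a⁻¹)⁻¹ = u * w' * u⁻¹ := by
        calc a * u * a⁻¹ * w' * (a * u * a⁻¹)⁻¹ = a * (u * (a⁻¹ * w' * a) * u⁻¹) * a⁻¹ := by group
          _ = a * (d⁻¹ * (a⁻¹ * w' * a) * d) * a⁻¹ := by rw [h1]
          _ = (a * d⁻¹) * a⁻¹ * w' * (a * (d * a⁻¹)) := by group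
          _ = d⁻¹ * w' * d := by
            rw [← hda.inv_left.eq, hda.inv_right.eq]; group
          _ = u * w' * u⁻¹ := (huw w' hw').symm
      calc w * (a * u * a⁻¹ * u⁻¹) = (u * w' * u⁻¹) * (a * u * a⁻¹) * u⁻¹ := by simp only [w']; group
        _ = a * u * a⁻¹ * w' * u⁻¹ := by rw [← h3]; group
        _ = a * u * a⁻¹ * u⁻¹ * w := by simp only [w']; group
    have hcop : (Nat.card A).Coprime (Nat.card Z) := by
      obtain ⟨r, hr⟩ := IsPGroup.iff_card.1 (hUp.to_le inf_le_left : IsPGroup p Z)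
      rw [hr, Nat.card_zpowers]
      refine Nat.Coprime.pow_right r (Nat.Coprime.coprime_dvd_left
        (orderOf_dvd_of_pow_eq_one (torus_pow_eq_one hsq h hc hcp)) ?_)
      exact ((Nat.coprime_self_sub_right C.setting.prime.pos).2 (Nat.coprime_one_right p)).symm
    obtain ⟨n, hn, hnc⟩ := CfsgLib.Coprime.exists_fixed_in_coset hAZ hcop
      (Or.inl (CfsgLib.Coprime.isSolvable_of_isMulCommutative inferInstance))
      (CfsgLib.CFun.le_normalizer_cen Subgroup.le_normalizer hu) hfix
    have hun : u * n ∈ U := mul_mem hu hn.1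
    have hcg := congrArg Units.val (Subgroup.mem_centralizer_iff.1 hnc t (Subgroup.mem_zpowers t))
    rw [Units.val_mul, Units.val_mul] at hcg
    obtain ⟨h1, h2⟩ := comm_idem_of_comm_torus hsq h hc hc2 hcg.symm
    have h3 := eq_one_of_flag_comm hsq h ((mem_flagGroup hsq).1 hun).2 (conjEnd_eq_iff.2 h1) (conjEnd_eq_iff.2 h2)
    rw [eq_inv_of_mul_eq_one_left h3]
    exact inv_mem hn
  have huU : ∀ w ∈ U, w * u = u * w := fun w hw => Subgroup.mem_centralizer_iff.1 huZ.2 w hw
  have hdU : ∀ w ∈ U, w * d = d * w := fun w hw => by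
    exact ((show Commute w u from huU w hw).inv_right.mul_right (hxU w hw : Commute w x)).eq
  have hd1 : d = 1 := by
    refine K.eq_one_of_central h (mul_mem (inv_mem (flagGroup_le hu)) hxN) ?_ hdU fun y hy => ?_
    · rw [hddef, ((show Commute u x from hxU u hu).inv_left).mul_pow, inv_pow,
        pow_char_eq_one_of_cube hp3 ((mem_flagGroup hsq).1 hu).2.cube,
        pow_char_eq_one_of_cube hp3 (by rw [sq_of_min hxmin, zero_mul]), inv_one, mul_one]
    · set w := σ * v⁻¹ * σ with hwdef
      have hwN : w ∈ N := mul_mem (mul_mem hσ.1.1 (inv_mem h.mem)) hσ.1.1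
      have hy' : y ∈ flagGroup N (w * σ * w⁻¹) := by
        have e : alpha v⁻¹ = -alpha v := by
          rw [CfsgLib.QuadPair.alpha, inv_val_sub h.sq]; abel
        rw [hwdef, swap_conj hsq h, flagGroup_congr (q := v) (by rw [e, LinearMap.range_neg])
          (by rw [e, LinearMap.ker_neg])]
        exact hy
      have hy2 := conj_mem_flagGroup (Subgroup.le_normalizer (inv_mem hwN)) hy'
      rw [inv_inv, show w⁻¹ * (w * σ * w⁻¹) * w = σ by group] at hy2
      have hdσ' : Commute d σ := mul_inv_eq_iff_eq_mul.1 hdσ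
      have hdv' : Commute d v := mul_inv_eq_iff_eq_mul.1 hdv
      have hdw : Commute d w := (hdσ'.mul_right hdv'.inv_right).mul_right hdσ'
      have := (hdw.mul_right (show Commute d (w⁻¹ * y * w) from (hdU _ hy2).symm)).mul_right hdw.inv_right
      rw [show w * (w⁻¹ * y * w) * w⁻¹ = y by group] at this
      exact this.eq.symm
  have hxu : x = u := (inv_mul_eq_one.1 hd1).symm
  -- the grading of `x`
  subst hxu
  have T := orthoTriple_of_units hsq h.sq h.left h.right
  set a := alpha σ with hadef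
  set b := alpha v with hbdef
  set α := alpha x with hαdef
  have hch := ((mem_flagGroup hsq).1 huZ.1).2
  have hαa : α * a = 0 := LinearMap.ext fun m => by
    show (x : M →ₗ[k] M) (a m) - a m = 0
    rw [hch.1 _ ⟨m, rfl⟩, one_smul, sub_self]
  have haα : a * α = 0 := LinearMap.ext fun m => by
    have := hch.2.2 m
    rw [inv_one, one_smul] at this
    exact this
  have hl : a * b * a = a := h.left
  have ar : a * (1 - a * b - b * a) = 0 := by
    simp only [mul_sub, mul_one, ← mul_assoc, hsq, zero_mul, sub_zero, hl, sub_self]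
  have ra : (1 - a * b - b * a) * a = 0 := by
    simp only [sub_mul, one_mul, mul_assoc, hsq, mul_zero, sub_zero]
    rw [← mul_assoc a, hl, sub_self]
  set e := a * b with hedef
  set f := b * a with hfdef
  set r := 1 - e - f with hrdef
  have αe : α * e = 0 := by rw [hedef, ← mul_assoc, hαa, zero_mul]
  have fα : f * α = 0 := by rw [hfdef, mul_assoc, haα, mul_zero]
  have z1 : f * α * e = 0 := by rw [fα, zero_mul]
  have z2 : f * α * r = 0 := by rw [fα, zero_mul]
  have z3 : r * α * e = 0 := by rw [mul_assoc, αe, mul_zero]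
  have hrr : r * α * r = 0 := LinearMap.ext fun m => by
    have hm : r m ∈ LinearMap.ker a := by
      rw [LinearMap.mem_ker, ← Module.End.mul_apply, ar, LinearMap.zero_apply]
    obtain ⟨y, hy⟩ := hch.2.1 _ hm
    rw [Module.End.mul_apply, Module.End.mul_apply, show α (r m) = a y from hy.symm, ← Module.End.mul_apply,
      ra, LinearMap.zero_apply, LinearMap.zero_apply]
  have hw0 : w0 e f r α = 0 := by rw [w0, hrr, mul_assoc e, αe, mul_zero, fα, zero_mul, add_zero, add_zero]
  set W2 := w2 e f α with hW2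
  set W1 := w1 e f r α with hW1
  have hdec : α = W2 + W1 := by
    conv_lhs => rw [decomp T z1 z2 z3, hw0, add_zero]
  have a1 := T.pp; have a2 := T.qq; have a3 := T.rr; have a4 := T.pq; have a5 := T.qp
  have a6 := T.pr; have a7 := T.rp; have a8 := T.qr; have a9 := T.rq
  have b4 : ∀ y : M →ₗ[k] M, e * (f * y) = 0 := fun y => by rw [← mul_assoc, a4, zero_mul]
  have b5 : ∀ y : M →ₗ[k] M, f * (e * y) = 0 := fun y => by rw [← mul_assoc, a5, zero_mul]
  have b6 : ∀ y : M →ₗ[k] M, e * (r * y) = 0 := fun y => by rw [← mul_assoc, a6, zero_mul]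
  have b7 : ∀ y : M →ₗ[k] M, r * (e * y) = 0 := fun y => by rw [← mul_assoc, a7, zero_mul]
  have b8 : ∀ y : M →ₗ[k] M, f * (r * y) = 0 := fun y => by rw [← mul_assoc, a8, zero_mul]
  have b9 : ∀ y : M →ₗ[k] M, r * (f * y) = 0 := fun y => by rw [← mul_assoc, a9, zero_mul]
  obtain ⟨p22, p21, p12⟩ : W2 * W2 = 0 ∧ W2 * W1 = 0 ∧ W1 * W2 = 0 := by
    refine ⟨?_, ?_, ?_⟩ <;>
      simp only [hW2, hW1, w2, w1, add_mul, mul_add, mul_assoc, b4, b5, b6, b7, b8, b9, mul_zero, add_zero]
  have p11 : W1 * W1 = 0 := by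
    have := sq_of_min hxmin
    rw [← hαdef, hdec] at this
    simpa only [add_mul, mul_add, p22, p21, p12, add_zero, zero_add] using this
  have hconj : conjEnd t α = (c * c) • W2 + c • W1 := by
    rw [htdef, conjEnd_torus]
    simp only [← hadef, ← hbdef, ← hedef, ← hfdef, ← hrdef]
    rw [conj_eq T z1 z2 z3 hc, graded, hw0, add_zero]
  have hxC : x ∈ U := huZ.1
  set y := t * x * t⁻¹ * oneAdd (-c • α) (smul_sq (sq_of_min hxmin) _)
  have hyN : y ∈ N := mul_mem (mul_mem (mul_mem htN hxN) (inv_mem htN))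
    (mem_oneAdd_of_family (sq_of_min hxmin) (C.fam x hxN (sq_of_min hxmin)) _)
  have hy : alpha y = (c * c - c) • W2 := by
    rw [CfsgLib.QuadPair.alpha_mul, alpha_conjEnd, alpha_oneAdd, hconj, hdec]
    simp only [add_mul, mul_add, smul_mul_assoc, mul_smul_comm, smul_add, p22, p21, p12, p11, smul_zero, add_zero,
      zero_add]
    module
  have hcc : c * c - c ≠ 0 := by
    rw [show c * c - c = c * (c - 1) by ring]
    exact mul_ne_zero hc (fun e0 => hc2 (by rw [sub_eq_zero.1 e0, one_mul]))
  have hfamW2 : HasFamily N W2 := hasFamily_of_smul hcc (hy ▸ C.fam y hyN (by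
    rw [hy, smul_mul_assoc, mul_smul_comm, p22, smul_zero, smul_zero]))
  have hW2E : oneAdd (-(1 : k) • W2) (smul_sq p22 _) ∈ sameActionSubgroup N σ := by
    refine (mem_root_iff C hσ).2 ⟨mem_oneAdd_of_family p22 hfamW2 _, ?_, ?_⟩ <;> rw [alpha_oneAdd]
    · rintro _ ⟨m, rfl⟩
      refine ⟨-(b (α (f m))), ?_⟩
      rw [map_neg, LinearMap.smul_apply, neg_one_smul]; rfl
    · intro m hm
      rw [LinearMap.mem_ker] at hm ⊢
      have : f m = 0 := by rw [hfdef, Module.End.mul_apply, hm, map_zero]
      rw [LinearMap.smul_apply, hW2, w2, Module.End.mul_apply, this, map_zero, smul_zero]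
  set ζ := x * oneAdd (-(1 : k) • W2) (smul_sq p22 _) with hζdef
  have hαζ : alpha ζ = W1 := by
    rw [hζdef, CfsgLib.QuadPair.alpha_mul, alpha_oneAdd, ← hαdef, hdec]
    simp only [add_mul, mul_smul_comm, p22, p12, smul_zero, add_zero]
    module
  by_cases hW10 : W1 = 0
  · refine hEx.symm.trans (sameAction_eq_of_mem hσ ?_ hx1).2
    have : x = oneAdd W2 p22 := eq_of_alpha (by rw [alpha_oneAdd, ← hαdef, hdec, hW10, add_zero])
    have h1 := inv_mem hW2E
    rw [oneAdd_inv_neg p22] at h1
    rw [this]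
    convert h1 using 1
    exact Units.ext (by simp [oneAdd_val])
  exfalso
  have hζN : ζ ∈ N := mul_mem hxN (sameAction_le hσ hW2E)
  have hζmin : ζ ∈ minimalQuadraticElements N := by
    refine ⟨C.quad hζN (by rw [hαζ, p11]) (by rw [hαζ]; exact hW10), fun s hs => le_trans ?_ (hxmin.2 s hs)⟩
    show Module.finrank k (LinearMap.range (alpha ζ)) ≤ Module.finrank k (LinearMap.range α)
    rw [hαζ]
    exact (finrank_w0_le T z1 z2 z3).2 hw0
  refine weight_one_absurd C hσ h hζmin (fun w hw => ?_) hc hc2 hc3 hcp ?_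
  · have hwE : Commute w (oneAdd (-(1 : k) • W2) (smul_sq p22 _)) := by
      by_cases h0 : oneAdd (-(1 : k) • W2) (smul_sq p22 _) = 1
      · rw [h0]; exact Commute.one_right w
      have hcl := mem_class_of_actSpace hσ ((mem_sameAction_iff hσ).1 hW2E) fun e0 => h0 (eq_one_of_alpha e0)
      exact comm_of_conjEnd (conjEnd_flag (HasChar.congr hcl.2.2 hcl.2.1 ((mem_flagGroup hsq).1 hw).2))
    exact ((show Commute w x from hxU w hw).mul_right hwE).eq
  · rw [hαζ, hW1]
    show conjEnd t (w1 e f r α) = c • w1 e f r α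
    rw [← hW1, htdef, conjEnd_torus]
    simp only [← hadef, ← hbdef, ← hedef, ← hfdef, ← hrdef, hW1, w1, add_mul, mul_add, smul_mul_assoc,
      mul_smul_comm, mul_assoc, a1, a2, a3, b4, b5, b6, b7, b8, b9, a4, a5, a6, a7, a8, a9, mul_zero, smul_zero,
      add_zero, zero_add, smul_smul, inv_mul_cancel₀ hc, mul_inv_cancel₀ hc, ← mul_assoc e e, ← mul_assoc r r,
      smul_add, one_smul, mul_one, one_mul]
    abel

/-- An element normalizing a root subgroup stabilizes its flag. -/
theorem flagStable_of_normalizes (hσ : σ ∈ minimalQuadraticElements N) {g : LinearMap.GeneralLinearGroup k M}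
    (hgN : g ∈ Subgroup.normalizer (N : Set (LinearMap.GeneralLinearGroup k M)))
    (hg : g ∈ Subgroup.normalizer (sameActionSubgroup N σ : Set (LinearMap.GeneralLinearGroup k M))) :
    FlagStable σ g := by
  have hm := (Subgroup.mem_normalizer_iff.1 hg σ).1 (self_mem_sameAction hσ)
  have hc := mem_class_of_actSpace hσ ((mem_sameAction_iff hσ).1 hm) (alpha_ne_zero (conj_mem_minimal' hgN hσ))
  exact ⟨hc.2.2, hc.2.1⟩

/-- **A Sylow subgroup of a component normalizes a root subgroup, and only one.** -/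
theorem Connected.sylow_root [Fact p.Prime] (K : Connected p N σ)
    {T : Subgroup (LinearMap.GeneralLinearGroup k M)} (hT : CfsgLib.Coprime.IsSylowIn p T N) :
    ∃ τ ∈ minimalQuadraticElements N,
      T ≤ Subgroup.normalizer (sameActionSubgroup N τ : Set (LinearMap.GeneralLinearGroup k M)) ∧
      ∀ ρ ∈ minimalQuadraticElements N,
        T ≤ Subgroup.normalizer (sameActionSubgroup N ρ : Set (LinearMap.GeneralLinearGroup k M)) →
        sameActionSubgroup N ρ = sameActionSubgroup N τ := by
  classical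
  haveI := finite_gl (k := k) (M := M)
  have C := K.ctx
  have hσ := K.root
  have key : ∀ τ ∈ minimalQuadraticElements N, ∀ ρ ∈ minimalQuadraticElements N,
      T ≤ Subgroup.normalizer (sameActionSubgroup N τ : Set (LinearMap.GeneralLinearGroup k M)) →
      T ≤ Subgroup.normalizer (sameActionSubgroup N ρ : Set (LinearMap.GeneralLinearGroup k M)) →
      sameActionSubgroup N ρ = sameActionSubgroup N τ := by
    intro τ hτ ρ hρ hTτ hTρ
    obtain ⟨w, hw⟩ := exists_root_opp C hτ
    refine (K.change hτ).root_eq_of_flag_normalizes hw hρ (le_trans ?_ hTρ)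
    have hTU : T ≤ Subgroup.normalizer (flagGroup N τ : Set (LinearMap.GeneralLinearGroup k M)) :=
      le_normalizer_flagGroup (hT.1.trans Subgroup.le_normalizer) fun a ha =>
        flagStable_of_normalizes hτ (Subgroup.le_normalizer (hT.1 ha)) (hTτ ha)
    have hsup : IsPGroup p ↥(flagGroup N τ ⊔ T) :=
      IsPGroup.to_sup_of_normal_left' (flagGroup_isPGroup C.setting (sq_of_min hτ)) hT.isPGroup hTU
    exact le_sup_left.trans (eq_sylowIn_of_ge hT (sup_le flagGroup_le hT.1) hsup le_sup_right).le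
  suffices hex : ∃ τ ∈ minimalQuadraticElements N,
      T ≤ Subgroup.normalizer (sameActionSubgroup N τ : Set (LinearMap.GeneralLinearGroup k M)) by
    obtain ⟨τ, hτ, h⟩ := hex
    exact ⟨τ, hτ, h, fun ρ hρ h' => key τ hτ ρ hρ h h'⟩
  set E := sameActionSubgroup N σ with hEdef
  obtain ⟨v, hv⟩ := exists_root_opp C hσ
  set D := N ⊓ Subgroup.normalizer (E : Set (LinearMap.GeneralLinearGroup k M)) with hD
  have hUD : flagGroup N σ ≤ D := le_inf flagGroup_le fun u hu =>
    Subgroup.mem_normalizer_iff_map_conj_eq.2 (flag_conj_root hσ hu)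
  obtain ⟨SE, hSE, hUSE⟩ := exists_sylowIn_ge hUD (flagGroup_isPGroup C.setting (sq_of_min hσ))
  obtain ⟨T', hT', hSET'⟩ := exists_sylowIn_ge (hSE.1.trans inf_le_left) hSE.isPGroup
  have heq : T' = SE := by
    by_contra hne
    haveI : Group.IsNilpotent T' := hT'.isPGroup.isNilpotent
    have hne' : SE.subgroupOf T' ≠ ⊤ := fun e => hne (le_antisymm (Subgroup.subgroupOf_eq_top.1 e) hSET')
    obtain ⟨g, hgN, hgS⟩ := SetLike.exists_of_lt
      (Group.normalizerCondition_of_isNilpotent _ hne'.lt_top)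
    have hgN' : ∀ y ∈ SE, (g : LinearMap.GeneralLinearGroup k M)⁻¹ * y * g ∈ SE := fun y hy =>
      (Subgroup.mem_normalizer_iff''.1 hgN ⟨y, hSET' hy⟩).1 hy
    have hg1 : (g : LinearMap.GeneralLinearGroup k M) ∈ N := hT'.1 g.2
    have hEg : sameActionSubgroup N ((g : LinearMap.GeneralLinearGroup k M) * σ *
        (g : LinearMap.GeneralLinearGroup k M)⁻¹) = E := by
      refine K.root_eq_of_flag_normalizes hv (conj_mem_minimal hg1 hσ) fun u hu => ?_
      rw [← conjBy_sameAction hg1, Subgroup.mem_normalizer_iff_map_conj_eq]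
      have hu' : (g : LinearMap.GeneralLinearGroup k M)⁻¹ * u * g ∈
          Subgroup.normalizer (E : Set (LinearMap.GeneralLinearGroup k M)) := (hSE.1 (hgN' u (hUSE hu))).2
      rw [Subgroup.mem_normalizer_iff_map_conj_eq] at hu'
      show conjBy (conjBy E _) u = conjBy E _
      conv_rhs => rw [← show conjBy E ((g : LinearMap.GeneralLinearGroup k M)⁻¹ * u * g) = E from hu']
      rw [conjBy_conjBy, conjBy_conjBy]
      congr 1
      group
    have hgD : (g : LinearMap.GeneralLinearGroup k M) ∈ D := by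
      refine ⟨hg1, Subgroup.mem_normalizer_iff_map_conj_eq.2 ?_⟩
      rw [← conjBy_sameAction hg1] at hEg
      exact hEg
    exact hgS (show (g : LinearMap.GeneralLinearGroup k M) ∈ SE by
      rw [← eq_sylowIn_of_ge hSE (inf_le_right : T' ⊓ D ≤ D) hT'.isPGroup.to_inf_left (le_inf hSET' hSE.1)]
      exact ⟨g.2, hgD⟩)
  obtain ⟨g, hg, hgT⟩ := hT'.exists_conj hT
  refine ⟨g * σ * g⁻¹, conj_mem_minimal hg hσ, ?_⟩
  rw [← conjBy_sameAction hg, ← hgT, heq]
  rintro _ ⟨s, hs, rfl⟩
  rw [Subgroup.mem_normalizer_iff_map_conj_eq]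
  have hsE : conjBy E s = E := Subgroup.mem_normalizer_iff_map_conj_eq.1 (hSE.1 hs).2
  show conjBy (conjBy E g) (g * s * g⁻¹) = conjBy E g
  conv_rhs => rw [← hsE]
  rw [conjBy_conjBy, conjBy_conjBy]
  congr 1
  group

end CfsgLib.EquivZJ
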