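import Cfsg.Agent.Lib.CFun.EquivZJ.Opposite
import Cfsg.Agent.Lib.CFun.EquivZJ.Unique

/-!
# Selections of opposite root subgroups, one in each component
-/

set_option autoImplicit false
set_option linter.style.haveILetI false
set_option linter.unusedSectionVars false

namespace CfsgLib.EquivZJ

open Cfsg hiding alpha
open CfsgLib.QuadPair CfsgLib.CoprimeQuad
open scoped MatrixGroups

variable {k : Type*} [Field k] {M : Type*} [AddCommGroup M] [Module k M] [FiniteDimensional k M] [Finite k]
variable {H E F : Subgroup (LinearMap.GeneralLinearGroup k M)} {p : ℕ}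
variable {x y g : LinearMap.GeneralLinearGroup k M}

theorem Opp.conj_map {K : Subgroup (LinearMap.GeneralLinearGroup k M)} (h : Opp K x y)
    (g : LinearMap.GeneralLinearGroup k M) : Opp (conjBy K g) (g * x * g⁻¹) (g * y * g⁻¹) := by
  refine ⟨⟨y, h.mem, rfl⟩, ?_, ?_, ?_⟩ <;>
    simp only [alpha_conjEnd, ← conjEnd_mul_end, h.sq, h.left, h.right, conjEnd_zero]

/-- `F` is the root subgroup of an element opposite, inside the component, to a generator of `E`. -/
def Opposed (H E F : Subgroup (LinearMap.GeneralLinearGroup k M)) : Prop :=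
  ∃ x y, x ∈ minimalQuadraticElements H ∧ sameActionSubgroup H x = E ∧ Opp (comp H E) x y ∧
    sameActionSubgroup H y = F

theorem mem_comp_of_root (hx : x ∈ minimalQuadraticElements H) (hE : sameActionSubgroup H x = E) :
    x ∈ comp H E := by
  subst hE
  exact le_comp (sameAction_le hx) (self_mem_sameAction hx)

theorem Opposed.data (C : Ctx p H) (h : Opposed H E F) :
    comp H F = comp H E ∧ F ≤ comp H E ∧ ∃ y ∈ minimalQuadraticElements H, sameActionSubgroup H y = F := by
  obtain ⟨x, y, hx, rfl, hxy, rfl⟩ := h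
  have K := connected_comp C hx
  have hy : y ∈ minimalQuadraticElements H :=
    minimal_of_sub C (comp_le _) hx (mem_comp_of_root hx rfl) (hxy.minimal K.ctx K.root)
  exact ⟨comp_root C hx hy hxy.mem, root_le_comp C hx hy hxy.mem, y, hy, rfl⟩

theorem Opposed.conj (C : Ctx p H) (h : Opposed H E F)
    (hg : g ∈ Subgroup.normalizer (H : Set (LinearMap.GeneralLinearGroup k M))) :
    Opposed H (conjBy E g) (conjBy F g) := by
  obtain ⟨x, y, hx, rfl, hxy, rfl⟩ := h
  refine ⟨g * x * g⁻¹, g * y * g⁻¹, conj_mem_minimal' hg hx, (conjBy_sameAction' hg).symm, ?_,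
    (conjBy_sameAction' hg).symm⟩
  rw [comp_conj hg]
  exact hxy.conj_map g

theorem exists_opposed (C : Ctx p H) (hx : x ∈ minimalQuadraticElements H) :
    ∃ F, Opposed H (sameActionSubgroup H x) F := by
  have K := connected_comp C hx
  obtain ⟨y, hy⟩ := exists_root_opp K.ctx K.root
  exact ⟨_, x, y, hx, rfl, hy, rfl⟩

/-- The opposites of `E` are permuted transitively by the elements of the component normalizing `E`. -/
theorem Opposed.transitive (C : Ctx p H) {F' : Subgroup (LinearMap.GeneralLinearGroup k M)}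
    (h : Opposed H E F) (h' : Opposed H E F') :
    ∃ u ∈ comp H E ⊓ Subgroup.normalizer (E : Set (LinearMap.GeneralLinearGroup k M)), conjBy F u = F' := by
  obtain ⟨x, y, hx, rfl, hxy, rfl⟩ := h
  obtain ⟨x', y', hx', hEx, hxy', rfl⟩ := h'
  set N := comp H (sameActionSubgroup H x) with hN
  have K := connected_comp C hx
  have hxN := mem_comp_of_root hx rfl
  have hE : sameActionSubgroup N x = sameActionSubgroup H x := root_comp_eq C hx hx hxN
  have hx'E : x' ∈ sameActionSubgroup N x := by rw [hE, ← hEx]; exact self_mem_sameAction hx'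
  obtain ⟨u, hu, e⟩ := root_of_opp K.ctx K.root hxy hx'E (ne_one_of_min hx') hxy'
  have hy : y ∈ minimalQuadraticElements H := minimal_of_sub C (comp_le _) hx hxN (hxy.minimal K.ctx K.root)
  have hy' : y' ∈ minimalQuadraticElements H := minimal_of_sub C (comp_le _) hx hxN
    (hxy'.minimal K.ctx (sameAction_eq_of_mem K.root hx'E (ne_one_of_min hx')).1)
  rw [root_comp_eq C hx hy' hxy'.mem, root_comp_eq C hx hy hxy.mem] at e
  refine ⟨u, ⟨flagGroup_le hu, Subgroup.mem_normalizer_iff_map_conj_eq.2 ?_⟩, e.symm⟩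
  rw [← hE]
  exact flag_conj_root K.root hu

/-- Independent choices in different components are realised by one element. -/
theorem exists_simultaneous (C : Ctx p H) (ℰ : Finset (Subgroup (LinearMap.GeneralLinearGroup k M)))
    (hroot : ∀ E ∈ ℰ, ∃ τ ∈ minimalQuadraticElements H, sameActionSubgroup H τ = E)
    (hinj : ∀ E ∈ ℰ, ∀ E' ∈ ℰ, comp H E = comp H E' → E = E')
    (K f f' : Subgroup (LinearMap.GeneralLinearGroup k M) → Subgroup (LinearMap.GeneralLinearGroup k M))
    (hK : ∀ E ∈ ℰ, K E ≤ comp H E) (hf : ∀ E ∈ ℰ, f E ≤ comp H E) (hf' : ∀ E ∈ ℰ, f' E ≤ comp H E)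
    (hmove : ∀ E ∈ ℰ, ∃ u ∈ K E, conjBy (f E) u = f' E) :
    ∃ h ∈ ⨆ E ∈ ℰ, K E, ∀ E ∈ ℰ, conjBy (f E) h = f' E := by
  classical
  haveI := finite_gl (k := k) (M := M)
  suffices hs : ∀ s : Finset (Subgroup (LinearMap.GeneralLinearGroup k M)), s ⊆ ℰ →
      ∃ h ∈ ⨆ E ∈ s, K E, ∀ E ∈ s, conjBy (f E) h = f' E from hs ℰ subset_rfl
  intro s
  induction s using Finset.induction_on with
  | empty => exact fun _ => ⟨1, one_mem _, fun E hE => absurd hE (Finset.notMem_empty E)⟩
  | @insert E s hEs ih =>
    intro hsub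
    have hE := hsub (Finset.mem_insert_self E s)
    have hs := (Finset.subset_insert E s).trans hsub
    obtain ⟨h, hh, hfix⟩ := ih hs
    obtain ⟨u, hu, hue⟩ := hmove E hE
    have hcomm : ∀ E' ∈ s, ∀ a ∈ comp H E', ∀ b ∈ comp H E, a * b = b * a := by
      intro E' hE'
      obtain ⟨τ, hτ, rfl⟩ := hroot E hE
      obtain ⟨τ', hτ', rfl⟩ := hroot E' (hs hE')
      exact (comp_eq_or_commute C hτ' hτ).resolve_left fun e => hEs (hinj _ (hs hE') _ hE e ▸ hE')
    have hfixed : ∀ (a : LinearMap.GeneralLinearGroup k M) (X : Subgroup (LinearMap.GeneralLinearGroup k M)),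
        (∀ z ∈ X, a * z = z * a) → conjBy X a = X := by
      intro a X hX
      refine Subgroup.eq_of_le_of_card_ge ?_ (Subgroup.card_map_of_injective (MulAut.conj a).injective).ge
      rintro _ ⟨z, hz, rfl⟩
      show a * z * a⁻¹ ∈ X
      rw [hX z hz, mul_inv_cancel_right]
      exact hz
    have hhc : ∀ z ∈ comp H E, h * z = z * h := by
      intro z hz
      have : (⨆ E' ∈ s, K E') ≤ Subgroup.centralizer {z} := iSup₂_le fun E' hE' a ha =>
        Subgroup.mem_centralizer_singleton_iff.2 (hcomm E' hE' a (hK E' (hs hE') ha) z hz)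
      exact Subgroup.mem_centralizer_singleton_iff.1 (this hh)
    refine ⟨h * u, ?_, fun E' hE' => ?_⟩
    · refine mul_mem ((iSup₂_le fun E' hE' => le_iSup₂_of_le E' (Finset.mem_insert_of_mem hE') le_rfl :
        (⨆ E' ∈ s, K E') ≤ _) hh) ?_
      exact (le_iSup₂_of_le E (Finset.mem_insert_self E s) le_rfl : K E ≤ _) hu
    · rw [← conjBy_conjBy]
      rcases Finset.mem_insert.1 hE' with rfl | hE'
      · rw [hue]
        exact hfixed h _ fun z hz => hhc z (hf' E' hE hz)
      · rw [hfixed u (f E') fun z hz => (hcomm E' hE' z (hf E' (hs hE') hz) u (hK E hE hu)).symm]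
        exact hfix E' hE'

/-- An idempotent is determined by its range and its kernel. -/
theorem idem_eq {a b a' b' : M →ₗ[k] M} (h1 : a * b * a = a) (h2 : b * a * b = b) (h1' : a' * b' * a' = a')
    (hr : LinearMap.range a = LinearMap.range a') (hk : LinearMap.ker b = LinearMap.ker b') :
    a * b = a' * b' := by
  refine LinearMap.ext fun m => ?_
  obtain ⟨z, hz⟩ := hr.le (LinearMap.mem_range_self a (b m))
  have e1 : (a' * b') ((a * b) m) = (a * b) m := by
    rw [Module.End.mul_apply a b m, ← hz, ← Module.End.mul_apply (a' * b') a', h1']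
  have e2 : b' (m - (a * b) m) = 0 := LinearMap.mem_ker.1 (hk.le (by
    rw [LinearMap.mem_ker, map_sub, ← Module.End.mul_apply b, ← mul_assoc, h2, sub_self]))
  rw [map_sub, sub_eq_zero] at e2
  rw [← e1, Module.End.mul_apply a' b', Module.End.mul_apply a' b', e2]

end CfsgLib.EquivZJ
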