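import Cfsg.Agent.Lib.CFun.EquivZJ.Inert
import Cfsg.Agent.Lib.CFun.EquivZJ.Generation

/-!
# Every quadratic element has an opposite (Jacobson--Morozov)
-/

set_option autoImplicit false
set_option linter.style.haveILetI false
set_option linter.unusedSectionVars false

namespace CfsgLib.EquivZJ

open Cfsg hiding alpha
open CfsgLib.QuadPair CfsgLib.CoprimeQuad
open scoped MatrixGroups

variable {k : Type*} [Field k] {M : Type*} [AddCommGroup M] [Module k M] [FiniteDimensional k M]
variable {H : Subgroup (LinearMap.GeneralLinearGroup k M)} {p : ℕ}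
variable {q ε v : LinearMap.GeneralLinearGroup k M}

theorem orth0 {R : Type*} [Ring R] {P Q x z : R} (h : P * Q = 0) (hx : x * P = x) (hz : Q * z = z) :
    x * z = 0 := by
  rw [← hx, ← hz, mul_assoc, ← mul_assoc P, h, zero_mul, mul_zero]

theorem idem_l {R : Type*} [Ring R] {P X Z : R} (h : P * P = P) : P * (P * X * Z) = P * X * Z := by
  rw [← mul_assoc, ← mul_assoc, h]

theorem idem_r {R : Type*} [Ring R] {P X : R} (h : P * P = P) : X * P * P = X * P := by
  rw [mul_assoc, h]

theorem fam_of_val (C : Ctx p H) {u : LinearMap.GeneralLinearGroup k M} (hu : u ∈ H) {x : M →ₗ[k] M}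
    (hv : (u : M →ₗ[k] M) = 1 + x) (hx : x * x = 0) : HasFamily H x := by
  have e : alpha u = x := by simp [CfsgLib.QuadPair.alpha, hv]
  rw [← e]
  exact C.fam u hu (by rw [e, hx])

/-- The pieces of `c` along a decomposition. -/
structure Weights (H : Subgroup (LinearMap.GeneralLinearGroup k M)) (c e f r : M →ₗ[k] M) : Prop where
  T : OrthoTriple e f r
  ce : c * e = 0
  fc : f * c = 0
  crc : c * (r * c) = 0
  fam1 : HasFamily H (w1 e f r c)
  fam2 : HasFamily H (w2 e f c)

theorem weights_of [Finite k] (C : Ctx p H) (hqH : q ∈ H) (hq : alpha q * alpha q = 0)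
    (hεH : ε ∈ H) (hε : alpha ε * alpha ε = 0) (h : Opp H ε v)
    (hr : LinearMap.range (alpha ε) ≤ LinearMap.range (alpha q))
    (hk : LinearMap.ker (alpha q) ≤ LinearMap.ker (alpha ε)) :
    Weights H (alpha q) (alpha ε * alpha v) (alpha v * alpha ε)
      (1 - alpha ε * alpha v - alpha v * alpha ε) := by
  set c := alpha q with hcdef
  set a := alpha ε with hadef
  set b := alpha v with hbdef
  set e := a * b with he
  set f := b * a with hf
  set r := 1 - e - f with hr'
  have T : OrthoTriple e f r := orthoTriple_of_units hε h.sq h.left h.right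
  have hca : c * a = 0 := LinearMap.ext fun m => by
    obtain ⟨w, hw⟩ := hr (LinearMap.mem_range_self a m)
    rw [Module.End.mul_apply, ← hw, ← Module.End.mul_apply, hq, LinearMap.zero_apply, LinearMap.zero_apply]
  have hac : a * c = 0 := LinearMap.ext fun m => LinearMap.mem_ker.1
    (hk (LinearMap.mem_ker.2 (by rw [← Module.End.mul_apply, hq]; rfl)))
  have hce : c * e = 0 := by rw [he, ← mul_assoc, hca, zero_mul]
  have hfc : f * c = 0 := by rw [hf, mul_assoc, hac, mul_zero]
  have z1 : f * c * e = 0 := by rw [hfc, zero_mul]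
  have z2 : f * c * r = 0 := by rw [hfc, zero_mul]
  have z3 : r * c * e = 0 := by rw [mul_assoc, hce, mul_zero]
  have hcrc : c * (r * c) = 0 := by
    have e1 : c * r = c - c * f := by rw [hr', mul_sub, mul_sub, mul_one, hce, sub_zero]
    rw [← mul_assoc, e1, sub_mul, hq, mul_assoc, hfc, mul_zero, sub_zero]
  have a3 := T.rr; have a4 := T.pq; have a5 := T.qp
  have a6 := T.pr; have a7 := T.rp; have a8 := T.qr; have a9 := T.rq
  have b3 : ∀ x : M →ₗ[k] M, r * (r * x) = r * x := fun x => by rw [← mul_assoc, a3]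
  have b4 : ∀ x : M →ₗ[k] M, e * (f * x) = 0 := fun x => by rw [← mul_assoc, a4, zero_mul]
  have b5 : ∀ x : M →ₗ[k] M, f * (e * x) = 0 := fun x => by rw [← mul_assoc, a5, zero_mul]
  have b6 : ∀ x : M →ₗ[k] M, e * (r * x) = 0 := fun x => by rw [← mul_assoc, a6, zero_mul]
  have b7 : ∀ x : M →ₗ[k] M, r * (e * x) = 0 := fun x => by rw [← mul_assoc, a7, zero_mul]
  have b8 : ∀ x : M →ₗ[k] M, f * (r * x) = 0 := fun x => by rw [← mul_assoc, a8, zero_mul]
  have b9 : ∀ x : M →ₗ[k] M, r * (f * x) = 0 := fun x => by rw [← mul_assoc, a9, zero_mul]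
  have hcrc' : ∀ x : M →ₗ[k] M, c * (r * (c * x)) = 0 := fun x => by
    rw [← mul_assoc r, ← mul_assoc, hcrc, zero_mul]
  have hw₀ : w0 e f r c = r * c * r := by
    rw [w0, mul_assoc e c e, hce, mul_zero, hfc, zero_mul, zero_add, add_zero]
  set w₂ := w2 e f c with hw₂
  set w₁ := w1 e f r c with hw₁
  set w₀ := r * c * r with hw₀'
  obtain ⟨p22, p21, p20, p12, p11, p10, p02, p01, p00⟩ :
      w₂ * w₂ = 0 ∧ w₂ * w₁ = 0 ∧ w₂ * w₀ = 0 ∧ w₁ * w₂ = 0 ∧ w₁ * w₁ = 0 ∧ w₁ * w₀ = 0 ∧
      w₀ * w₂ = 0 ∧ w₀ * w₁ = 0 ∧ w₀ * w₀ = 0 := by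
    refine ⟨?_, ?_, ?_, ?_, ?_, ?_, ?_, ?_, ?_⟩ <;>
      simp only [hw₂, hw₁, hw₀', w2, w1, add_mul, mul_add, mul_assoc, b3, b4, b5, b6, b7, b8, b9, hcrc', hcrc,
        mul_zero, add_zero]
  have hdec : c = w₂ + w₁ + w₀ := by rw [← hw₀]; exact decomp T z1 z2 z3
  -- the elements coming from the torus
  have hfam : ∀ (s : k), s ≠ 0 → ∃ u ∈ H, (u : M →ₗ[k] M) = 1 + ((s * s - 1) • w₂ + (s - 1) • w₁) := by
    intro s hs
    set t := torus hε h s hs
    refine ⟨t * q * t⁻¹ * q⁻¹, mul_mem (mul_mem (mul_mem (C.torus_mem hεH hε h s hs) hqH)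
      (inv_mem (C.torus_mem hεH hε h s hs))) (inv_mem hqH), ?_⟩
    have ec : alpha (t * q * t⁻¹) = (s * s) • w₂ + s • w₁ + w₀ := by
      rw [alpha_conjEnd, conjEnd, torus_inv]
      show (unitsHom hε h.sq h.left h.right _ : M →ₗ[k] M) * c *
        (unitsHom hε h.sq h.left h.right _ : M →ₗ[k] M) = _
      rw [unitsHom_diag_val, unitsHom_diag_val, inv_inv, conj_eq T z1 z2 z3 hs, graded, hw₀]
    rw [Units.val_mul, alpha_add_one (t * q * t⁻¹), ec, inv_val_sub hq, ← hcdef, hdec]
    simp only [add_mul, mul_add, mul_sub, one_mul, mul_one, smul_mul_assoc, p22, p21, p20,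
      p12, p11, p10, p02, p01, p00, smul_zero, add_zero]
    module
  have h1 : HasFamily H w₁ := by
    obtain ⟨u, hu, eu⟩ := hfam (-1) (neg_ne_zero.2 one_ne_zero)
    refine hasFamily_of_smul (s := (-1 : k) - 1) (fun e0 => C.setting.two_ne (by linear_combination -e0))
      (fam_of_val C hu (by rw [eu, neg_mul_neg, one_mul, sub_self, zero_smul, zero_add]) (smul_sq p11 _))
  refine ⟨T, hce, hfc, hcrc, h1, ?_⟩
  obtain ⟨s, hs, hs2, -, -⟩ := exists_torus_scalar C.setting
  obtain ⟨u, hu, eu⟩ := hfam s hs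
  obtain ⟨u1, hu1, eu1⟩ := h1 (-(s - 1))
  refine hasFamily_of_smul (s := s * s - 1) (sub_ne_zero.2 hs2) (fam_of_val C (mul_mem hu hu1) ?_ (smul_sq p22 _))
  rw [Units.val_mul, eu, eu1]
  simp only [add_mul, mul_add, one_mul, mul_one, smul_mul_assoc, mul_smul_comm, p21, p11, smul_zero, add_zero]
  module

theorem swap_w1 {c e f r : M →ₗ[k] M} (W : Weights H c e f r) {x y : M →ₗ[k] M}
    (hex : e * x = x) (hxf : x * f = x) (hfy : f * y = y) (hye : y * e = y) :
    (r + x - y) * w1 e f r c * (r - x + y) = w1 e f r c * y - y * w1 e f r c := by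
  have T := W.T
  set A := e * c * r with hA
  set B := r * c * f with hB
  have eA : e * A = A := idem_l T.pp
  have Ar : A * r = A := idem_r T.rr
  have rB : r * B = B := idem_l T.rr
  have Bf : B * f = B := idem_r T.qq
  have rA : r * A = 0 := by rw [← eA, ← mul_assoc, T.rp, zero_mul]
  have xA : x * A = 0 := orth0 T.qp hxf eA
  have xB : x * B = 0 := orth0 T.qr hxf rB
  have yB : y * B = 0 := orth0 T.pr hye rB
  have Br : B * r = 0 := by rw [← Bf, mul_assoc, T.qr, mul_zero]
  have Bx : B * x = 0 := orth0 T.qp Bf hex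
  have Ax : A * x = 0 := orth0 T.rp Ar hex
  have Ay : A * y = 0 := orth0 T.rq Ar hfy
  show (r + x - y) * (A + B) * (r - x + y) = (A + B) * y - y * (A + B)
  have h1 : (r + x - y) * (A + B) = B - y * A := by
    simp only [add_mul, sub_mul, mul_add, rA, rB, xA, xB, yB]
    abel
  rw [h1]
  simp only [sub_mul, mul_sub, mul_add, add_mul, mul_assoc, Br, Bx, Ax, Ay, Ar, yB, mul_zero]
  abel

/-- The swap conjugates the piece of weight one into `H`. -/
theorem fam_swap (C : Ctx p H) {c e f r : M →ₗ[k] M} (W : Weights H c e f r) {x y : M →ₗ[k] M}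
    (hex : e * x = x) (hxf : x * f = x) (hfy : f * y = y) (hye : y * e = y)
    (hxy : x * y = e) (hyx : y * x = f) (hx : HasFamily H x) (hy : HasFamily H y) :
    HasFamily H (w1 e f r c * y - y * w1 e f r c) := by
  have T := W.T
  have xx : x * x = 0 := orth0 T.qp hxf hex
  have yy : y * y = 0 := orth0 T.pq hye hfy
  have hu := mem_oneAdd_of_family' xx hx
  have h : Opp H (oneAdd x xx) (oneAdd y yy) := by
    refine ⟨mem_oneAdd_of_family' yy hy, ?_, ?_, ?_⟩ <;> simp only [alpha_oneAdd]
    · exact yy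
    · rw [hxy, hex]
    · rw [hyx, hfy]
  have hsq : alpha (oneAdd x xx) * alpha (oneAdd x xx) = 0 := by rw [alpha_oneAdd]; exact xx
  have hr : r = 1 - e - f := by rw [← T.sum]; abel
  set w := oneAdd x xx * (oneAdd y yy)⁻¹ * oneAdd x xx
  have hw : w ∈ H := mul_mem (mul_mem hu (inv_mem h.mem)) hu
  have := W.fam1.conj (Subgroup.le_normalizer hw)
  rw [conjEnd, swap_val hsq h, swap_inv_val hsq h] at this
  simp only [alpha_oneAdd, hxy, hyx, ← hr] at this
  rwa [swap_w1 W hex hxf hfy hye] at this

variable [Finite k]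

/-- A nonzero piece of weight two yields a reduction. -/
theorem reduction_of_top (C : Ctx p H) (hqH : q ∈ H) (hq : alpha q * alpha q = 0)
    (hε : ε ∈ minimalQuadraticElements H) (h : Opp H ε v)
    (hr : LinearMap.range (alpha ε) ≤ LinearMap.range (alpha q))
    (hk : LinearMap.ker (alpha q) ≤ LinearMap.ker (alpha ε))
    (htop : alpha v * alpha q * alpha v ≠ 0) :
    ∃ y, y * y = 0 ∧ y ≠ 0 ∧ y * alpha q * y = y ∧ HasFamily H y ∧ HasFamily H (alpha q * y * alpha q) := by
  have hv := h.minimal C hε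
  have W := weights_of C hqH hq hε.1.1 (sq_of_min hε) h hr hk
  have fr := isFrame_of_opposite C.setting.two_ne C.setting.card_ne hε hv h.left h.right
  set c := alpha q with hcdef
  set a := alpha ε with hadef
  set b := alpha v with hbdef
  set e := a * b with he
  set f := b * a with hf
  set r := 1 - e - f with hr'
  have T := W.T
  set A := e * c * r with hA
  set B := r * c * f with hB
  set x := e * c * f with hx
  have hex : e * x = x := idem_l T.pp
  have hxf : x * f = x := idem_r T.qq
  have hxR : x ∈ actSpace H ε (sq_of_min hε) := (fr.memR x).2 ⟨hex, hxf, W.fam2⟩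
  have hx0 : x ≠ 0 := by
    intro h0
    refine htop ?_
    have : b * x * b = b * c * b := by
      rw [hx, he, hf, show b * (a * b * c * (b * a)) * b = (b * a * b) * c * (b * a * b) by noncomm_ring,
        show b * a * b = b from h.right]
    rw [← this, h0, mul_zero, zero_mul]
  obtain ⟨y, hyB, hxy, hyx⟩ := fr.invR x hxR hx0
  obtain ⟨hfy, hye, hyfam⟩ := (fr.memB y).1 hyB
  have eA : e * A = A := idem_l T.pp
  have Ar : A * r = A := idem_r T.rr
  have rB : r * B = B := idem_l T.rr
  have Bf : B * f = B := idem_r T.qq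
  have yy : y * y = 0 := orth0 T.pq hye hfy
  have yB : y * B = 0 := orth0 T.pr hye rB
  have Ay : A * y = 0 := orth0 T.rq Ar hfy
  have AB : A * B = 0 := by
    rw [hA, hB, show e * c * r * (r * c * f) = e * (c * ((r * r) * c)) * f by noncomm_ring, T.rr, W.crc]
    simp
  have BB : B * B = 0 := orth0 T.qr Bf rB
  have xB : x * B = 0 := orth0 T.qr hxf rB
  have Ax : A * x = 0 := orth0 T.rp Ar hex
  have hec : e * c = x + A := by
    rw [hx, hA, ← mul_add]
    conv_lhs => rw [← mul_one (e * c), ← T.sum, add_assoc, mul_add, mul_assoc e c e, W.ce, mul_zero, zero_add]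
  have hcf : c * f = x + B := by
    rw [hx, hB]
    conv_lhs => rw [← one_mul c, ← T.sum, add_right_comm, add_mul (e + r) f, W.fc, add_zero, add_mul e r, add_mul]
  have hy' : f * y * e = y := by rw [hfy, hye]
  have hcyc : c * y * c = x + A + (B + B * (y * A)) := by
    calc c * y * c = (c * f) * y * (e * c) := by
          conv_lhs => rw [← hy']
          simp only [mul_assoc]
      _ = _ := by
          rw [hec, hcf]
          simp only [add_mul, mul_add, mul_assoc]
          rw [show x * (y * x) = x by rw [hyx, hxf],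
            show x * (y * A) = A by rw [← mul_assoc, hxy, eA],
            show B * (y * x) = B by rw [hyx, Bf]]
          abel
  refine ⟨y, yy, fun h0 => hx0 ?_, ?_, hyfam, ?_⟩
  · rw [← hex, ← hxy, h0, mul_zero, zero_mul]
  · calc y * c * y = (y * e) * c * (f * y) := by rw [hye, hfy]
      _ = y * x * y := by rw [hx]; simp only [mul_assoc]
      _ = y := by rw [hyx, hfy]
  · have hY := (fam_swap C W hex hxf hfy hye hxy hyx W.fam2 hyfam).neg
    set Y := -(w1 e f r c * y - y * w1 e f r c) with hYdef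
    have hY' : Y = y * A - B * y := by
      rw [hYdef]
      show -((A + B) * y - y * (A + B)) = _
      rw [add_mul, mul_add, Ay, yB]
      abel
    have YY : Y * Y = 0 := by
      rw [hY', show (y * A - B * y) * (y * A - B * y) =
        y * (A * y) * A - y * (A * B) * y - B * (y * y) * A + B * (y * B) * y by noncomm_ring, Ay, AB, yy, yB]
      simp
    have xY : x * Y = A := by
      rw [hY', mul_sub, ← mul_assoc, hxy, eA, ← mul_assoc, xB, zero_mul, sub_zero]
    have Yx : Y * x = -B := by
      rw [hY', sub_mul, mul_assoc, Ax, mul_zero, zero_sub, mul_assoc, hyx, Bf]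
    have BY : B * Y = B * (y * A) := by
      rw [hY', mul_sub, ← mul_assoc B B, BB, zero_mul, sub_zero]
    have xx : x * x = 0 := orth0 T.qp hxf hex
    have hgY := mem_oneAdd_of_family' YY hY
    refine fam_of_val C (mul_mem (mul_mem (inv_mem hgY) (mem_oneAdd_of_family' xx W.fam2)) hgY) ?_ ?_
    · show (1 - Y) * (1 + x) * (1 + Y) = 1 + c * y * c
      rw [show (1 - Y) * (1 + x) * (1 + Y) = 1 + x + x * Y - Y * x - Y * Y - Y * x * Y by noncomm_ring,
        xY, Yx, YY, neg_mul, BY, hcyc]
      abel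
    · rw [show c * y * c * (c * y * c) = c * y * (c * c) * y * c by noncomm_ring, hq]
      simp

/-- Some quadratic element below `q` is split off. -/
theorem exists_reduction (C : Ctx p H) (hqH : q ∈ H) (hq : alpha q * alpha q = 0)
    (hε : ε ∈ minimalQuadraticElements H) (hr : LinearMap.range (alpha ε) ≤ LinearMap.range (alpha q))
    (hk : LinearMap.ker (alpha q) ≤ LinearMap.ker (alpha ε)) :
    ∃ y, y * y = 0 ∧ y ≠ 0 ∧ y * alpha q * y = y ∧ HasFamily H y ∧ HasFamily H (alpha q * y * alpha q) := by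
  haveI := finite_gl (k := k) (M := M)
  obtain ⟨v, h⟩ := exists_root_opp C hε
  by_cases htop : alpha v * alpha q * alpha v ≠ 0
  · exact reduction_of_top C hqH hq hε h hr hk htop
  push Not at htop
  have hv := h.minimal C hε
  have W := weights_of C hqH hq hε.1.1 (sq_of_min hε) h hr hk
  set c := alpha q with hcdef
  set a := alpha ε with hadef
  set b := alpha v with hbdef
  set e := a * b with he
  set f := b * a with hf
  set r := 1 - e - f with hr'
  have T := W.T
  set A := e * c * r with hA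
  set B := r * c * f with hB
  have hea : e * a = a := h.left
  have haf : a * f = a := by rw [hf, ← mul_assoc]; exact h.left
  have hfb : f * b = b := h.right
  have hbe : b * e = b := by rw [he, ← mul_assoc]; exact h.right
  have eA : e * A = A := idem_l T.pp
  have Ar : A * r = A := idem_r T.rr
  have rB : r * B = B := idem_l T.rr
  have Bf : B * f = B := idem_r T.qq
  have hbb : b * b = 0 := h.sq
  have bB : b * B = 0 := orth0 T.pr hbe rB
  have Ab : A * b = 0 := orth0 T.rq Ar hfb
  have rb : r * b = 0 := by rw [← hfb, ← mul_assoc, T.rq, zero_mul]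
  have br : b * r = 0 := by rw [← hbe, mul_assoc, T.pr, mul_zero]
  have AB : A * B = 0 := by
    rw [hA, hB, show e * c * r * (r * c * f) = e * (c * ((r * r) * c)) * f by noncomm_ring, T.rr, W.crc]
    simp
  have hecf : e * c * f = 0 := by
    rw [he, hf, show a * b * c * (b * a) = a * (b * c * b) * a by noncomm_ring, htop]; simp
  have hec : e * c = A := by
    conv_lhs => rw [← mul_one (e * c), ← T.sum, mul_add, mul_add, mul_assoc e c e, W.ce, mul_zero, hecf,
      zero_add, zero_add]
  have hcf : c * f = B := by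
    conv_lhs => rw [← one_mul c, ← T.sum, add_mul (e + f) r c, add_mul e f c, W.fc, add_zero, add_mul, hecf, zero_add]
  -- the new root `D` below `q`
  set D := c * b * c with hD
  have hDD : D * D = 0 := by
    rw [hD, show c * b * c * (c * b * c) = c * b * (c * c) * b * c by noncomm_ring, hq]; simp
  have hDBA : D = B * b * A := by
    rw [hD, ← hcf, ← hec]
    conv_lhs => rw [← hfb, mul_assoc c (f * b), mul_assoc f b, ← mul_assoc c f]
    conv_lhs => rw [← hbe]
    simp only [mul_assoc]
  have ww : w1 e f r c * w1 e f r c = 0 := by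
    show (A + B) * (A + B) = 0
    rw [show (A + B) * (A + B) = A * A + A * B + B * A + B * B by noncomm_ring, AB,
      orth0 T.rp Ar eA, orth0 T.qp Bf eA, orth0 T.qr Bf rB]
    simp
  have hYfam := fam_swap C W hea haf hfb hbe he.symm hf.symm (C.fam ε hε.1.1 (sq_of_min hε))
    (C.fam v h.mem h.sq)
  set Y := w1 e f r c * b - b * w1 e f r c with hYdef
  have hY' : Y = B * b - b * A := by
    rw [hYdef]
    show (A + B) * b - b * (A + B) = _
    rw [add_mul, mul_add, Ab, bB]
    abel
  have YY : Y * Y = 0 := by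
    rw [hY', show (B * b - b * A) * (B * b - b * A) =
      B * (b * B) * b - B * (b * b) * A - b * (A * B) * b + b * (A * b) * A by noncomm_ring, bB, hbb, AB, Ab]
    simp
  have bD : b * D = 0 := by
    rw [hDBA, show b * (B * b * A) = b * B * b * A by simp only [mul_assoc], bB]; simp
  have Db : D * b = 0 := by rw [hDBA, mul_assoc, Ab, mul_zero]
  have DY : D * Y = 0 := by
    rw [hY', mul_sub, ← mul_assoc D b, Db, zero_mul, sub_zero, hDBA, mul_assoc (B * b), ← mul_assoc A, AB]
    simp
  have YD : Y * D = 0 := by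
    rw [hY', sub_mul, mul_assoc, bD, mul_zero, zero_sub, hDBA, mul_assoc, ← mul_assoc A, ← mul_assoc A, AB]
    simp
  have hDfam : HasFamily H D := by
    have m1 := mem_oneAdd_of_family' ww W.fam1
    have m3 := mem_oneAdd_of_family' YY hYfam
    refine hasFamily_of_smul (s := (-1 : k)) (neg_ne_zero.2 one_ne_zero) (fam_of_val C
      (mul_mem (mul_mem (mul_mem (mul_mem m1 h.mem) (inv_mem m1)) (inv_mem h.mem)) (inv_mem m3)) ?_ ?_)
    · rw [Units.val_mul, Units.val_mul, Units.val_mul, Units.val_mul, inv_val_sub h.sq, alpha_add_one v, ← hbdef]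
      show (1 + w1 e f r c) * (1 + b) * (1 - w1 e f r c) * (1 - b) * (1 - Y) = 1 + (-1 : k) • D
      rw [show (1 + w1 e f r c) * (1 + b) * (1 - w1 e f r c) =
        1 + b + Y - w1 e f r c * w1 e f r c - w1 e f r c * b * w1 e f r c by rw [hYdef]; noncomm_ring, ww,
        show w1 e f r c * b * w1 e f r c = D by
          show (A + B) * b * (A + B) = D
          rw [add_mul, Ab, zero_add, mul_add, mul_assoc B b B, bB, mul_zero, add_zero, hDBA],
        show (1 + b + Y - 0 - D) * (1 - b) * (1 - Y) =
          1 - D + (D * b - b * b - Y * b) + (D * Y - Y * Y) + ((Y * b + b * b) - D * b) * Y by noncomm_ring,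
        Db, hbb, DY, YY, show Y * b = 0 by rw [hY', sub_mul, mul_assoc, hbb, mul_zero, mul_assoc, Ab]; simp]
      simp [sub_eq_add_neg]
    · exact smul_sq hDD _
  have hD0 : D ≠ 0 := by
    intro h0
    have h1 : B * b * a = 0 := LinearMap.ext fun m => by
      obtain ⟨m', hm'⟩ := hr (LinearMap.mem_range_self a m)
      have : a m = A m' := by
        rw [← hec, Module.End.mul_apply, hm', ← Module.End.mul_apply e a, hea]
      rw [Module.End.mul_apply, this, ← Module.End.mul_apply, ← hDBA, h0]
      simp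
    have hB0 : c * f = 0 := by rw [hcf, ← Bf, hf, ← mul_assoc, h1]
    refine alpha_ne_zero hε (show a = 0 from ?_)
    rw [← haf]
    exact LinearMap.ext fun m => LinearMap.mem_ker.1 (hk (LinearMap.congr_fun hB0 m))
  set β := oneAdd D hDD with hβdef
  have haβ : alpha β = D := alpha_oneAdd hDD
  have hβ : β ∈ minimalQuadraticElements H := minimal_of_family hv hDD hD0
    (fun s => mem_oneAdd_of_family hDD hDfam s) (by
      rw [hD, Module.End.mul_eq_comp (c * b), LinearMap.range_comp]
      refine (Submodule.finrank_mono (Submodule.map_mono le_top)).trans ?_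
      rw [Submodule.map_top, Module.End.mul_eq_comp, LinearMap.range_comp]
      exact Submodule.finrank_map_le _ _)
  have hrβ : LinearMap.range (alpha β) ≤ LinearMap.range c := by
    rw [haβ, hD, mul_assoc]; exact LinearMap.range_comp_le_range _ _
  have hkβ : LinearMap.ker c ≤ LinearMap.ker (alpha β) := fun m hm => by
    rw [haβ, LinearMap.mem_ker, hD, Module.End.mul_apply, show c m = 0 from hm, map_zero]
  -- an opposite of `β` fixed by the torus
  obtain ⟨v1, h1⟩ := exists_root_opp C hβ
  obtain ⟨s, hs, hs2, -, hsp⟩ := exists_torus_scalar C.setting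
  set t := torus (sq_of_min hε) h s hs with htdef
  have eD : e * D = 0 ∧ D * e = 0 ∧ f * D = 0 ∧ D * f = 0 := by
    refine ⟨?_, ?_, ?_, ?_⟩ <;> rw [hDBA]
    · rw [← rB]; simp only [← mul_assoc, T.pr, zero_mul]
    · rw [← Ar]; simp only [mul_assoc, T.rp, mul_zero]
    · rw [← rB]; simp only [← mul_assoc, T.qr, zero_mul]
    · rw [← Ar]; simp only [mul_assoc, T.rq, mul_zero]
  have htβ : t * β = β * t := comm_of_conjEnd (conjEnd_eq_iff.2 (by
    rw [htdef, torus_val, haβ]
    simp only [add_mul, mul_add, one_mul, mul_one, smul_mul_assoc, mul_smul_comm, ← hadef, ← hbdef, ← he, ← hf,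
      eD.1, eD.2.1, eD.2.2.1, eD.2.2.2]))
  have hcop : (Nat.card (Subgroup.zpowers t)).Coprime p := by
    rw [Nat.card_zpowers]
    refine Nat.Coprime.coprime_dvd_left (orderOf_dvd_of_pow_eq_one (torus_pow_eq_one _ h hs hsp)) ?_
    exact ((Nat.coprime_self_sub_right C.setting.prime.pos).2 (Nat.coprime_one_right p)).symm
  obtain ⟨u, -, hopp, hfix⟩ := exists_fixed_opp C hβ.1.1 (sq_of_min hβ) (alpha_ne_zero hβ) h1
    (A := Subgroup.zpowers t)
    ((Subgroup.zpowers_le.2 (C.torus_mem hε.1.1 (sq_of_min hε) h s hs)).trans Subgroup.le_normalizer)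
    hcop (CfsgLib.Coprime.isSolvable_of_isMulCommutative inferInstance) fun x hx => by
      obtain ⟨n, rfl⟩ := (mem_powers_iff_mem_zpowers).2 hx
      exact flagStable_of_comm ((show Commute t β from htβ).pow_left n).eq
  obtain ⟨f1, f2⟩ := hfix t (Subgroup.mem_zpowers t)
  set v2 := u * v1 * u⁻¹
  set d := alpha v2 with hddef
  have hd : conjEnd t d = (1 : k)⁻¹ • d := conjEnd_opp hopp one_ne_zero
    (by rw [one_smul]; exact conjEnd_of_comm htβ) f1 f2
  rw [inv_one, one_smul] at hd
  obtain ⟨de, df⟩ := comm_idem_of_comm_torus (sq_of_min hε) h hs hs2 (g := d) (conjEnd_eq_iff.1 hd).symm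
  simp only [← hadef, ← hbdef, ← he, ← hf] at de df
  have hdDd : d * D * d = d := by have := hopp.right; rwa [haβ] at this
  have de0 : d * e = 0 := by
    conv_lhs => rw [← hdDd, mul_assoc, de, ← mul_assoc, mul_assoc d, eD.2.1]
    simp
  have df0 : d * f = 0 := by
    conv_lhs => rw [← hdDd, mul_assoc, df, ← mul_assoc, mul_assoc d, eD.2.2.2]
    simp
  have rd : r * d = d := by rw [hr', sub_mul, sub_mul, one_mul, ← de, ← df, de0, df0, sub_zero, sub_zero]
  have dr : d * r = d := by rw [hr', mul_sub, mul_sub, mul_one, de0, df0, sub_zero, sub_zero]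
  by_cases hdcd : d * c * d ≠ 0
  · exact reduction_of_top C hqH hq hβ hopp hrβ hkβ hdcd
  push Not at hdcd
  set g := oneAdd Y YY
  have hgβ : g * β * g⁻¹ = β := by
    rw [mul_inv_eq_iff_eq_mul]
    refine Units.ext ?_
    show (1 + Y) * (1 + D) = (1 + D) * (1 + Y)
    simp only [mul_add, add_mul, one_mul, mul_one, YD, DY]
    abel
  have hopp' := hopp.conj (Subgroup.le_normalizer (mem_oneAdd_of_family' YY hYfam))
  rw [hgβ] at hopp'
  refine reduction_of_top C hqH hq hβ hopp' hrβ hkβ fun h0 => ?_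
  have hd' : alpha (g * v2 * g⁻¹) = (1 + Y) * d * (1 - Y) := by rw [alpha_conjEnd]; rfl
  rw [hd'] at h0
  have rY : r * Y = B * b := by rw [hY', mul_sub, ← mul_assoc, rB, ← mul_assoc, rb, zero_mul, sub_zero]
  have Yr : Y * r = -(b * A) := by rw [hY', sub_mul, mul_assoc, br, mul_zero, zero_sub, mul_assoc, Ar]
  have hmid : d * ((1 - Y) * c * (1 + Y)) * d = -(2 : k) • d := by
    have m1 : r * c * Y * r = -D := by
      rw [mul_assoc, Yr, mul_neg, hDBA, show r * c * (b * A) = r * (c * (f * b)) * A by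
        rw [hfb]; simp only [mul_assoc], ← mul_assoc c f, hcf, ← mul_assoc r B b, rB]
    have m2 : r * Y * c * r = D := by
      rw [rY, hDBA]
      conv_lhs => rw [← hbe]
      rw [hA]
      simp only [mul_assoc]
    have m3 : r * Y * c * Y * r = 0 := by
      rw [mul_assoc (r * Y * c), Yr, rY, mul_neg,
        show B * b * c * (b * A) = B * (b * c * b) * A by noncomm_ring, htop]
      simp
    calc d * ((1 - Y) * c * (1 + Y)) * d
        = d * c * d + d * r * c * Y * (r * d) - d * r * Y * c * (r * d) - d * r * Y * c * Y * (r * d) := by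
          rw [rd, dr]; noncomm_ring
      _ = d * c * d + d * (r * c * Y * r) * d - d * (r * Y * c * r) * d - d * (r * Y * c * Y * r) * d := by
          noncomm_ring
      _ = _ := by rw [m1, m2, m3, hdcd, mul_neg, neg_mul, hdDd, mul_zero, zero_mul]; module
  have e1 : (1 + Y) * d * (1 - Y) * c * ((1 + Y) * d * (1 - Y)) = -(2 : k) • ((1 + Y) * d * (1 - Y)) := by
    rw [show (1 + Y) * d * (1 - Y) * c * ((1 + Y) * d * (1 - Y)) =
      (1 + Y) * (d * ((1 - Y) * c * (1 + Y)) * d) * (1 - Y) by noncomm_ring, hmid, mul_smul_comm, smul_mul_assoc]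
  rw [e1, ← hd'] at h0
  exact hopp'.ne_zero (alpha_ne_zero hβ)
    ((smul_eq_zero.1 h0).resolve_left (neg_ne_zero.2 C.setting.two_ne))

theorem exists_opp_aux : ∀ (n m : ℕ) (H : Subgroup (LinearMap.GeneralLinearGroup k M)), Ctx p H → Nat.card H ≤ n →
    ∀ q ∈ H, alpha q * alpha q = 0 → alpha q ≠ 0 →
      Module.finrank k (LinearMap.range (alpha q)) ≤ m → ∃ v, Opp H q v := by
  intro n
  induction n using Nat.strong_induction_on with
  | _ n ihn =>
  intro m
  induction m using Nat.strong_induction_on with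
  | _ m ihm =>
  intro H C hn q hqH hq hq0 hm
  classical
  haveI := finite_gl (k := k) (M := M)
  haveI : Fact p.Prime := ⟨C.setting.prime⟩
  have hqq := C.quad hqH hq hq0
  by_cases hall : ∀ d ∈ minimalQuadraticElements H, alpha q * alpha d * alpha q = 0
  · obtain ⟨σ, hσ⟩ := exists_minimal ⟨q, hqq⟩
    set K := H ⊓ Subgroup.centralizer (minimalQuadraticElements H) with hK
    have hqK : q ∈ K := ⟨hqH, Subgroup.mem_centralizer_iff.2 fun d hd => by
      refine Units.ext ?_
      rw [Units.val_mul, Units.val_mul, alpha_add_one q, alpha_add_one d]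
      have := inert_commute_of_core C hqq hall hd
      simp only [mul_add, add_mul, one_mul, mul_one, this]
      abel⟩
    have hKn : H ≤ Subgroup.normalizer (K : Set (LinearMap.GeneralLinearGroup k M)) := by
      have key : ∀ g ∈ H, ∀ z ∈ K, g * z * g⁻¹ ∈ K := fun g hg z hz =>
        ⟨H.mul_mem (H.mul_mem hg hz.1) (H.inv_mem hg), Subgroup.mem_centralizer_iff.2 fun d hd => by
          have hgi : g⁻¹ ∈ H := inv_mem hg
          have := Subgroup.mem_centralizer_iff.1 hz.2 _ (conj_mem_minimal hgi hd)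
          rw [inv_inv] at this
          calc d * (g * z * g⁻¹) = g * (g⁻¹ * d * g * z) * g⁻¹ := by group
            _ = g * (z * (g⁻¹ * d * g)) * g⁻¹ := by rw [this]
            _ = g * z * g⁻¹ * d := by group⟩
      intro g hg
      rw [Subgroup.mem_normalizer_iff]
      refine fun z => ⟨key g hg z, fun hz => ?_⟩
      have := key g⁻¹ (inv_mem hg) _ hz
      simpa [mul_assoc] using this
    have hσK : σ ∉ K := by
      intro hσK
      obtain ⟨v, h⟩ := exists_root_opp C hσ
      have := Subgroup.mem_centralizer_iff.1 hσK.2 v (h.minimal C hσ)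
      have hb := bracket_of_comm this
      rw [bracket, sub_eq_zero] at hb
      refine alpha_ne_zero hσ ?_
      rw [← h.left, ← hb, mul_assoc, sq_of_min hσ, mul_zero]
    have hlt : Nat.card K < Nat.card H := by
      refine lt_of_le_of_ne (Subgroup.card_le_of_le inf_le_left) fun e => hσK ?_
      rw [hK, Subgroup.eq_of_le_of_card_ge inf_le_left e.ge]
      exact hσ.1.1
    obtain ⟨v, hv⟩ := ihn (Nat.card K) (lt_of_lt_of_le hlt hn) _ K
      (C.sub (pCore_eq_bot_of_normal inf_le_left hKn C.core)) le_rfl q hqK hq hq0 le_rfl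
    exact ⟨v, hv.mono inf_le_left⟩
  push Not at hall
  obtain ⟨σ, hσ, hσq⟩ := hall
  obtain ⟨ε, hε, hr, hk⟩ := exists_member_below C.setting.two_ne C.setting.card_ne hqq hσ hσq
  obtain ⟨y, yy, y0, ycy, yfam, cfam⟩ := exists_reduction C hqH hq hε hr hk
  set c := alpha q with hcdef
  set c' := c * y * c with hc'
  have cc' : c * c' = 0 := by rw [hc', ← mul_assoc, ← mul_assoc, hq, zero_mul, zero_mul]
  have c'c : c' * c = 0 := by rw [hc', mul_assoc, hq, mul_zero]
  have c'c' : c' * c' = 0 := by rw [hc', mul_assoc (c * y) c, ← hc', cc', mul_zero]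
  have yc'y : y * c' * y = y := by
    rw [hc', show y * (c * y * c) * y = y * c * y * c * y by noncomm_ring, ycy, ycy]
  have c'yc' : c' * y * c' = c' := by
    rw [hc', show c * y * c * y * (c * y * c) = c * (y * c * y * c * y) * c by noncomm_ring, ycy, ycy]
  set ε' := oneAdd c' c'c'
  set η := oneAdd y yy
  have hε'H : ε' ∈ H := mem_oneAdd_of_family' c'c' cfam
  have hηH : η ∈ H := mem_oneAdd_of_family' yy yfam
  have hε'sq : alpha ε' * alpha ε' = 0 := by rw [alpha_oneAdd]; exact c'c'
  have hopp : Opp H ε' η := by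
    refine ⟨hηH, ?_, ?_, ?_⟩ <;> simp only [ε', η, alpha_oneAdd]
    · exact yy
    · exact c'yc'
    · exact yc'y
  set z := c - c' with hz
  rcases eq_or_ne z 0 with hz0 | hz0
  · refine ⟨η, hηH, ?_, ?_, ?_⟩ <;> simp only [η, alpha_oneAdd, ← hcdef]
    · exact yy
    · exact (sub_eq_zero.1 hz0).symm
    · exact ycy
  have zy : z * y = 0 := by
    rw [hz, hc', sub_mul, show c * y * c * y = c * (y * c * y) by noncomm_ring, ycy, sub_self]
  have yz : y * z = 0 := by
    rw [hz, hc', mul_sub, show y * (c * y * c) = y * c * y * c by noncomm_ring, ycy, sub_self]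
  have zc' : z * c' = 0 := by rw [hz, sub_mul, cc', c'c', sub_zero]
  have c'z : c' * z = 0 := by rw [hz, mul_sub, c'c, c'c', sub_zero]
  have zz : z * z = 0 := by rw [hz, mul_sub, sub_mul, sub_mul, hq, c'c, cc', c'c', sub_self]
  set ζ := oneAdd z zz
  have hζ : ζ ∈ H := by
    have : ζ = q * ε'⁻¹ := Units.ext (by
      rw [Units.val_mul, alpha_add_one q, ← hcdef]
      show 1 + z = (1 + c) * (1 - c')
      rw [hz, mul_sub, add_mul, add_mul, one_mul, one_mul, mul_one, cc']
      abel)
    rw [this]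
    exact mul_mem hqH (inv_mem hε'H)
  have hζa : alpha ζ = z := alpha_oneAdd zz
  have hlt : Module.finrank k (LinearMap.range (alpha ζ)) < Module.finrank k (LinearMap.range c) := by
    rw [hζa]
    set P := 1 - c * y with hP
    have hzP : z = P * c := by rw [hz, hc', hP, sub_mul, one_mul]
    have hPc' : P * c' = 0 := by
      rw [hc', ← mul_assoc, hP, show (1 - c * y) * (c * y) = c * y - c * (y * c * y) by noncomm_ring, ycy,
        sub_self, zero_mul]
    rw [hzP, Module.End.mul_eq_comp, LinearMap.range_comp]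
    have h4 := LinearMap.finrank_range_add_finrank_ker (P.domRestrict (LinearMap.range c))
    rw [LinearMap.range_domRestrict] at h4
    obtain ⟨m, hm⟩ : ∃ m, c' m ≠ 0 := by
      by_contra hno
      push Not at hno
      exact y0 (by rw [← yc'y, show c' = 0 from LinearMap.ext hno, mul_zero, zero_mul])
    have h5 : (⟨c' m, ⟨y (c m), rfl⟩⟩ : LinearMap.range c) ∈
        LinearMap.ker (P.domRestrict (LinearMap.range c)) := LinearMap.congr_fun hPc' m
    have h6 : LinearMap.ker (P.domRestrict (LinearMap.range c)) ≠ ⊥ := fun e => hm (by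
      rw [e, Submodule.mem_bot] at h5
      exact congrArg Subtype.val h5)
    have h7 := Submodule.one_le_finrank_iff.2 h6
    omega
  have hζsq : alpha ζ * alpha ζ = 0 := by rw [hζa]; exact zz
  have hζ0 : alpha ζ ≠ 0 := by rw [hζa]; exact hz0
  obtain ⟨w0', hw0⟩ := ihm _ (lt_of_lt_of_le hlt hm) H C hn ζ hζ hζsq hζ0 le_rfl
  obtain ⟨s, hs, hs2, -, hsp⟩ := exists_torus_scalar C.setting
  set t := torus hε'sq hopp s hs with htdef
  have htζ : t * ζ = ζ * t := comm_of_conjEnd (conjEnd_eq_iff.2 (by
    rw [htdef, torus_val, hζa]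
    simp only [ε', η, alpha_oneAdd, add_mul, mul_add, one_mul, mul_one, smul_mul_assoc, mul_smul_comm, mul_assoc,
      yz, c'z, mul_zero]
    simp only [← mul_assoc, zc', zy, zero_mul]))
  have hcop : (Nat.card (Subgroup.zpowers t)).Coprime p := by
    rw [Nat.card_zpowers]
    refine Nat.Coprime.coprime_dvd_left (orderOf_dvd_of_pow_eq_one (torus_pow_eq_one _ hopp hs hsp)) ?_
    exact ((Nat.coprime_self_sub_right C.setting.prime.pos).2 (Nat.coprime_one_right p)).symm
  obtain ⟨u, -, hw, hfix⟩ := exists_fixed_opp C hζ hζsq hζ0 hw0 (A := Subgroup.zpowers t)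
    ((Subgroup.zpowers_le.2 (C.torus_mem hε'H hε'sq hopp s hs)).trans Subgroup.le_normalizer)
    hcop (CfsgLib.Coprime.isSolvable_of_isMulCommutative inferInstance) fun x hx => by
      obtain ⟨j, rfl⟩ := (mem_powers_iff_mem_zpowers).2 hx
      exact flagStable_of_comm ((show Commute t ζ from htζ).pow_left j).eq
  obtain ⟨f1, f2⟩ := hfix t (Subgroup.mem_zpowers t)
  set w := u * w0' * u⁻¹
  set d := alpha w with hddef
  have hd : conjEnd t d = (1 : k)⁻¹ • d := conjEnd_opp hw one_ne_zero
    (by rw [one_smul]; exact conjEnd_of_comm htζ) f1 f2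
  rw [inv_one, one_smul] at hd
  obtain ⟨de, df⟩ := comm_idem_of_comm_torus hε'sq hopp hs hs2 (g := d) (conjEnd_eq_iff.1 hd).symm
  simp only [ε', η, alpha_oneAdd] at de df
  have hdzd : d * z * d = d := by have := hw.right; rwa [hζa] at this
  have hzdz : z * d * z = z := by have := hw.left; rwa [hζa] at this
  have de0 : d * (c' * y) = 0 := by
    conv_lhs => rw [← hdzd, mul_assoc, de, ← mul_assoc, mul_assoc d, ← mul_assoc z, zc']
    simp
  have df0 : d * (y * c') = 0 := by
    conv_lhs => rw [← hdzd, mul_assoc, df, ← mul_assoc, mul_assoc d, ← mul_assoc z, zy]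
    simp
  have dc' : d * c' = 0 := by rw [← c'yc', ← mul_assoc, de0, zero_mul]
  have dy : d * y = 0 := by rw [← yc'y, ← mul_assoc, df0, zero_mul]
  have c'd : c' * d = 0 := by rw [← c'yc', mul_assoc c' y, mul_assoc, ← df, df0, mul_zero]
  have yd : y * d = 0 := by rw [← yc'y, mul_assoc y c', mul_assoc, ← de, de0, mul_zero]
  have hv : ((η * w : LinearMap.GeneralLinearGroup k M) : M →ₗ[k] M) = 1 + (y + d) := by
    rw [Units.val_mul, alpha_add_one w, ← hddef]
    show (1 + y) * (1 + d) = _
    rw [mul_add, add_mul, add_mul, mul_one, mul_one, one_mul, yd]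
    abel
  have ea : alpha (η * w) = y + d := by simp [CfsgLib.QuadPair.alpha, hv]
  refine ⟨η * w, mul_mem hηH hw.mem, ?_, ?_, ?_⟩ <;> rw [ea]
  · rw [add_mul, mul_add, mul_add, yy, yd, dy, show d * d = 0 from hw.sq]
    simp
  · rw [← hcdef, show c = c' + z by rw [hz]; abel]
    simp only [add_mul, mul_add, mul_assoc, c'z, yz, c'd, dc', zy, mul_zero]
    simp only [← mul_assoc, zy, c'd, c'yc', hzdz, zero_mul, add_zero, zero_add]
  · rw [← hcdef, show c = c' + z by rw [hz]; abel]
    simp only [add_mul, mul_add, mul_assoc, c'd, dy, zy, mul_zero]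
    simp only [← mul_assoc, yz, dc', yc'y, hdzd, zero_mul, add_zero, zero_add]

/-- **Every quadratic element of a group with trivial `p`-core has an opposite.** -/
theorem exists_opp (C : Ctx p H) (hqH : q ∈ H) (hq : alpha q * alpha q = 0) (hq0 : alpha q ≠ 0) :
    ∃ v, Opp H q v :=
  exists_opp_aux _ _ H C le_rfl q hqH hq hq0 le_rfl

end CfsgLib.EquivZJ
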