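import Cfsg.Agent.Lib.CFun.EquivZJ.Opposed
import Cfsg.Agent.Lib.CFun.CoprimeQuad.Glauberman

/-!
# A quadratic element in all invariant Sylow subgroups lies in the `p`-core
-/

set_option autoImplicit false
set_option linter.style.haveILetI false
set_option linter.unusedSectionVars false

namespace CfsgLib.EquivZJ

open Cfsg hiding alpha
open CfsgLib.QuadPair CfsgLib.CoprimeQuad
open CfsgLib.Coprime (IsSylowIn)
open scoped MatrixGroups

variable {k : Type*} [Field k] {M : Type*} [AddCommGroup M] [Module k M] [FiniteDimensional k M] [Finite k]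
variable {H : Subgroup (LinearMap.GeneralLinearGroup k M)} {p : ℕ}
variable {q : LinearMap.GeneralLinearGroup k M}

theorem le_normalizer_of_conj_mem {G : Type*} [Group G] {A K : Subgroup G}
    (h : ∀ a ∈ A, ∀ z ∈ K, a * z * a⁻¹ ∈ K) : A ≤ Subgroup.normalizer (K : Set G) := by
  intro a ha
  rw [Subgroup.mem_normalizer_iff]
  refine fun z => ⟨h a ha z, fun hz => ?_⟩
  have := h a⁻¹ (inv_mem ha) _ hz
  simpa [mul_assoc] using this

/-- A quadratic element of the group maps every component to itself. -/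
theorem conjBy_comp_eq (C : Ctx p H) (hqH : q ∈ H) (hq : alpha q * alpha q = 0)
    {σ : LinearMap.GeneralLinearGroup k M} (hσ : σ ∈ minimalQuadraticElements H) :
    conjBy (comp H (sameActionSubgroup H σ)) q = comp H (sameActionSubgroup H σ) := by
  classical
  haveI := finite_gl (k := k) (M := M)
  haveI : Fact p.Prime := ⟨C.setting.prime⟩
  haveI := C.setting.char
  set N := comp H (sameActionSubgroup H σ) with hN
  by_contra hne
  have hqp : q ^ p = 1 := pow_char_eq_one_of_cube (by have := C.setting.five_le; omega) (by rw [hq, zero_mul])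
  obtain ⟨v, hv⟩ := exists_root_opp (connected_comp C hσ).ctx (connected_comp C hσ).root
  set a := alpha σ with hadef
  set b := alpha v with hbdef
  have hcomm : ∀ i : ℕ, 0 < i → i < 4 → Commute (conjEnd (q ^ i) a) b := by
    intro i h0 h4
    have hqi : q ^ i ∈ Subgroup.normalizer (H : Set (LinearMap.GeneralLinearGroup k M)) :=
      Subgroup.le_normalizer (pow_mem hqH i)
    have hσi := conj_mem_minimal' hqi hσ
    have hN' := comp_conj_root (σ := σ) C hqi
    rw [← hN] at hN'
    rcases comp_eq_or_commute C hσi hσ with e | e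
    · exfalso
      rw [← hN', ← hN] at e
      refine hne ?_
      have hmem : q ^ i ∈ Subgroup.normalizer (N : Set (LinearMap.GeneralLinearGroup k M)) :=
        Subgroup.mem_normalizer_iff_map_conj_eq.2 e
      obtain ⟨j, hj⟩ : q ∈ Subgroup.zpowers (q ^ i) := by
        have hcop : i.Coprime (orderOf q) := by
          refine Nat.Coprime.coprime_dvd_right (orderOf_dvd_of_pow_eq_one hqp) ?_
          exact ((Nat.Prime.coprime_iff_not_dvd C.setting.prime).2 fun h => by
            have := Nat.le_of_dvd h0 h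
            have := C.setting.five_le
            omega).symm
        obtain ⟨m, hm⟩ := exists_pow_eq_self_of_coprime hcop
        exact ⟨m, show (q ^ i) ^ ((m : ℕ) : ℤ) = q by rw [zpow_natCast]; exact hm⟩
      have hq' := zpow_mem hmem j
      rw [show (q ^ i) ^ j = q from hj] at hq'
      exact Subgroup.mem_normalizer_iff_map_conj_eq.1 hq'
    · have h1 := bracket_of_comm (e _ (le_comp (sameAction_le hσi) (self_mem_sameAction hσi)) v hv.mem)
      rw [bracket, sub_eq_zero, alpha_conjEnd] at h1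
      exact h1
  have hid : a = conjEnd (q ^ 3) a - (3 : k) • conjEnd (q ^ 2) a + (3 : k) • conjEnd (q ^ 1) a := by
    set c := alpha q with hc
    have hstep : ∀ (g : LinearMap.GeneralLinearGroup k M) (s : k), (g : M →ₗ[k] M) = 1 + s • c →
        conjEnd g a = a + s • (c * a - a * c) - (s * s) • (c * a * c) := by
      intro g s hg
      have hi : ((g⁻¹ : LinearMap.GeneralLinearGroup k M) : M →ₗ[k] M) = 1 - s • c := by
        refine Units.inv_eq_of_mul_eq_one_right ?_
        rw [hg, add_mul, one_mul, mul_sub, mul_one, smul_sq hq, sub_zero, sub_add_cancel]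
      rw [conjEnd, hg, hi]
      simp only [add_mul, mul_sub, one_mul, mul_one, smul_mul_assoc, mul_smul_comm, smul_smul, mul_assoc]
      module
    have hq1 : ((q ^ 1 : LinearMap.GeneralLinearGroup k M) : M →ₗ[k] M) = 1 + (1 : k) • c := by
      rw [pow_one, one_smul]; exact alpha_add_one q
    have hq2 : ((q ^ 2 : LinearMap.GeneralLinearGroup k M) : M →ₗ[k] M) = 1 + (2 : k) • c := by
      rw [pow_succ, Units.val_mul, hq1, alpha_add_one q, ← hc]
      simp only [add_mul, mul_add, one_mul, mul_one, one_smul, show c * c = 0 from hq, add_zero]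
      module
    have hq3 : ((q ^ 3 : LinearMap.GeneralLinearGroup k M) : M →ₗ[k] M) = 1 + (3 : k) • c := by
      rw [pow_succ, Units.val_mul, hq2, alpha_add_one q, ← hc]
      simp only [add_mul, mul_add, one_mul, mul_one, smul_mul_assoc, show c * c = 0 from hq, smul_zero, add_zero]
      module
    rw [hstep _ _ hq1, hstep _ _ hq2, hstep _ _ hq3]
    module
  have hab : Commute a b := by
    rw [hid]
    exact ((hcomm 3 (by norm_num) (by norm_num)).sub_left ((hcomm 2 (by norm_num) (by norm_num)).smul_left _)).add_left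
      ((hcomm 1 (by norm_num) (by norm_num)).smul_left _)
  refine alpha_ne_zero hσ (show a = 0 from ?_)
  rw [show a = a * b * a from hv.left.symm, hab.eq, mul_assoc, show a * a = 0 from sq_of_min hσ, mul_zero]

/-- The torus elements of a set of pairs of root subgroups. -/
def toriOf (H : Subgroup (LinearMap.GeneralLinearGroup k M))
    (P : Subgroup (LinearMap.GeneralLinearGroup k M) → Subgroup (LinearMap.GeneralLinearGroup k M) → Prop)
    (c : k) (hc : c ≠ 0) : Set (LinearMap.GeneralLinearGroup k M) :=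
  {t | ∃ x y, ∃ (hx : alpha x * alpha x = 0)
    (h : Opp (comp H (sameActionSubgroup H x)) x y), x ∈ minimalQuadraticElements H ∧
      P (sameActionSubgroup H x) (sameActionSubgroup H y) ∧ t = torus hx h c hc}

theorem flag_of_root (C : Ctx p H) {x x' : LinearMap.GeneralLinearGroup k M}
    (hx : x ∈ minimalQuadraticElements H) (hx' : x' ∈ minimalQuadraticElements H)
    (h : sameActionSubgroup H x' = sameActionSubgroup H x) :
    LinearMap.range (alpha x) = LinearMap.range (alpha x') ∧ LinearMap.ker (alpha x) = LinearMap.ker (alpha x') := by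
  have hc := mem_class_of_actSpace hx ((mem_sameAction_iff hx).1 (h ▸ self_mem_sameAction hx')) (alpha_ne_zero hx')
  exact ⟨hc.2.2.symm, hc.2.1.symm⟩

/-- The idempotents of a pair depend only on the two root subgroups. -/
theorem idem_of_roots (C : Ctx p H) {x y x' y' : LinearMap.GeneralLinearGroup k M}
    (hx : x ∈ minimalQuadraticElements H) (hy : y ∈ minimalQuadraticElements H)
    (hx' : x' ∈ minimalQuadraticElements H) (hy' : y' ∈ minimalQuadraticElements H)
    (hE : sameActionSubgroup H x' = sameActionSubgroup H x) (hF : sameActionSubgroup H y' = sameActionSubgroup H y)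
    {K K' : Subgroup (LinearMap.GeneralLinearGroup k M)} (h : Opp K x y) (h' : Opp K' x' y') :
    alpha x * alpha y = alpha x' * alpha y' ∧ alpha y * alpha x = alpha y' * alpha x' :=
  ⟨idem_eq h.left h.right h'.left (flag_of_root C hx hx' hE).1 (flag_of_root C hy hy' hF).2,
    idem_eq h.right h.left h'.right (flag_of_root C hy hy' hF).1 (flag_of_root C hx hx' hE).2⟩

theorem Opp.minimal_in (C : Ctx p H) {x y : LinearMap.GeneralLinearGroup k M}
    (hx : x ∈ minimalQuadraticElements H) (h : Opp (comp H (sameActionSubgroup H x)) x y) :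
    y ∈ minimalQuadraticElements H :=
  minimal_of_sub C (comp_le _) hx (mem_comp_of_root hx rfl)
    (h.minimal (connected_comp C hx).ctx (connected_comp C hx).root)

/-- The swap of an opposite pair in the `p`-core would be trivial. -/
theorem false_of_opp_in_pCore {D : Subgroup (LinearMap.GeneralLinearGroup k M)} (S : Setting p k)
    (hqD : q ∈ D) (hqO : q ∈ (Cfsg.pCore p ↥D).map D.subtype) (hq : alpha q * alpha q = 0) (hq0 : alpha q ≠ 0)
    {b : LinearMap.GeneralLinearGroup k M} (hb : Opp D q b) : False := by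
  haveI := finite_gl (k := k) (M := M)
  haveI : Fact p.Prime := ⟨S.prime⟩
  set O := (Cfsg.pCore p ↥D).map D.subtype with hO
  set w := q * b⁻¹ * q with hw
  have hwD : w ∈ D := mul_mem (mul_mem hqD (inv_mem hb.mem)) hqD
  have hconj : w * q * w⁻¹ ∈ O := by
    obtain ⟨q', hq', rfl⟩ := hqO
    exact ⟨_, (Cfsg.pCore_normal p ↥D).conj_mem q' hq' ⟨w, hwD⟩, rfl⟩
  rw [hw, swap_conj hq hb] at hconj
  have hwO : w ∈ O := mul_mem (mul_mem hqO hconj) hqO
  obtain ⟨n, hn⟩ := ((CfsgLib.Coprime.pCore_isPGroup p).map D.subtype) ⟨w, hwO⟩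
  have hn' : w ^ p ^ n = 1 := by simpa using congrArg Subtype.val hn
  set a := alpha q with hadef
  set c := alpha b with hcdef
  have T := orthoTriple_of_units hq hb.sq hb.left hb.right
  set e := a * c with he
  set f := c * a with hf
  set r := 1 - e - f with hr
  have hal : a * c * a = a := hb.left
  have hcl : c * a * c = c := hb.right
  have ea : e * a = a := hal
  have fc : f * c = c := hcl
  have fa : f * a = 0 := by rw [hf, mul_assoc, hq, mul_zero]
  have ec : e * c = 0 := by rw [he, mul_assoc, hb.sq, mul_zero]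
  have ra : r * a = 0 := by rw [hr, sub_mul, sub_mul, one_mul, ea, fa, sub_self, sub_zero]
  have rc : r * c = 0 := by rw [hr, sub_mul, sub_mul, one_mul, ec, fc, sub_zero, sub_self]
  have ar : a * r = 0 := by
    rw [hr, mul_sub, mul_sub, mul_one, show a * f = a by rw [hf, ← mul_assoc, hal],
      show a * e = 0 by rw [he, ← mul_assoc, hq, zero_mul], sub_zero, sub_self]
  have cr : c * r = 0 := by
    rw [hr, mul_sub, mul_sub, mul_one, show c * e = c by rw [he, ← mul_assoc, hcl],
      show c * f = 0 by rw [hf, ← mul_assoc, hb.sq, zero_mul], sub_zero, sub_self]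
  have hwv : (w : M →ₗ[k] M) = r + a - c := by rw [hw, swap_val hq hb]
  have hw2 : ((w * w : LinearMap.GeneralLinearGroup k M) : M →ₗ[k] M) = r - (e + f) := by
    rw [Units.val_mul, hwv]
    simp only [add_mul, sub_mul, mul_add, mul_sub, T.rr, ar, ra, cr, rc, hq, show c * c = 0 from hb.sq,
      ← he, ← hf]
    abel
  have hw4 : w ^ 4 = 1 := by
    refine Units.ext ?_
    rw [show w ^ 4 = (w * w) * (w * w) by simp [pow_succ, mul_assoc], Units.val_mul, hw2, Units.val_one]
    simp only [sub_mul, add_mul, mul_sub, mul_add, T.rr, T.pp, T.qq, T.pq, T.qp, T.pr, T.rp, T.qr, T.rq]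
    rw [hr]
    abel
  have hw1 : w = 1 := by
    rw [← pow_one w, ← show Nat.gcd 4 (p ^ n) = 1 from ?_]
    · exact pow_gcd_eq_one.2 ⟨hw4, hn'⟩
    · have : Nat.Coprime 4 p := ((Nat.Prime.coprime_iff_not_dvd S.prime).2 fun h => by
        have := Nat.le_of_dvd (by norm_num) h
        have := S.five_le
        omega).symm
      exact this.pow_right n
  have h1 : e * (r + a - c) = e := by rw [← hwv, hw1, Units.val_one, mul_one]
  rw [mul_sub, mul_add, T.pr, ea, ec, zero_add, sub_zero] at h1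
  exact hq0 (show a = 0 by rw [← hal, ← he, ← h1, hq])

theorem rigid (C : Ctx p H) {A : Subgroup (LinearMap.GeneralLinearGroup k M)}
    (hA : A ≤ Subgroup.normalizer (H : Set (LinearMap.GeneralLinearGroup k M)))
    (hcop : (Nat.card A).Coprime (Nat.card H)) (hsolv : Group.IsSolvable A)
    (hq : InAll p H A q) (hsq : alpha q * alpha q = 0) (hq0 : alpha q ≠ 0)
    (IH : ∀ L ≤ H, L ≠ H → A ≤ Subgroup.normalizer (L : Set (LinearMap.GeneralLinearGroup k M)) → q ∈ L →
      q ∈ (Cfsg.pCore p ↥L).map L.subtype) : False := by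
  classical
  haveI := finite_gl (k := k) (M := M)
  haveI : Fact p.Prime := ⟨C.setting.prime⟩
  haveI := C.setting.char
  set NH := Subgroup.normalizer (H : Set (LinearMap.GeneralLinearGroup k M)) with hNH
  have hqH : q ∈ H := hq.1
  obtain ⟨S, hS, hSA⟩ := CfsgLib.Coprime.exists_invariant_sylow hA hcop (Or.inl hsolv) p
  have hqS : q ∈ S := hq.2 S hS hSA
  have hSN : Subgroup.normalizer (S : Set (LinearMap.GeneralLinearGroup k M)) ⊓ NH ≤ NH := inf_le_right
  -- the chosen root subgroups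
  let ℰs : Set (Subgroup (LinearMap.GeneralLinearGroup k M)) :=
    {E | ∃ τ ∈ minimalQuadraticElements H, sameActionSubgroup H τ = E ∧
      S ⊓ comp H E ≤ Subgroup.normalizer (E : Set (LinearMap.GeneralLinearGroup k M))}
  have hroot : ∀ E ∈ ℰs, ∃ τ ∈ minimalQuadraticElements H, sameActionSubgroup H τ = E :=
    fun E ⟨τ, hτ, e, _⟩ => ⟨τ, hτ, e⟩
  have hinj : ∀ E ∈ ℰs, ∀ E' ∈ ℰs, comp H E = comp H E' → E = E' := by
    rintro _ ⟨τ, hτ, rfl, hE⟩ _ ⟨τ', hτ', rfl, hE'⟩ e
    have hτc := mem_comp_of_root hτ rfl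
    have hτ'c : τ' ∈ comp H (sameActionSubgroup H τ) := by rw [e]; exact mem_comp_of_root hτ' rfl
    obtain ⟨ρ, -, -, huniq⟩ := (connected_comp C hτ).sylow_root
      (isSylowIn_inf_comp (H := H) hS (sameAction_le hτ))
    have h1 := huniq τ (minimal_sub C (comp_le _) hτ hτc) (by rw [root_comp_eq C hτ hτ hτc]; exact hE)
    have h2 := huniq τ' (minimal_sub C (comp_le _) hτ' hτ'c) (by
      rw [root_comp_eq C hτ hτ' hτ'c, e]; exact hE')
    rw [root_comp_eq C hτ hτ hτc] at h1
    rw [root_comp_eq C hτ hτ' hτ'c] at h2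
    rw [h1, h2]
  have hstable : ∀ g ∈ NH, g ∈ Subgroup.normalizer (S : Set (LinearMap.GeneralLinearGroup k M)) →
      ∀ E ∈ ℰs, conjBy E g ∈ ℰs := by
    rintro g hg hgS _ ⟨τ, hτ, rfl, hE⟩
    refine ⟨g * τ * g⁻¹, conj_mem_minimal' hg hτ, (conjBy_sameAction' hg).symm, ?_⟩
    rw [comp_conj hg]
    rintro _ ⟨hzS, w, hw, rfl⟩
    have hwS : w ∈ S := (Subgroup.mem_normalizer_iff.1 hgS w).2 hzS
    have hwE := Subgroup.mem_normalizer_iff_map_conj_eq.1 (hE ⟨hwS, hw⟩)
    rw [Subgroup.mem_normalizer_iff_map_conj_eq]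
    show conjBy (conjBy (sameActionSubgroup H τ) g) (g * w * g⁻¹) = conjBy (sameActionSubgroup H τ) g
    conv_rhs => rw [← show conjBy (sameActionSubgroup H τ) w = sameActionSubgroup H τ from hwE]
    rw [conjBy_conjBy, conjBy_conjBy]
    congr 1
    group
  have hcompne : ∀ {E : Subgroup (LinearMap.GeneralLinearGroup k M)}, E ∈ ℰs → conjBy (comp H E) q = comp H E := by
    rintro _ ⟨τ, hτ, rfl, -⟩
    exact conjBy_comp_eq C hqH hsq hτ
  have hqE : ∀ E ∈ ℰs, conjBy E q = E := fun E hE =>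
    hinj _ (hstable q (Subgroup.le_normalizer hqH) (Subgroup.le_normalizer hqS) E hE) E hE
      (by rw [comp_conj (Subgroup.le_normalizer hqH), hcompne hE])
  set ℰ := ℰs.toFinite.toFinset with hℰ
  have hmem : ∀ {E : Subgroup (LinearMap.GeneralLinearGroup k M)}, E ∈ ℰ ↔ E ∈ ℰs := fun {E} => Set.Finite.mem_toFinset _
  -- first selection of opposites
  have hchoice : ∀ E : Subgroup (LinearMap.GeneralLinearGroup k M), ∃ F, E ∈ ℰs → Opposed H E F := by
    intro E
    by_cases hE : E ∈ ℰs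
    · obtain ⟨τ, hτ, rfl⟩ := hroot E hE
      obtain ⟨F, hF⟩ := exists_opposed C hτ
      exact ⟨F, fun _ => hF⟩
    · exact ⟨⊥, fun h => absurd h hE⟩
  choose φ hφ using hchoice
  let K : Subgroup (LinearMap.GeneralLinearGroup k M) → Subgroup (LinearMap.GeneralLinearGroup k M) :=
    fun E => comp H E ⊓ Subgroup.normalizer (E : Set (LinearMap.GeneralLinearGroup k M))
  set U := ⨆ E ∈ ℰ, K E with hU
  have hUH : U ≤ H := iSup₂_le fun E _ => inf_le_left.trans (comp_le E)
  have hUE : ∀ E ∈ ℰs, ∀ u ∈ U, conjBy E u = E := by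
    intro E hE u hu
    refine Subgroup.mem_normalizer_iff_map_conj_eq.1 ((iSup₂_le fun E' hE' => ?_ :
      U ≤ Subgroup.normalizer (E : Set (LinearMap.GeneralLinearGroup k M))) hu)
    by_cases hEE : E' = E
    · subst hEE; exact inf_le_right
    obtain ⟨τ, hτ, hτE⟩ := hroot E hE
    obtain ⟨τ', hτ', hτE'⟩ := hroot E' (hmem.1 hE')
    refine le_normalizer_of_conj_mem fun a ha z hz => ?_
    subst hτE hτE'
    have := (comp_eq_or_commute C hτ' hτ).resolve_left (fun e => hEE (hinj _ (hmem.1 hE') _ hE e))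
      a ha.1 z (le_comp (sameAction_le hτ) hz)
    rw [this, mul_inv_cancel_right]
    exact hz
  have hAU : A ≤ Subgroup.normalizer (U : Set (LinearMap.GeneralLinearGroup k M)) := by
    refine le_normalizer_of_conj_mem fun a ha z hz => ?_
    have hle : U ≤ U.comap (MulAut.conj a).toMonoidHom := iSup₂_le fun E hE w hw => by
      refine (le_iSup₂_of_le (conjBy E a) (hmem.2 (hstable a (hA ha) (hSA ha) E (hmem.1 hE))) le_rfl :
        K (conjBy E a) ≤ U) ⟨?_, ?_⟩
      · rw [comp_conj (hA ha)]; exact ⟨w, hw.1, rfl⟩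
      · refine Subgroup.mem_normalizer_iff_map_conj_eq.2 ?_
        show conjBy (conjBy E a) (a * w * a⁻¹) = conjBy E a
        conv_rhs => rw [← show conjBy E w = E from Subgroup.mem_normalizer_iff_map_conj_eq.1 hw.2]
        rw [conjBy_conjBy, conjBy_conjBy]
        congr 1
        group
    exact hle hz
  let act : LinearMap.GeneralLinearGroup k M → Set (Subgroup (LinearMap.GeneralLinearGroup k M)) →
      Set (Subgroup (LinearMap.GeneralLinearGroup k M)) := fun g Φ => (fun F => conjBy F g) '' Φ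
  have act1 : ∀ Φ, act 1 Φ = Φ := fun Φ => by simp only [act, conjBy_one, Set.image_id']
  have actmul : ∀ g h Φ, act (g * h) Φ = act g (act h Φ) := fun g h Φ => by
    simp only [act, Set.image_image, conjBy_conjBy]
  set Φ0 := φ '' ℰs with hΦ0
  have hmove : ∀ a ∈ A, ∃ h ∈ U, act a Φ0 = act h Φ0 := by
    intro a ha
    have hai : ∀ E ∈ ℰs, conjBy E a⁻¹ ∈ ℰs := hstable a⁻¹ (hA (inv_mem ha)) (hSA (inv_mem ha))
    have hg : ∀ E ∈ ℰs, Opposed H E (conjBy (φ (conjBy E a⁻¹)) a) := by
      intro E hE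
      have := (hφ _ (hai E hE)).conj C (hA ha)
      rwa [conjBy_conjBy, mul_inv_cancel, conjBy_one] at this
    obtain ⟨h, hh, hh'⟩ := exists_simultaneous C ℰ (fun E hE => hroot E (hmem.1 hE))
      (fun E hE E' hE' => hinj E (hmem.1 hE) E' (hmem.1 hE')) K φ (fun E => conjBy (φ (conjBy E a⁻¹)) a)
      (fun E _ => inf_le_left) (fun E hE => ((hφ E (hmem.1 hE)).data C).2.1)
      (fun E hE => ((hg E (hmem.1 hE)).data C).2.1)
      (fun E hE => (hφ E (hmem.1 hE)).transitive C (hg E (hmem.1 hE)))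
    refine ⟨h, hh, Set.ext fun F => ⟨?_, ?_⟩⟩
    · rintro ⟨_, ⟨E, hE, rfl⟩, rfl⟩
      refine ⟨φ (conjBy E a), ⟨_, hstable a (hA ha) (hSA ha) E hE, rfl⟩, ?_⟩
      show conjBy _ h = conjBy (φ E) a
      rw [hh' _ (hmem.2 (hstable a (hA ha) (hSA ha) E hE)), conjBy_conjBy, inv_mul_cancel, conjBy_one]
    · rintro ⟨_, ⟨E, hE, rfl⟩, rfl⟩
      refine ⟨φ (conjBy E a⁻¹), ⟨_, hai E hE, rfl⟩, ?_⟩
      exact (hh' E (hmem.2 hE)).symm
  obtain ⟨h0, hh0, hfix⟩ := exists_fixed_in_orbit hAU (hcop.coprime_dvd_right (Subgroup.card_dvd_of_le hUH))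
    hsolv act act1 actmul Φ0 hmove
  set f := fun E => conjBy (φ E) h0 with hf
  have hfopp : ∀ E ∈ ℰs, Opposed H E (f E) := by
    intro E hE
    have := (hφ E hE).conj C (Subgroup.le_normalizer (hUH hh0))
    rwa [hUE E hE h0 hh0] at this
  set Φ := f '' ℰs with hΦ
  have hΦ' : act h0 Φ0 = Φ := by simp only [act, hΦ0, hΦ, hf, Set.image_image]
  -- an invariant Sylow subgroup fixing the selection
  obtain ⟨w, hw, hwE⟩ := exists_simultaneous C ℰ (fun E hE => hroot E (hmem.1 hE))
    (fun E hE E' hE' => hinj E (hmem.1 hE) E' (hmem.1 hE')) (fun E => comp H E) id f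
    (fun E _ => le_rfl)
    (fun E hE => by obtain ⟨τ, hτ, rfl⟩ := hroot E (hmem.1 hE); exact le_comp (sameAction_le hτ))
    (fun E hE => ((hfopp E (hmem.1 hE)).data C).2.1)
    (fun E hE => by
      obtain ⟨x, y, hx, rfl, hxy, e⟩ := hfopp E (hmem.1 hE)
      obtain ⟨u, hu, e'⟩ := root_conj_comp C hx (hxy.minimal_in C hx) hxy.mem
      exact ⟨u, hu, by rw [← e, e']; rfl⟩)
  have hwH : w ∈ H := (iSup₂_le fun E _ => comp_le E : (⨆ E ∈ ℰ, comp H E) ≤ H) hw
  let X : Subgroup (LinearMap.GeneralLinearGroup k M) :=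
    { carrier := {g | g ∈ H ∧ act g Φ = Φ}
      one_mem' := ⟨one_mem H, act1 Φ⟩
      mul_mem' := fun {g g'} hg hg' => ⟨mul_mem hg.1 hg'.1, by rw [actmul, hg'.2, hg.2]⟩
      inv_mem' := fun {g} hg => ⟨inv_mem hg.1, by
        conv_lhs => rw [← hg.2]
        rw [← actmul, inv_mul_cancel, act1]⟩ }
  have hAX : A ≤ Subgroup.normalizer (X : Set (LinearMap.GeneralLinearGroup k M)) := by
    refine le_normalizer_of_conj_mem fun a ha z hz => ⟨(Subgroup.mem_normalizer_iff.1 (hA ha) z).1 hz.1, ?_⟩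
    have e := hfix a ha
    have e' := hfix a⁻¹ (inv_mem ha)
    rw [hΦ'] at e e'
    rw [actmul, actmul, e', hz.2, e]
  have hSX : conjBy S w ≤ X := by
    rintro _ ⟨s, hs, rfl⟩
    refine ⟨mul_mem (mul_mem hwH (hS.1 hs)) (inv_mem hwH), ?_⟩
    have e1 : act w ℰs = Φ := Set.image_congr fun E hE => hwE E (hmem.2 hE)
    have e2 : act s ℰs = ℰs := by
      refine Set.eq_of_subset_of_ncard_le ?_ ?_ ℰs.toFinite
      · rintro _ ⟨E, hE, rfl⟩
        exact hstable s (Subgroup.le_normalizer (hS.1 hs)) (Subgroup.le_normalizer hs) E hE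
      · rw [Set.ncard_image_of_injective]
        exact Subgroup.map_injective (MulAut.conj s).injective
    show act (w * s * w⁻¹) Φ = Φ
    conv_lhs => rw [← e1]
    rw [← actmul, inv_mul_cancel_right, actmul, e2, e1]
  obtain ⟨T, hT, hTA⟩ := CfsgLib.Coprime.exists_invariant_sylow hAX
    (hcop.coprime_dvd_right (Subgroup.card_dvd_of_le fun g hg => hg.1)) (Or.inl hsolv) p
  have hTH : IsSylowIn p T H := by
    refine isSylowIn_of_card_ge hS (hT.1.trans fun g hg => hg.1) hT.isPGroup ?_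
    rw [← CfsgLib.Coprime.card_conjBy w S]
    exact card_le_sylowIn hT hSX (hS.isPGroup.map _)
  have hqX : q ∈ X := hT.1 (hq.2 T hTH hTA)
  have hqf : ∀ E ∈ ℰs, conjBy (f E) q = f E := by
    intro E hE
    obtain ⟨E', hE', e⟩ : conjBy (f E) q ∈ Φ := hqX.2 ▸ ⟨f E, ⟨E, hE, rfl⟩, rfl⟩
    have h1 : comp H (f E') = comp H E := by
      rw [e, comp_conj (Subgroup.le_normalizer hqH), ((hfopp E hE).data C).1, hcompne hE]
    rw [((hfopp E' hE').data C).1] at h1
    rw [← e, hinj E' hE' E hE h1]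
  -- the torus and its centralizer
  obtain ⟨c, hc, hc2, -, hcp⟩ := exists_torus_scalar C.setting
  set 𝒯 := toriOf H (fun E F => E ∈ ℰs ∧ f E = F) c hc with h𝒯
  have htH : ∀ t ∈ 𝒯, t ∈ H := by
    rintro _ ⟨x, y, hx2, h, hx, -, rfl⟩
    exact comp_le _ ((connected_comp C hx).ctx.torus_mem (connected_comp C hx).root.1.1 hx2 h c hc)
  have hA𝒯 : ∀ a ∈ A, ∀ t ∈ 𝒯, a * t * a⁻¹ ∈ 𝒯 := by
    rintro a ha _ ⟨x, y, hx2, h, hx, ⟨hE, hF⟩, rfl⟩
    have hx' := conj_mem_minimal' (hA ha) hx
    have h' : Opp (comp H (sameActionSubgroup H (a * x * a⁻¹))) (a * x * a⁻¹) (a * y * a⁻¹) := by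
      rw [← conjBy_sameAction' (hA ha), comp_conj (hA ha)]
      exact h.conj_map a
    refine ⟨_, _, sq_of_min hx', h', hx', ⟨?_, ?_⟩, Units.ext ?_⟩
    · rw [← conjBy_sameAction' (hA ha)]; exact hstable a (hA ha) (hSA ha) _ hE
    · rw [← conjBy_sameAction' (hA ha), ← conjBy_sameAction' (hA ha), ← hF]
      have e := hfix a ha
      rw [hΦ'] at e
      obtain ⟨E', hE', e'⟩ : conjBy (f (sameActionSubgroup H x)) a ∈ Φ := e ▸ ⟨_, ⟨_, hE, rfl⟩, rfl⟩
      have h1 : comp H (f E') = comp H (conjBy (sameActionSubgroup H x) a) := by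
        rw [e', comp_conj (hA ha), ((hfopp _ hE).data C).1, comp_conj (hA ha)]
      rw [((hfopp E' hE').data C).1] at h1
      rw [← hinj E' hE' _ (hstable a (hA ha) (hSA ha) _ hE) h1, e']
    · rw [Units.val_mul, Units.val_mul, torus_val, torus_val, alpha_conjEnd, alpha_conjEnd]
      simp only [conjEnd, mul_add, add_mul, mul_smul_comm, smul_mul_assoc, mul_one, Units.mul_inv, mul_assoc,
        Units.inv_mul_cancel_left]
  have hq𝒯 : ∀ t ∈ 𝒯, q * t = t * q := by
    rintro _ ⟨x, y, hx2, h, hx, ⟨hE, hF⟩, rfl⟩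
    have hy := h.minimal_in C hx
    have hqN : q ∈ NH := Subgroup.le_normalizer hqH
    obtain ⟨e1, e2⟩ := idem_of_roots C hx hy (conj_mem_minimal' hqN hx) (conj_mem_minimal' hqN hy)
      (by rw [← conjBy_sameAction' hqN]; exact hqE _ hE)
      (by rw [← conjBy_sameAction' hqN, ← hF]; exact hqf _ hE) h (h.conj_map q)
    refine comm_torus_of_comm_idem hx2 h c hc ?_ ?_
    · rw [conjEnd_mul_end, ← alpha_conjEnd, ← alpha_conjEnd]; exact e1.symm
    · rw [conjEnd_mul_end, ← alpha_conjEnd, ← alpha_conjEnd]; exact e2.symm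
  have hab : ∀ t ∈ 𝒯, ∀ t' ∈ 𝒯, t * t' = t' * t := by
    rintro _ ⟨x, y, hx2, h, hx, ⟨hE, hF⟩, rfl⟩ _ ⟨x', y', hx2', h', hx', ⟨hE', hF'⟩, rfl⟩
    by_cases hEE : sameActionSubgroup H x' = sameActionSubgroup H x
    · obtain ⟨e1, e2⟩ := idem_of_roots C hx (h.minimal_in C hx) hx' (h'.minimal_in C hx') hEE
        (by rw [← hF, ← hF', hEE]) h h'
      have : torus hx2 h c hc = torus hx2' h' c hc := Units.ext (by rw [torus_val, torus_val, e1, e2])
      rw [this]
    · exact (comp_eq_or_commute C hx hx').resolve_left (fun e => hEE (hinj _ hE' _ hE e.symm)) _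
        ((connected_comp C hx).ctx.torus_mem (connected_comp C hx).root.1.1 hx2 h c hc) _
        ((connected_comp C hx').ctx.torus_mem (connected_comp C hx').root.1.1 hx2' h' c hc)
  haveI hcommT : IsMulCommutative (Subgroup.closure 𝒯) := Subgroup.isMulCommutative_closure hab
  set TA := Subgroup.closure 𝒯 with hTA'
  have hTAH : TA ≤ H := (Subgroup.closure_le _).2 htH
  have hpow : ∀ t ∈ TA, t ^ (p - 1) = 1 := by
    intro t ht
    induction ht using Subgroup.closure_induction with
    | mem u hu =>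
      obtain ⟨x, y, hx2, h, -, -, rfl⟩ := hu
      exact torus_pow_eq_one hx2 h hc hcp
    | one => exact one_pow _
    | mul a b ha hb iha ihb =>
      have hc' : Commute a b :=
        congrArg Subtype.val (IsMulCommutative.is_comm.comm (⟨a, ha⟩ : TA) ⟨b, hb⟩)
      rw [hc'.mul_pow, iha, ihb, one_mul]
    | inv a _ iha => rw [inv_pow, iha, inv_one]
  have hTAcop : (Nat.card TA).Coprime p := by
    refine ((Nat.Prime.coprime_iff_not_dvd C.setting.prime).2 fun hd => ?_).symm
    obtain ⟨t, ht⟩ := exists_prime_orderOf_dvd_card' p hd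
    have h1 : orderOf t ∣ p - 1 :=
      orderOf_dvd_of_pow_eq_one (Subtype.ext (by rw [SubgroupClass.coe_pow]; exact hpow t t.2))
    rw [ht] at h1
    have hp5 := C.setting.five_le
    have := Nat.le_of_dvd (by omega) h1
    omega
  set D := H ⊓ Subgroup.centralizer 𝒯 with hD
  have hDA : A ≤ Subgroup.normalizer (D : Set (LinearMap.GeneralLinearGroup k M)) := by
    refine le_normalizer_of_conj_mem fun a ha z hz => ⟨(Subgroup.mem_normalizer_iff.1 (hA ha) z).1 hz.1,
      Subgroup.mem_centralizer_iff.2 fun t ht => ?_⟩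
    have h1 := Subgroup.mem_centralizer_iff.1 hz.2 _ (hA𝒯 a⁻¹ (inv_mem ha) t ht)
    rw [inv_inv] at h1
    calc t * (a * z * a⁻¹) = a * (a⁻¹ * t * a * z) * a⁻¹ := by group
      _ = a * (z * (a⁻¹ * t * a)) * a⁻¹ := by rw [h1]
      _ = a * z * a⁻¹ * t := by group
  have hqD : q ∈ D := ⟨hqH, Subgroup.mem_centralizer_iff.2 fun t ht => (hq𝒯 t ht).symm⟩
  obtain ⟨σ, hσ⟩ := exists_minimal ⟨q, C.quad hqH hsq hq0⟩
  have hne : ∃ τ ∈ minimalQuadraticElements H, sameActionSubgroup H τ ∈ ℰs := by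
    obtain ⟨τ, hτ, hτN, -⟩ := (connected_comp C hσ).sylow_root (isSylowIn_inf_comp (H := H) hS (sameAction_le hσ))
    have hσc := mem_comp_of_root hσ rfl
    have hτH := minimal_of_sub C (comp_le _) hσ hσc hτ
    refine ⟨τ, hτH, τ, hτH, rfl, ?_⟩
    rw [comp_root C hσ hτH hτ.1.1]
    rwa [root_comp_eq C hσ hτH hτ.1.1] at hτN
  obtain ⟨τ, -, hτℰ⟩ := hne
  obtain ⟨x, y, hx, hxE, hxy, hyF⟩ := hfopp _ hτℰ
  have hxy' : Opp (comp H (sameActionSubgroup H x)) x y := by rw [hxE]; exact hxy
  have hxD : x ∉ D := by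
    intro hxD
    have ht : torus (sq_of_min hx) hxy' c hc ∈ 𝒯 :=
      ⟨x, y, sq_of_min hx, hxy', hx, ⟨by rw [hxE]; exact hτℰ, by rw [hxE, hyF]⟩, rfl⟩
    have h1 := conjEnd_of_comm (Subgroup.mem_centralizer_iff.1 hxD.2 _ ht)
    rw [HasChar.conjEnd_eq hc (torus_hasChar (sq_of_min hx) hxy' c hc)] at h1
    refine hc2 (sub_eq_zero.1 ((smul_eq_zero.1 (?_ : (c * c - 1) • alpha x = 0)).resolve_right (alpha_ne_zero hx)))
    rw [sub_smul, one_smul, h1, sub_self]
  have hqO := IH D inf_le_left (fun e => hxD (by rw [e]; exact hx.1.1)) hDA hqD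
  -- an opposite of `q` in the centralizer
  obtain ⟨b, hb⟩ := exists_opp C hqH hsq hq0
  have hqTA : ∀ t ∈ TA, q * t = t * q := fun t ht => by
    have : TA ≤ Subgroup.centralizer {q} := (Subgroup.closure_le _).2 fun t ht =>
      Subgroup.mem_centralizer_singleton_iff.2 (hq𝒯 t ht).symm
    exact (Subgroup.mem_centralizer_singleton_iff.1 (this ht)).symm
  obtain ⟨u, -, hb', hfix'⟩ := exists_fixed_opp C hqH hsq hq0 hb (hTAH.trans Subgroup.le_normalizer) hTAcop
    (CfsgLib.Coprime.isSolvable_of_isMulCommutative hcommT) fun t ht => flagStable_of_comm (hqTA t ht).symm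
  set b' := u * b * u⁻¹
  have hb'D : b' ∈ D := ⟨hb'.mem, Subgroup.mem_centralizer_iff.2 fun t ht => by
    obtain ⟨f1, f2⟩ := hfix' t (Subgroup.subset_closure ht)
    have := conjEnd_opp hb' one_ne_zero (by rw [one_smul]; exact conjEnd_of_comm (hq𝒯 t ht).symm) f1 f2
    rw [inv_one, one_smul] at this
    exact comm_of_conjEnd this⟩
  exact false_of_opp_in_pCore C.setting hqD hqO hsq hq0 (b := b') ⟨hb'D, hb'.sq, hb'.left, hb'.right⟩

end CfsgLib.EquivZJ
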