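import Cfsg.Agent.Lib.CFun.EquivZJ.Linear
import Cfsg.Agent.Lib.CFun.EquivZJ.Functor
import Cfsg.Agent.Lib.CFun.Critical

/-!
# Stable class two subgroups of invariant Sylow subgroups lie in the `p`-core
-/

set_option autoImplicit false
set_option linter.style.haveILetI false
set_option linter.unusedSectionVars false

open Subgroup
open scoped commutatorElement

namespace CfsgLib.EquivZJ

open CfsgLib.CFun (cen commute_of_mem_cen trivSeries mem_trivSeries)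
open CfsgLib.Coprime.QdRankTwo (trivOn mem_trivOn)

/-- The bilinear computation: no invariant pairing of class-two forms survives an element cubing to one. -/
theorem pairing_eq_one {α β C : Type*} [CommGroup C] {Ma : Set α} {Mb : Set β} (μ : α → α) (ν : β → β)
    (b d : α → β → C) (hμ : ∀ x ∈ Ma, μ x ∈ Ma) (hν : ∀ y ∈ Mb, ν y ∈ Mb)
    (h1 : ∀ x ∈ Ma, ∀ y ∈ Mb, d (μ x) y = d x (ν y))
    (h2 : ∀ x ∈ Ma, ∀ y ∈ Mb, b (μ x) y = b x (ν y) * d x (ν y) * d x y)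
    (hμ3 : ∀ x ∈ Ma, ∀ y ∈ Mb, b (μ (μ (μ x))) y = 1)
    (hν3 : ∀ x ∈ Ma, ∀ y ∈ Mb, b x (ν (ν (ν y))) = 1 ∧ d x (ν (ν (ν y))) = 1)
    (hright : ∀ y ∈ Mb, (∀ x ∈ Ma, d x y = 1) → ∀ x ∈ Ma, b x y = 1)
    (hleft : ∀ x ∈ Ma, (∀ y ∈ Mb, d x y = 1) → ∀ y ∈ Mb, b x y = 1)
    (hd2 : ∀ x ∈ Ma, ∀ y ∈ Mb, d x y ^ 2 = 1 → d x y = 1)
    (hd3 : ∀ x ∈ Ma, ∀ y ∈ Mb, d x y ^ 3 = 1 → d x y = 1) :
    ∀ x ∈ Ma, ∀ y ∈ Mb, d x y = 1 := by
  have e2 : ∀ x ∈ Ma, ∀ y ∈ Mb, b (μ (μ x)) y = b x (ν (ν y)) * d x (ν (ν y)) ^ 2 * d x (ν y) ^ 2 := by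
    intro x hx y hy
    rw [h2 _ (hμ x hx) y hy, h2 x hx _ (hν y hy), h1 x hx _ (hν y hy), h1 x hx y hy]
    simp only [pow_two, mul_comm, mul_assoc, mul_left_comm]
  have hd22 : ∀ x ∈ Ma, ∀ y ∈ Mb, d x (ν (ν y)) = 1 := by
    intro x hx y hy
    refine hd3 x hx _ (hν _ (hν y hy)) ?_
    have e := e2 _ (hμ x hx) y hy
    rw [hμ3 x hx y hy, h2 x hx _ (hν _ (hν y hy)), h1 x hx _ (hν _ (hν y hy)), h1 x hx _ (hν y hy),
      (hν3 x hx y hy).1, (hν3 x hx y hy).2] at e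
    rw [one_pow, one_mul, one_mul, mul_one, ← pow_succ'] at e
    exact e.symm
  have hd1 : ∀ x ∈ Ma, ∀ y ∈ Mb, d x (ν y) = 1 := by
    intro x hx y hy
    refine hd2 x hx _ (hν y hy) ?_
    have e := e2 x hx y hy
    rw [hright _ (hν _ (hν y hy)) (fun x' hx' => hd22 x' hx' y hy) x hx, hd22 x hx y hy,
      hleft _ (hμ _ (hμ x hx)) (fun y' hy' => by
        rw [h1 _ (hμ x hx) y' hy', h1 x hx _ (hν y' hy'), hd22 x hx y' hy']) y hy] at e
    rw [one_pow, one_mul, one_mul] at e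
    exact e.symm
  intro x hx y hy
  have e := h2 x hx y hy
  rw [hright _ (hν y hy) (fun x' hx' => hd1 x' hx' y hy) x hx, hd1 x hx y hy,
    hleft _ (hμ x hx) (fun y' hy' => by rw [h1 x hx y' hy', hd1 x hx y' hy']) y hy, one_mul, one_mul] at e
  exact e.symm

universe u

variable {Γ : Type u} [Group Γ] [Finite Γ] {p : ℕ} [Fact p.Prime]

theorem eq_one_of_not_dvd {Q : Subgroup Γ} (hQ : IsPGroup p Q) {x : Γ} (hx : ¬ p ∣ orderOf x) (hxQ : x ∈ Q) :
    x = 1 := by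
  obtain ⟨j, hj⟩ := hQ ⟨x, hxQ⟩
  exact orderOf_eq_one_iff.1 (Nat.eq_one_of_dvd_coprimes
    (((Fact.out : p.Prime).coprime_iff_not_dvd.2 hx).pow_left j)
    (orderOf_dvd_of_pow_eq_one (by simpa using congrArg Subtype.val hj)) dvd_rfl)

/-- An element of order prime to `p` commutes with `n` once it commutes with their commutator. -/
theorem commute_of_commute_commutator {N : Subgroup Γ} (hN : IsPGroup p N) {x n : Γ}
    (hx : ¬ p ∣ orderOf x) (hv : ⁅x, n⁆ ∈ N) (hcv : Commute x ⁅x, n⁆) : Commute x n := by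
  have hpow : ∀ j : ℕ, x ^ j * n * (x ^ j)⁻¹ = ⁅x, n⁆ ^ j * n := by
    intro j
    induction j with
    | zero => simp
    | succ j ih =>
      calc x ^ (j + 1) * n * (x ^ (j + 1))⁻¹ = x * (x ^ j * n * (x ^ j)⁻¹) * x⁻¹ := by
            rw [pow_succ']; group
        _ = x * ⁅x, n⁆ ^ j * n * x⁻¹ := by rw [ih]; group
        _ = ⁅x, n⁆ ^ j * (x * n * x⁻¹) := by rw [(hcv.pow_right j).eq]; group
        _ = ⁅x, n⁆ ^ j * (⁅x, n⁆ * n) := by rw [commutatorElement_def]; group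
        _ = ⁅x, n⁆ ^ (j + 1) * n := by rw [pow_succ]; group
  have h0 := hpow (orderOf x)
  rw [pow_orderOf_eq_one, one_mul, inv_one, mul_one, right_eq_mul] at h0
  obtain ⟨m, hm⟩ := hN ⟨_, hv⟩
  exact commutatorElement_eq_one_iff_mul_comm.1 (orderOf_eq_one_iff.1
    (Nat.eq_one_of_dvd_coprimes (((Fact.out : p.Prime).coprime_iff_not_dvd.2 hx).pow_left m)
      (orderOf_dvd_of_pow_eq_one (by simpa using congrArg Subtype.val hm)) (orderOf_dvd_of_pow_eq_one h0)))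

/-- A group, its `p`-core, a critical subgroup, and operators. -/
structure Base (p : ℕ) (G A Q Y : Subgroup Γ) : Prop where
  five : 5 ≤ p
  normG : G.Normal
  cop : (Nat.card A).Coprime (Nat.card G)
  solv : Group.IsSolvable A
  pQ : IsPGroup p Q
  normQ : Q.Normal
  leG : Q ≤ G
  maxQ : ∀ X : Subgroup Γ, X.Normal → X ≤ G → IsPGroup p X → X ≤ Q
  self : G ⊓ centralizer (Q : Set Γ) ≤ Q
  leQ : Y ≤ Q
  normY : Y.Normal
  powY : ∀ a ∈ Y, a ^ p ∈ cen Y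
  classTwo : ⁅Y, Y⁆ ≤ cen Y
  commY : ⁅Q, Y⁆ ≤ cen Y
  auto : ∀ φ : MulAut Q, (orderOf φ).Coprime p → (∀ a : Q, (a : Γ) ∈ Y → φ a = a) → φ = 1

variable {G A Q Y : Subgroup Γ}

theorem Base.pY (B : Base p G A Q Y) : IsPGroup p Y := B.pQ.to_le B.leQ

theorem Base.eq_one (B : Base p G A Q Y) {x : Γ} (hxG : x ∈ G) (hx : ¬ p ∣ orderOf x)
    (hc : ∀ y ∈ Y, Commute x y) : x = 1 := by
  haveI := B.normQ
  set φ : MulAut Q := MulAut.conjNormal x with hφdef
  have hφ : φ = 1 := by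
    refine B.auto φ ?_ fun a ha => Subtype.ext ?_
    · exact Nat.Coprime.coprime_dvd_left (orderOf_map_dvd (MulAut.conjNormal (H := Q)) x)
        ((Fact.out : p.Prime).coprime_iff_not_dvd.2 hx).symm
    · rw [MulAut.conjNormal_apply, (hc a ha).eq, mul_inv_cancel_right]
  refine eq_one_of_not_dvd B.pQ hx (B.self (mem_inf.2 ⟨hxG, mem_centralizer_iff.2 fun y hy => ?_⟩))
  have h := congrArg (fun e : MulAut Q => ((e ⟨y, hy⟩ : Q) : Γ)) hφ
  simp only [φ, MulAut.conjNormal_apply, MulAut.one_apply] at h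
  exact (mul_inv_eq_iff_eq_mul.1 h).symm

theorem Base.mem_Q (B : Base p G A Q Y) {a : Γ} (haG : a ∈ G) (ha : a ∈ trivSeries ⊥ Y) : a ∈ Q := by
  haveI := B.normG
  haveI := B.normY
  haveI := CfsgLib.CFun.trivSeries_normal (⊥ : Subgroup Γ) Y
  refine B.maxQ (G ⊓ trivSeries ⊥ Y) inferInstance inf_le_left
    (CfsgLib.CFun.isPGroup_of_forall fun x hx hxp => ?_) ⟨haG, ha⟩
  exact B.eq_one hx.1 hxp (CfsgLib.CFun.commute_of_mem_trivSeries hxp
    (fun l hl => by rw [mem_bot.1 hl]; exact Commute.one_right x) Y B.normY bot_le B.pY hx.2)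

theorem Base.cen_normal (B : Base p G A Q Y) : (cen Y).Normal := by
  haveI := B.normY
  exact normal_inf_normal _ _

/-- All elements of order prime to `p` of `L` centralize the subgroup. -/
def CentBy (p : ℕ) (L X : Subgroup Γ) : Prop :=
  ∀ x ∈ L, ¬ p ∣ orderOf x → ∀ y ∈ X, Commute x y

variable {T L W W0 : Subgroup Γ}

/-- The `p'`-elements of a normal subgroup generate a normal subgroup. -/
theorem closure_pprime_normal (hL : L.Normal) :
    (closure {x | x ∈ L ∧ ¬ p ∣ orderOf x} : Subgroup Γ).Normal := by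
  refine ⟨fun n hn g => ?_⟩
  have hle : closure {x | x ∈ L ∧ ¬ p ∣ orderOf x} ≤
      (closure {x | x ∈ L ∧ ¬ p ∣ orderOf x}).comap (MulAut.conj g).toMonoidHom :=
    (closure_le _).2 fun x hx => subset_closure ⟨hL.conj_mem x hx.1 g, by
      rw [show orderOf ((MulAut.conj g).toMonoidHom x) = orderOf x from orderOf_injective _ (MulAut.conj g).injective x]
      exact hx.2⟩
  exact hle hn

variable (B : Base p G A Q Y)
include B

theorem le_trivSeries_cen (hTN : Y ≤ normalizer (T : Set Γ)) (hTP : ∀ t ∈ T, InAll p G A t) (hst : Stable T Y) :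
    T ≤ trivSeries ⊥ (cen Y) := by
  haveI := B.normG
  haveI := B.cen_normal
  haveI := B.normY
  intro t ht
  refine mem_trivSeries_of_quadratic B.five B.cop B.solv (hTP t ht) (B.pY.to_le inf_le_left)
    fun U V h hU u hu => ?_
  have hux := hU hu
  have hc : ∀ t' : Γ, ⁅⁅t', u⁆, u⁆ = 1 := by
    intro t'
    have h1 : ⁅t', u⁆ ∈ cen Y := by
      rw [commutatorElement_def]
      exact mul_mem (B.cen_normal.conj_mem u hux t') (inv_mem hux)
    exact commutatorElement_eq_one_iff_mul_comm.2 (commute_of_mem_cen h1 hux.1).eq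
  have h2 := hst u hux.1 (fun t' _ => by rw [hc]; exact one_mem _) (fun z _ => hc z) t ht
  rw [show ⁅t, ⁅t, u⁆⁆ = 1 from
    commutatorElement_eq_one_iff_mul_comm.2 (commute_of_mem_cen h2 ht).symm.eq]
  exact one_mem V

theorem cen_le_Q (hTP : ∀ t ∈ T, InAll p G A t) (hTN : Y ≤ normalizer (T : Set Γ)) : cen T ≤ Q := by
  haveI := B.normG
  haveI := B.normY
  intro z hz
  refine B.mem_Q (hTP z hz.1).1 (mem_trivSeries_of_quadratic B.five B.cop B.solv (hTP z hz.1) B.pY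
    fun U V h hU u hu => ?_)
  have hn := CfsgLib.CFun.le_normalizer_cen hTN (hU hu)
  have h1 : ⁅z, u⁆ ∈ cen T := by
    rw [commutatorElement_def, mul_assoc z u, mul_assoc]
    exact mul_mem hz ((mem_normalizer_iff.1 hn _).1 (inv_mem hz))
  rw [show ⁅z, ⁅z, u⁆⁆ = 1 from
    commutatorElement_eq_one_iff_mul_comm.2 (commute_of_mem_cen hz h1.1).eq]
  exact one_mem V

/-- The elements of `T` centralize the derived group of a minimal subgroup moved by `p'`-elements. -/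
theorem commute_derived (hL : L.Normal) (hTL : T ≤ L) (hTN : Y ≤ normalizer (T : Set Γ))
    (hcls : ⁅T, T⁆ ≤ centralizer (T : Set Γ))
    (hser : L ≤ trivSeries ⊥ (cen Y)) (hW : W.Normal) (hWY : W ≤ Y) (hW0n : W0.Normal) (hW0 : W0 < W)
    (hW0max : ∀ F : Subgroup Γ, F.Normal → F ≤ W → F ≠ W → F ≤ W0)
    (hW0W : ∀ x ∈ W0, ∀ y ∈ W, Commute x y) (hpow : ∀ x ∈ W, x ^ p ∈ W0) :
    ∀ t ∈ T, ∀ d ∈ ⁅W, W⁆, Commute t d := by
  haveI := B.normY
  haveI := B.cen_normal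
  have hWcen : ⁅W, W⁆ ≤ cen Y := (commutator_mono hWY hWY).trans B.classTwo
  have hDc : ∀ d ∈ ⁅W, W⁆, ∀ x ∈ W, Commute d x := fun d hd x hx => commute_of_mem_cen (hWcen hd) (hWY hx)
  have hmulL : ∀ a ∈ W, ∀ b ∈ W, ∀ y ∈ W, ⁅a * b, y⁆ = ⁅b, y⁆ * ⁅a, y⁆ := by
    intro a ha b hb y hy
    rw [show ⁅a * b, y⁆ = a * ⁅b, y⁆ * a⁻¹ * ⁅a, y⁆ by simp only [commutatorElement_def]; group,
      ← (hDc _ (commutator_mem_commutator hb hy) a ha).eq, mul_inv_cancel_right]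
  have hpD : ∀ a ∈ W, ∀ b ∈ W, ⁅a, b⁆ ^ p = 1 := by
    intro a ha b hb
    have : ∀ j : ℕ, ⁅a ^ j, b⁆ = ⁅a, b⁆ ^ j := by
      intro j
      induction j with
      | zero => simp
      | succ j ih => rw [pow_succ, hmulL _ (pow_mem ha j) a ha b hb, ih, pow_succ']
    rw [← this p]
    exact commutatorElement_eq_one_iff_mul_comm.2 (hW0W _ (hpow a ha) b hb).eq
  haveI := hW
  haveI : (⁅W, W⁆ : Subgroup Γ).Normal := Subgroup.commutator_normal _ _
  obtain ⟨D, ⟨hDn, hDW, hDt⟩, hDmin⟩ := (Set.toFinite {D : Subgroup Γ | D.Normal ∧ D ≤ ⁅W, W⁆ ∧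
    ∀ t ∈ T, ∀ d ∈ ⁅W, W⁆, ⁅t, d⁆ ∈ D}).exists_minimal ⟨⁅W, W⁆, inferInstance, le_rfl, fun t _ d hd => by
      rw [commutatorElement_def]; exact mul_mem (Subgroup.Normal.conj_mem inferInstance d hd t) (inv_mem hd)⟩
  by_cases hD : D = ⊥
  · intro t ht d hd
    exact commutatorElement_eq_one_iff_mul_comm.1 (mem_bot.1 (hD ▸ hDt t ht d hd))
  exfalso
  haveI := hDn
  obtain ⟨V, -, hVD, hch⟩ := CfsgLib.CFun.exists_chief_above (bot_lt_iff_ne_bot.2 hD)
  haveI := hch.2.2.1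
  have hLD : ∀ g ∈ L, ∀ d ∈ D, ⁅g, d⁆ ∈ V := fun g hg d hd =>
    mem_trivSeries.1 (hser hg) D V hch bot_le (hDW.trans hWcen) d hd
  obtain ⟨t, ht, c0, hc0, hc0V⟩ : ∃ t ∈ T, ∃ d ∈ ⁅W, W⁆, ⁅t, d⁆ ∉ V := by
    by_contra hno
    push Not at hno
    exact hVD.not_ge (hDmin ⟨inferInstance, hVD.le.trans hDW, hno⟩ hVD.le)
  set π := QuotientGroup.mk' V with hπ
  let H : Subgroup Γ := L ⊓ trivOn D ⁅W, W⁆
  haveI : H.Normal := normal_inf_normal _ _
  have htH : t ∈ H := ⟨hTL ht, mem_trivOn.2 (hDt t ht)⟩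
  have hδinv : ∀ g ∈ H, ∀ c ∈ ⁅W, W⁆, π ⁅t, g * c * g⁻¹⁆ = π ⁅t, c⁆ := by
    intro g hg c hc
    have hd : ⁅g, c⁆ ∈ D := mem_trivOn.1 hg.2 c hc
    rw [show g * c * g⁻¹ = ⁅g, c⁆ * c by rw [commutatorElement_def]; group,
      show ⁅t, ⁅g, c⁆ * c⁆ = ⁅t, ⁅g, c⁆⁆ * (⁅g, c⁆ * ⁅t, c⁆ * ⁅g, c⁆⁻¹) by
        simp only [commutatorElement_def]; group,
      map_mul, show π ⁅t, ⁅g, c⁆⁆ = 1 from (QuotientGroup.eq_one_iff _).2 (hLD t (hTL ht) _ hd), one_mul]
    congr 1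
    rw [(commute_of_mem_cen (hWcen (hDW hd)) (hWcen (hDW (hDt t ht c hc))).1).eq, mul_inv_cancel_right]
  have hab : ∀ u ∈ (⁅W, W⁆).map π, ∀ v ∈ (⁅W, W⁆).map π, u * v = v * u := by
    rintro _ ⟨u, hu, rfl⟩ _ ⟨v, hv, rfl⟩
    rw [← map_mul, ← map_mul, (commute_of_mem_cen (hWcen hu) (hWcen hv).1).eq]
  letI : CommGroup ↥((⁅W, W⁆).map π) :=
    { (inferInstance : Group ↥((⁅W, W⁆).map π)) with mul_comm := fun x y => Subtype.ext (hab _ x.2 _ y.2) }
  have hmem : ∀ {x y : Γ}, x ∈ W → y ∈ W → π ⁅x, y⁆ ∈ (⁅W, W⁆).map π :=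
    fun hx hy => mem_map_of_mem π (commutator_mem_commutator hx hy)
  have hmem' : ∀ {x y : Γ}, x ∈ W → y ∈ W → π ⁅t, ⁅x, y⁆⁆ ∈ (⁅W, W⁆).map π :=
    fun hx hy => mem_map_of_mem π (hDW (hDt t ht _ (commutator_mem_commutator hx hy)))
  let β : W → W → ↥((⁅W, W⁆).map π) := fun x y => ⟨π ⁅(x : Γ), y⁆, hmem x.2 y.2⟩
  let δ : W → W → ↥((⁅W, W⁆).map π) := fun x y => ⟨π ⁅t, ⁅(x : Γ), y⁆⁆, hmem' x.2 y.2⟩
  have hβl : ∀ x x' y : W, β (x * x') y = β x y * β x' y := fun x x' y => by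
    rw [mul_comm (β x y)]
    exact Subtype.ext (by
      show π ⁅(x : Γ) * x', (y : Γ)⁆ = π ⁅(x' : Γ), y⁆ * π ⁅(x : Γ), y⁆
      rw [← map_mul, hmulL _ x.2 _ x'.2 _ y.2])
  have hβsym : ∀ x y : W, β y x = (β x y)⁻¹ := fun x y => Subtype.ext (by
    show π ⁅(y : Γ), x⁆ = (π ⁅(x : Γ), y⁆)⁻¹
    rw [← map_inv, commutatorElement_inv])
  have hβr : ∀ x y y' : W, β x (y * y') = β x y * β x y' := fun x y y' => by
    rw [hβsym _ x, hβl, mul_inv, ← hβsym, ← hβsym]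
  have htmul : ∀ c ∈ ⁅W, W⁆, ∀ c' ∈ ⁅W, W⁆, π ⁅t, c * c'⁆ = π ⁅t, c⁆ * π ⁅t, c'⁆ := by
    intro c hc c' hc'
    rw [show ⁅t, c * c'⁆ = ⁅t, c⁆ * (c * ⁅t, c'⁆ * c⁻¹) by simp only [commutatorElement_def]; group,
      (commute_of_mem_cen (hWcen hc) (hWcen (hDW (hDt t ht c' hc'))).1).eq, mul_inv_cancel_right, map_mul]
  have hδl : ∀ x x' y : W, δ (x * x') y = δ x y * δ x' y := fun x x' y => by
    rw [mul_comm (δ x y)]
    exact Subtype.ext (by
      show π ⁅t, ⁅(x : Γ) * x', (y : Γ)⁆⁆ = π ⁅t, ⁅(x' : Γ), y⁆⁆ * π ⁅t, ⁅(x : Γ), y⁆⁆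
      rw [hmulL _ x.2 _ x'.2 _ y.2, htmul _ (commutator_mem_commutator x'.2 y.2) _
        (commutator_mem_commutator x.2 y.2)])
  have hδsym : ∀ x y : W, δ y x = (δ x y)⁻¹ := fun x y => by
    refine eq_inv_of_mul_eq_one_left (Subtype.ext ?_)
    show π ⁅t, ⁅(y : Γ), x⁆⁆ * π ⁅t, ⁅(x : Γ), y⁆⁆ = 1
    rw [← htmul _ (commutator_mem_commutator y.2 x.2) _ (commutator_mem_commutator x.2 y.2),
      ← commutatorElement_inv (x : Γ), inv_mul_cancel, commutatorElement_one_right, map_one]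
  have hδr : ∀ x y y' : W, δ x (y * y') = δ x y * δ x y' := fun x y y' => by
    rw [hδsym _ x, hδl, mul_inv, ← hδsym, ← hδsym]
  have hW0zero : ∀ x y : W, (x : Γ) ∈ W0 → β x y = 1 ∧ δ x y = 1 := by
    intro x y hx
    have e : ⁅(x : Γ), (y : Γ)⁆ = 1 := commutatorElement_eq_one_iff_mul_comm.2 (hW0W _ hx _ y.2).eq
    exact ⟨Subtype.ext (show π ⁅(x : Γ), (y : Γ)⁆ = 1 by rw [e, map_one]), Subtype.ext
      (show π ⁅t, ⁅(x : Γ), (y : Γ)⁆⁆ = 1 by rw [e, commutatorElement_one_right, map_one])⟩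
  let Wc : Γ → W → W := fun g x => ⟨g * x * g⁻¹, hW.conj_mem x x.2 g⟩
  have hWcc : ∀ g x, Wc g⁻¹ (Wc g x) = x := fun g x => Subtype.ext (by
    show g⁻¹ * (g * (x : Γ) * g⁻¹) * g⁻¹⁻¹ = x
    group)
  have hδH : ∀ g ∈ H, ∀ x y : W, δ (Wc g x) (Wc g y) = δ x y := fun g hg x y => Subtype.ext (by
    show π ⁅t, ⁅g * (x : Γ) * g⁻¹, g * (y : Γ) * g⁻¹⁆⁆ = π ⁅t, ⁅(x : Γ), y⁆⁆
    rw [show ⁅g * (x : Γ) * g⁻¹, g * (y : Γ) * g⁻¹⁆ = g * ⁅(x : Γ), (y : Γ)⁆ * g⁻¹ by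
      simp only [commutatorElement_def]; group]
    exact hδinv g hg _ (commutator_mem_commutator x.2 y.2))
  let IsMin : Subgroup Γ → Prop := fun M => W0 < M ∧ M ≤ W ∧ H ≤ normalizer (M : Set Γ) ∧
    ∀ M' : Subgroup Γ, W0 ≤ M' → M' ≤ M → H ≤ normalizer (M' : Set Γ) → M' = W0 ∨ M' = M
  have hWmin : W ≤ ⨆ (M : Subgroup Γ) (_ : IsMin M), M := by
    obtain ⟨M, ⟨hM1, hM2, hM3⟩, hMmin⟩ := (Set.toFinite
      {M : Subgroup Γ | W0 < M ∧ M ≤ W ∧ H ≤ normalizer (M : Set Γ)}).exists_minimal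
        ⟨W, hW0, le_rfl, by rw [normalizer_eq_top]; exact le_top⟩
    have hM : IsMin M := ⟨hM1, hM2, hM3, fun M' h1 h2 h3 => by
      rcases eq_or_lt_of_le h1 with h | h
      · exact Or.inl h.symm
      · exact Or.inr (le_antisymm h2 (hMmin ⟨h, h2.trans hM2, h3⟩ h2))⟩
    set S := ⨆ (M : Subgroup Γ) (_ : IsMin M), M
    have hSn : S.Normal := by
      refine ⟨fun n hn g => ?_⟩
      have hmap : ∀ M, IsMin M → IsMin (M.map (MulAut.conj g).toMonoidHom) := by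
        intro M hM
        have hinj := (MulAut.conj g).injective
        have hfixn : ∀ N : Subgroup Γ, N.Normal → N.map (MulAut.conj g).toMonoidHom = N := fun N hN => by
          haveI := hN
          exact mem_normalizer_iff_map_conj_eq.1 (by rw [normalizer_eq_top]; exact mem_top g)
        have hnorm : ∀ N : Subgroup Γ, H ≤ normalizer (N : Set Γ) ↔
            H ≤ normalizer ((N.map (MulAut.conj g).toMonoidHom : Subgroup Γ) : Set Γ) := fun N => by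
          conv_rhs => rw [← hfixn H inferInstance]
          exact (le_normalizer_map_iff' (f := (MulAut.conj g).toMonoidHom) hinj).symm
        refine ⟨hfixn W0 hW0n ▸ (map_lt_map_iff_of_injective hinj).2 hM.1, hfixn W hW ▸ map_mono hM.2.1,
          (hnorm M).1 hM.2.2.1, fun M' h1 h2 h3 => ?_⟩
        have e : (M'.comap (MulAut.conj g).toMonoidHom).map (MulAut.conj g).toMonoidHom = M' :=
          map_comap_eq_self_of_surjective (MulAut.conj g).surjective M'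
        rw [← e] at h1 h2 h3 ⊢
        rw [← hfixn W0 hW0n] at h1 ⊢
        rcases hM.2.2.2 _ ((map_le_map_iff_of_injective hinj).1 h1) ((map_le_map_iff_of_injective hinj).1 h2)
          ((hnorm _).2 h3) with h | h
        · exact Or.inl (by rw [h])
        · exact Or.inr (by rw [h])
      have hle : S ≤ S.comap (MulAut.conj g).toMonoidHom := iSup₂_le fun M hM => map_le_iff_le_comap.1
        (le_iSup₂_of_le (M.map (MulAut.conj g).toMonoidHom) (hmap M hM) le_rfl)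
      exact hle hn
    have hMS : M ≤ S := le_iSup₂_of_le M hM le_rfl
    by_contra hne
    exact hM1.not_ge (hMS.trans (hW0max S hSn (iSup₂_le fun M' hM' => hM'.2.1) fun e => hne e.ge))
  obtain ⟨Ma, hMa, Mb, hMb, hne⟩ : ∃ Ma, IsMin Ma ∧ ∃ Mb, IsMin Mb ∧
      ∃ x y : W, (x : Γ) ∈ Ma ∧ (y : Γ) ∈ Mb ∧ δ x y ≠ 1 := by
    by_contra hno
    push Not at hno
    have hall : ∀ x y : W, δ x y = 1 := by
      have h1 : ∀ Ma, IsMin Ma → ∀ x : W, (x : Γ) ∈ Ma → ∀ y : W, δ x y = 1 := by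
        intro Ma hMa x hx
        let R : Subgroup Γ :=
          { carrier := {y | ∃ h : y ∈ W, δ x ⟨y, h⟩ = 1}
            one_mem' := ⟨one_mem W, by
              have := hδr x 1 1
              rw [mul_one, right_eq_mul] at this
              exact this⟩
            mul_mem' := fun {a b} ⟨ha, ea⟩ ⟨hb, eb⟩ => ⟨mul_mem ha hb, by
              have := hδr x ⟨a, ha⟩ ⟨b, hb⟩
              rw [ea, eb, one_mul] at this
              exact this⟩
            inv_mem' := fun {a} ⟨ha, ea⟩ => ⟨inv_mem ha, by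
              have := hδr x ⟨a, ha⟩ ⟨a⁻¹, inv_mem ha⟩
              rw [ea, one_mul] at this
              rw [← this]
              have h0 := hδr x 1 1
              rw [mul_one, right_eq_mul] at h0
              convert h0 using 2
              exact Subtype.ext (mul_inv_cancel a)⟩ }
        have hR : W ≤ R := hWmin.trans (iSup₂_le fun Mb hMb y hy =>
          ⟨hMb.2.1 hy, hno Ma hMa Mb hMb x ⟨y, hMb.2.1 hy⟩ hx hy⟩)
        exact fun y => (hR y.2).2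
      intro x y
      let R : Subgroup Γ :=
        { carrier := {z | ∃ h : z ∈ W, δ ⟨z, h⟩ y = 1}
          one_mem' := ⟨one_mem W, (hW0zero 1 y (one_mem W0)).2⟩
          mul_mem' := fun {a b} ⟨ha, ea⟩ ⟨hb, eb⟩ => ⟨mul_mem ha hb, by
            have := hδl ⟨a, ha⟩ ⟨b, hb⟩ y
            rw [ea, eb, one_mul] at this
            exact this⟩
          inv_mem' := fun {a} ⟨ha, ea⟩ => ⟨inv_mem ha, by
            have := hδl ⟨a, ha⟩ ⟨a⁻¹, inv_mem ha⟩ y
            rw [ea, one_mul] at this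
            rw [← this]
            convert (hW0zero 1 y (one_mem W0)).2 using 2
            exact Subtype.ext (mul_inv_cancel a)⟩ }
      have hR : W ≤ R := hWmin.trans (iSup₂_le fun Ma hMa z hz =>
        ⟨hMa.2.1 hz, h1 Ma hMa ⟨z, hMa.2.1 hz⟩ hz y⟩)
      exact (hR x.2).2
    let R : Subgroup Γ :=
      { carrier := {c | c ∈ ⁅W, W⁆ ∧ π ⁅t, c⁆ = 1}
        one_mem' := ⟨one_mem _, by rw [commutatorElement_one_right, map_one]⟩
        mul_mem' := fun {a b} ha hb => ⟨mul_mem ha.1 hb.1, by rw [htmul a ha.1 b hb.1, ha.2, hb.2, one_mul]⟩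
        inv_mem' := fun {a} ha => ⟨inv_mem ha.1, by
          have := htmul a ha.1 a⁻¹ (inv_mem ha.1)
          rw [mul_inv_cancel, commutatorElement_one_right, map_one, ha.2, one_mul] at this
          exact this.symm⟩ }
    have hR : ⁅W, W⁆ ≤ R := commutator_le.2 fun a ha b hb =>
      ⟨commutator_mem_commutator ha hb, congrArg Subtype.val (hall ⟨a, ha⟩ ⟨b, hb⟩)⟩
    exact hc0V ((QuotientGroup.eq_one_iff _).1 (hR hc0).2)
  obtain ⟨x0, y0, hx0, hy0, hxy0⟩ := hne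
  -- nondegeneracy on minimal subgroups
  have hnondeg : ∀ Ma Mb, IsMin Ma → IsMin Mb → (∃ x y : W, (x : Γ) ∈ Ma ∧ (y : Γ) ∈ Mb ∧ δ x y ≠ 1) →
      ∀ x : W, (x : Γ) ∈ Ma → (∀ y : W, (y : Γ) ∈ Mb → δ x y = 1) → (x : Γ) ∈ W0 := by
    intro Ma Mb hMa hMb ⟨x1, y1, hx1, hy1, hxy1⟩ x hx hxall
    let R : Subgroup Γ :=
      { carrier := {z | ∃ h : z ∈ W, z ∈ Ma ∧ ∀ y : W, (y : Γ) ∈ Mb → δ ⟨z, h⟩ y = 1}
        one_mem' := ⟨one_mem W, one_mem Ma, fun y _ => (hW0zero 1 y (one_mem W0)).2⟩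
        mul_mem' := fun {a b} ⟨ha, haM, ea⟩ ⟨hb, hbM, eb⟩ => ⟨mul_mem ha hb, mul_mem haM hbM, fun y hy => by
          have := hδl ⟨a, ha⟩ ⟨b, hb⟩ y
          rw [ea y hy, eb y hy, one_mul] at this
          exact this⟩
        inv_mem' := fun {a} ⟨ha, haM, ea⟩ => ⟨inv_mem ha, inv_mem haM, fun y hy => by
          have := hδl ⟨a, ha⟩ ⟨a⁻¹, inv_mem ha⟩ y
          rw [ea y hy, one_mul] at this
          rw [← this]
          convert (hW0zero 1 y (one_mem W0)).2 using 2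
          exact Subtype.ext (mul_inv_cancel a)⟩ }
    have hRn : H ≤ normalizer (R : Set Γ) := by
      refine le_normalizer_of_conj_mem fun g hg z hz => ?_
      obtain ⟨hzW, hzM, ez⟩ := hz
      refine ⟨hW.conj_mem z hzW g, (mem_normalizer_iff.1 (hMa.2.2.1 hg) z).1 hzM, fun y hy => ?_⟩
      have hy' : (Wc g⁻¹ y : Γ) ∈ Mb := (mem_normalizer_iff.1 (hMb.2.2.1 (H.inv_mem hg)) y).1 hy
      have := hδH g hg ⟨z, hzW⟩ (Wc g⁻¹ y)
      rw [ez _ hy'] at this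
      rw [← this]
      congr 1
      simpa using (hWcc g⁻¹ y).symm
    have h0R : W0 ≤ R := fun z hz => ⟨hW0.le hz, hMa.1.le hz, fun y _ => (hW0zero ⟨z, hW0.le hz⟩ y hz).2⟩
    rcases hMa.2.2.2 R h0R (fun z ⟨_, hz, _⟩ => hz) hRn with h | h
    · exact h.le ⟨x.2, hx, hxall⟩
    · exact absurd ((h.symm.le hx1).2.2 y1 hy1) hxy1
  have hsym : ∃ x y : W, (x : Γ) ∈ Mb ∧ (y : Γ) ∈ Ma ∧ δ x y ≠ 1 :=
    ⟨y0, x0, hy0, hx0, fun e => hxy0 (by rw [hδsym y0 x0, e, inv_one])⟩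
  -- the two maps
  let μ : W → W := fun x => ⟨⁅t, (x : Γ)⁆, by
    rw [commutatorElement_def]; exact mul_mem (hW.conj_mem x x.2 t) (inv_mem x.2)⟩
  let ν : W → W := fun x => ⟨⁅t⁻¹, (x : Γ)⁆, by
    rw [commutatorElement_def]; exact mul_mem (hW.conj_mem x x.2 t⁻¹) (inv_mem x.2)⟩
  have hclosed : ∀ (s : Γ), s ∈ H → ∀ M, IsMin M → ∀ x ∈ M, ⁅s, x⁆ ∈ M := fun s hs M hM x hx => by
    rw [commutatorElement_def]
    exact mul_mem ((mem_normalizer_iff.1 (hM.2.2.1 hs) x).1 hx) (inv_mem hx)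
  have hcube : ∀ s ∈ T, ∀ x ∈ W, ⁅s, ⁅s, ⁅s, x⁆⁆⁆ = 1 := by
    intro s hs x hx
    have h1 : ⁅s, x⁆ ∈ T := by
      rw [commutatorElement_def, mul_assoc s x, mul_assoc]
      exact mul_mem hs ((mem_normalizer_iff.1 (hTN (hWY hx)) _).1 (inv_mem hs))
    exact commutatorElement_eq_one_iff_mul_comm.2
      (mem_centralizer_iff.1 (hcls (commutator_mem_commutator hs h1)) s hs)
  have hμ' : ∀ x : W, Wc t x = μ x * x := fun x => Subtype.ext (by
    show t * (x : Γ) * t⁻¹ = ⁅t, (x : Γ)⁆ * x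
    rw [commutatorElement_def]; group)
  have hν' : ∀ x : W, Wc t⁻¹ x = ν x * x := fun x => Subtype.ext (by
    show t⁻¹ * (x : Γ) * t⁻¹⁻¹ = ⁅t⁻¹, (x : Γ)⁆ * x
    rw [commutatorElement_def]; group)
  have h1 : ∀ x y : W, δ (μ x) y = δ x (ν y) := by
    intro x y
    have e := hδH t htH x (Wc t⁻¹ y)
    rw [show Wc t (Wc t⁻¹ y) = y by simpa using hWcc t⁻¹ y, hμ', hν', hδl, hδr] at e
    exact mul_right_cancel e
  have h2 : ∀ x y : W, β (μ x) y = β x (ν y) * δ x (ν y) * δ x y := by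
    intro x y
    have e : β (Wc t x) y = δ x (Wc t⁻¹ y) * β x (Wc t⁻¹ y) := Subtype.ext (by
      show π ⁅t * (x : Γ) * t⁻¹, (y : Γ)⁆ = π ⁅t, ⁅(x : Γ), t⁻¹ * y * t⁻¹⁻¹⁆⁆ * π ⁅(x : Γ), t⁻¹ * y * t⁻¹⁻¹⁆
      rw [← map_mul]
      congr 1
      simp only [commutatorElement_def]; group)
    rw [hμ', hν', hβl, hδr, hβr] at e
    refine mul_right_cancel (b := β x y) ?_
    rw [e]
    ac_rfl
  have hp5 := B.five
  have hdp : ∀ x y : W, ∀ j : ℕ, j = 2 ∨ j = 3 → δ x y ^ j = 1 → δ x y = 1 := by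
    intro x y j hj e
    have hp1 : δ x y ^ p = 1 := by
      refine Subtype.ext ?_
      rw [SubgroupClass.coe_pow]
      show π ⁅t, ⁅(x : Γ), (y : Γ)⁆⁆ ^ p = 1
      have hp' : ∀ i : ℕ, π ⁅t, ⁅(x : Γ), (y : Γ)⁆ ^ i⁆ = π ⁅t, ⁅(x : Γ), (y : Γ)⁆⁆ ^ i := by
        intro i
        induction i with
        | zero => simp
        | succ i ih =>
          rw [pow_succ, htmul _ (pow_mem (commutator_mem_commutator x.2 y.2) i) _
            (commutator_mem_commutator x.2 y.2), ih, pow_succ]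
      rw [← hp', hpD _ x.2 _ y.2, commutatorElement_one_right, map_one]
    refine orderOf_eq_one_iff.1 (Nat.eq_one_of_dvd_coprimes ?_ (orderOf_dvd_of_pow_eq_one hp1)
      (orderOf_dvd_of_pow_eq_one e))
    refine ((Fact.out : p.Prime).coprime_iff_not_dvd).2 fun h => ?_
    have := Nat.le_of_dvd (by omega) h
    omega
  have final := pairing_eq_one (Ma := {x : W | (x : Γ) ∈ Ma}) (Mb := {x : W | (x : Γ) ∈ Mb}) μ ν β δ
    (fun x hx => hclosed t htH Ma hMa _ hx) (fun y hy => hclosed t⁻¹ (inv_mem htH) Mb hMb _ hy)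
    (fun x _ y _ => h1 x y) (fun x _ y _ => h2 x y)
    (fun x _ y _ => (hW0zero _ y (by
      show ⁅t, ⁅t, ⁅t, (x : Γ)⁆⁆⁆ ∈ W0
      rw [hcube t ht _ x.2]; exact one_mem W0)).1)
    (fun x _ y _ => by
      have h0 : ((ν (ν (ν y))) : Γ) ∈ W0 := by
        show ⁅t⁻¹, ⁅t⁻¹, ⁅t⁻¹, (y : Γ)⁆⁆⁆ ∈ W0
        rw [hcube t⁻¹ (inv_mem ht) _ y.2]; exact one_mem W0
      exact ⟨by rw [hβsym _ x, (hW0zero _ x h0).1, inv_one], by rw [hδsym _ x, (hW0zero _ x h0).2, inv_one]⟩)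
    (fun y hy hall x _ => by
      have h0 := hnondeg Mb Ma hMb hMa hsym y hy fun x' hx' => by rw [hδsym x' y, hall x' hx', inv_one]
      rw [hβsym y x, (hW0zero y x h0).1, inv_one])
    (fun x hx hall y _ => (hW0zero x y (hnondeg Ma Mb hMa hMb ⟨x0, y0, hx0, hy0, hxy0⟩ x hx hall)).1)
    (fun x _ y _ => hdp x y 2 (Or.inl rfl)) (fun x _ y _ => hdp x y 3 (Or.inr rfl))
  exact hxy0 (final x0 hx0 y0 hy0)

/-- **Stable class two subgroups of the intersection of invariant Sylow subgroups lie in the `p`-core.** -/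
theorem le_Q_of_stable (hTP : ∀ t ∈ T, InAll p G A t) (hTN : Y ≤ normalizer (T : Set Γ))
    (hcls : ⁅T, T⁆ ≤ centralizer (T : Set Γ)) (hst : Stable T Y) : T ≤ Q := by
  haveI := B.normG
  haveI := B.normY
  haveI := B.cen_normal
  haveI := B.normQ
  have hTG : T ≤ G := fun t ht => (hTP t ht).1
  have hcen := cen_le_Q B hTP hTN
  have hser0 := le_trivSeries_cen B hTN hTP hst
  suffices key : ∀ L : Subgroup Γ, L.Normal → L ≤ G → Q ≤ L → T ≤ L → T ≤ Q from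
    key G B.normG le_rfl B.leG hTG
  intro L
  induction L using WellFoundedLT.induction with
  | _ L ih =>
  intro hL hLG hQL hTL
  haveI := hL
  haveI := CfsgLib.CFun.trivSeries_normal (⊥ : Subgroup Γ) (cen Y)
  by_cases hser : L ≤ trivSeries ⊥ (cen Y)
  swap
  · exact ih (L ⊓ trivSeries ⊥ (cen Y)) (lt_of_le_of_ne inf_le_left fun e => hser (inf_eq_left.1 e))
      inferInstance (inf_le_left.trans hLG)
      (le_inf hQL (CfsgLib.CFun.le_trivSeries B.pQ (B.pY.to_le inf_le_left))) (le_inf hTL hser0)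
  have hcentral : CentBy p L (cen Y) := fun x hx hxp => CfsgLib.CFun.commute_of_mem_trivSeries hxp
    (fun l hl => by rw [mem_bot.1 hl]; exact Commute.one_right x) (cen Y) B.cen_normal bot_le
    (B.pY.to_le inf_le_left) (hser hx)
  by_cases hY : CentBy p L Y
  · exact hTL.trans (B.maxQ L hL hLG (CfsgLib.CFun.isPGroup_of_forall fun x hx hxp =>
      B.eq_one (hLG hx) hxp (hY x hx hxp)))
  obtain ⟨W, ⟨hWn, hWY, hWc⟩, hWmin⟩ := (Set.toFinite
    {W : Subgroup Γ | W.Normal ∧ W ≤ Y ∧ ¬ CentBy p L W}).exists_minimal ⟨Y, B.normY, le_rfl, hY⟩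
  haveI := hWn
  have hWp : IsPGroup p W := B.pY.to_le hWY
  set Kr := closure {x | x ∈ L ∧ ¬ p ∣ orderOf x} with hKr
  haveI : Kr.Normal := closure_pprime_normal hL
  have hcentKr : ∀ X : Subgroup Γ, CentBy p L X → Kr ≤ centralizer (X : Set Γ) := fun X hX =>
    (closure_le _).2 fun x hx => mem_centralizer_iff.2 fun y hy => (hX x hx.1 hx.2 y hy).symm.eq
  set W0 := W ⊓ centralizer (Kr : Set Γ) with hW0def
  haveI : W0.Normal := normal_inf_normal _ _
  have hW0c : ∀ x ∈ W0, ∀ y ∈ Kr, Commute y x := fun x hx y hy => mem_centralizer_iff.1 hx.2 y hy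
  have hW0lt : W0 < W := lt_of_le_of_ne inf_le_left fun e => hWc fun x hx hxp y hy =>
    hW0c y (e.symm.le hy) x (subset_closure ⟨hx, hxp⟩)
  have hmax : ∀ F : Subgroup Γ, F.Normal → F ≤ W → F ≠ W → F ≤ W0 := by
    intro F hF hFW hne
    have hFc : CentBy p L F := by
      by_contra h
      exact hne (le_antisymm hFW (hWmin ⟨hF, hFW.trans hWY, h⟩ hFW))
    exact le_inf hFW (le_centralizer_iff.1 (hcentKr F hFc))
  have hcenW0 : W ⊓ cen Y ≤ W0 := le_inf inf_le_left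
    (inf_le_right.trans (le_centralizer_iff.1 (hcentKr _ hcentral)))
  have hWK : W ≤ ⁅W, Kr⁆ := by
    haveI : (⁅W, Kr⁆ : Subgroup Γ).Normal := Subgroup.commutator_normal _ _
    by_contra hne
    have hle : ⁅W, Kr⁆ ≤ W0 := hmax _ inferInstance (commutator_le_left W Kr) fun e => hne e.ge
    refine hWc fun x hx hxp y hy => ?_
    have h1 : ⁅x, y⁆ ∈ W0 := by
      rw [← commutatorElement_inv]
      exact inv_mem (hle (commutator_mem_commutator hy (subset_closure ⟨hx, hxp⟩)))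
    exact commute_of_commute_commutator hWp hxp h1.1 (hW0c _ h1 x (subset_closure ⟨hx, hxp⟩))
  have hW0W : ∀ x ∈ W0, ∀ y ∈ W, Commute x y := by
    have hc : ⁅⁅W, Kr⁆, W0⁆ = ⊥ := by
      refine commutator_commutator_eq_bot_of_rotate ?_ ?_
      · rw [commutator_eq_bot_iff_le_centralizer.2 (le_centralizer_iff.1 inf_le_right : Kr ≤ centralizer (W0 : Set Γ)),
          commutator_bot_left]
      · rw [commutator_eq_bot_iff_le_centralizer]
        refine le_trans ?_ (le_centralizer_iff.1 (hcentKr _ hcentral))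
        exact (commutator_mono (inf_le_left.trans hWY) hWY).trans B.classTwo
    rw [le_antisymm (commutator_le_left W Kr) hWK, commutator_eq_bot_iff_le_centralizer] at hc
    exact fun x hx y hy => mem_centralizer_iff.1 (hc hy) x hx
  have hder := commute_derived B hL hTL hTN hcls hser hWn hWY inferInstance hW0lt hmax hW0W
    (fun x hx => hcenW0 ⟨pow_mem hx p, B.powY x (hWY hx)⟩)
  have hch : Cfsg.IsChiefFactor W W0 := ⟨hW0lt, hWn, inferInstance, fun F hF h1 h2 => by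
    by_cases e : F = W
    · exact Or.inr e
    · exact Or.inl (le_antisymm (hmax F hF h2 e) h1)⟩
  have hTW : ∀ t ∈ T, ∀ w ∈ W, ⁅t, w⁆ ∈ W0 := by
    intro t ht
    refine commutator_mem_of_quadratic B.five B.cop B.solv (hTP t ht) hch hWp fun w hw => ?_
    have hnw := hTN (hWY hw)
    have hmemT : ∀ s ∈ T, ⁅s, w⁆ ∈ T := fun s hs => by
      rw [commutatorElement_def, mul_assoc s w, mul_assoc]
      exact mul_mem hs ((mem_normalizer_iff.1 hnw _).1 (inv_mem hs))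
    have h2 := hst w (hWY hw) (fun s hs => ?_) (fun z hz => ?_) t ht
    · rw [show ⁅t, ⁅t, w⁆⁆ = 1 from commutatorElement_eq_one_iff_mul_comm.2 (commute_of_mem_cen h2 ht).symm.eq]
      exact one_mem W0
    · have hW' : ⁅⁅s, w⁆, w⁆ ∈ ⁅W, W⁆ := by
        refine commutator_mem_commutator ?_ hw
        rw [commutatorElement_def]
        exact mul_mem (hWn.conj_mem w hw s) (inv_mem hw)
      exact mem_inf.2 ⟨hmemT _ (hmemT s hs),
        mem_centralizer_iff.2 fun s' hs' => (hder s' hs' _ hW').eq⟩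
    · have h1 : ⁅z, w⁆ ∈ cen Y := B.commY (commutator_mem_commutator (hcen hz) (hWY hw))
      exact commutatorElement_eq_one_iff_mul_comm.2 (commute_of_mem_cen h1 (hWY hw)).eq
  refine ih (L ⊓ trivOn W0 W) (lt_of_le_of_ne inf_le_left fun e => hWc fun x hx hxp y hy => ?_) inferInstance
    (inf_le_left.trans hLG) (le_inf hQL fun q hq => mem_trivOn.2 fun w hw => hcenW0 ⟨?_, ?_⟩)
    (le_inf hTL fun t ht => mem_trivOn.2 (hTW t ht))
  · have h1 := mem_trivOn.1 ((e.symm.le hx : x ∈ L ⊓ trivOn W0 W).2) y hy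
    exact commute_of_commute_commutator hWp hxp h1.1 (hW0c _ h1 x (subset_closure ⟨hx, hxp⟩))
  · rw [commutatorElement_def]
    exact W.mul_mem (hWn.conj_mem w hw q) (W.inv_mem hw)
  · exact B.commY (commutator_mem_commutator hq (hWY hw))

end CfsgLib.EquivZJ
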